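import Cfsg.Agent.Lib.Mon.A1

/-! The lattice side for a coordinate permutation of type `1^6 3^6`: fixed classes, order bound. -/

set_option autoImplicit false
set_option maxRecDepth 100000
set_option Elab.async false

namespace Cfsg.Lib.Leech.A3

open Golay Subgroup Spor

theorem hx3 : gc.InH M24 x3 := inH_of_inM24 (by decide +kernel)

/-- the element of order three. -/
noncomputable abbrev b0 : Co0 := prm ⟨_, hx3.2⟩

theorem impl_b0 : Impl b0 m12 := impl_prm hx3 (by decide +kernel)

theorem shB_B : ∀ j < 12, shB (B j) = true := by decide +kernel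

theorem span_B : spanB m12 3 B 12 S = true := by decide +kernel

theorem sep {v w : leechLattice} (hv : Cg (b0 • v) v) (hw : Cg (b0 • w) w)
    (e : lab B 12 v = lab B 12 w) : Cg v w :=
  sep_of_spanB impl_b0 (by norm_num) shB_B span_B hv hw e

theorem tab0 : allR 0 512 (tabB m12 B 12 Tb) = true := by decide +kernel
theorem tab1 : allR 512 512 (tabB m12 B 12 Tb) = true := by decide +kernel
theorem tab2 : allR 1024 512 (tabB m12 B 12 Tb) = true := by decide +kernel
theorem tab3 : allR 1536 512 (tabB m12 B 12 Tb) = true := by decide +kernel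
theorem tab4 : allR 2048 512 (tabB m12 B 12 Tb) = true := by decide +kernel
theorem tab5 : allR 2560 512 (tabB m12 B 12 Tb) = true := by decide +kernel
theorem tab6 : allR 3072 512 (tabB m12 B 12 Tb) = true := by decide +kernel
theorem tab7 : allR 3584 512 (tabB m12 B 12 Tb) = true := by decide +kernel

theorem tab (e : ℕ) (he : e < 2 ^ 12) : tabB m12 B 12 Tb e = true := by
  rcases (by omega : (0 ≤ e ∧ e < 0 + 512) ∨
    (512 ≤ e ∧ e < 512 + 512) ∨
    (1024 ≤ e ∧ e < 1024 + 512) ∨
    (1536 ≤ e ∧ e < 1536 + 512) ∨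
    (2048 ≤ e ∧ e < 2048 + 512) ∨
    (2560 ≤ e ∧ e < 2560 + 512) ∨
    (3072 ≤ e ∧ e < 3072 + 512) ∨
    (3584 ≤ e ∧ e < 3584 + 512)) with
    h | h | h | h | h | h | h | h
  exacts [allR_iff.1 tab0 e h.1 h.2,
    allR_iff.1 tab1 e h.1 h.2,
    allR_iff.1 tab2 e h.1 h.2,
    allR_iff.1 tab3 e h.1 h.2,
    allR_iff.1 tab4 e h.1 h.2,
    allR_iff.1 tab5 e h.1 h.2,
    allR_iff.1 tab6 e h.1 h.2,
    allR_iff.1 tab7 e h.1 h.2]

theorem four_card : (four Tb 12).card = 1701 := (card_four Tb 12).trans (by decide +kernel)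

theorem fixCw_x3 : fixCw x3 = 64 := by decide +kernel

theorem card_C24 : Nat.card ↥(M24 ⊓ centralizer {gc.dec x3}) ≤ 1080 := by
  have h1 := card_le_orbit_mul (K := M24 ⊓ centralizer {gc.dec x3})
    (L := M23 ⊓ centralizer {gc.dec x3}) (gc.pt 23) (om 0x860007)
    (fun g hg => mem_fix_x3 hg.2 (by decide) (by decide)) (fun g hg e => ⟨⟨hg.1, e⟩, hg.2⟩)
  have h2 := card_le_orbit_mul (K := M23 ⊓ centralizer {gc.dec x3})
    (L := M22 ⊓ centralizer {gc.dec x3}) (gc.pt 0) ((om 0x860007).erase none)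
    (fun g hg => Finset.mem_erase.mpr ⟨fun e => absurd (g.injective (e.trans (show g none = none
      from hg.1.2).symm)) (by decide), mem_fix_x3 hg.2 (by decide) (by decide)⟩)
    (fun g hg e => ⟨⟨hg.1, e⟩, hg.2⟩)
  have h3 := card_C22_x3
  rw [Finset.card_erase_of_mem (none_mem_om.mpr (by decide))] at h2
  rw [card_om, show pop24 0x860007 = 6 by decide +kernel] at h1 h2
  omega

theorem card_cent : Nat.card (centralizer ({b0} : Set Co0)) ≤ 117573120 := by
  have h := card_cent_le (d := 12) hx3 (B := B) sep (four Tb 12) fun k hk =>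
    lab_mem_four impl_b0 shB_B tab sep ((cg_e8 _).cent hk) (by rw [sqNorm_smul, sqNorm_e8])
  have h2 := card_C24
  rw [four_card, fixCw_x3] at h
  exact h.trans (by omega)

theorem reps : ∃ f : Fin (2 ^ (2 * 6)) → leechLattice, (∀ i, b0 • f i = f i) ∧
    (∀ i j, (∃ u, f i - f j = 2 • u) → i = j) ∧
    ∀ v : leechLattice, b0 • v = v → ∃ i u, v - f i = 2 • u :=
  reps_of_tab (d := 12) (B := B) (f := fun e => vec (Tb e)) sep fun e he =>
    (of_tabB impl_b0 shB_B (tab e he)).2.2

end Cfsg.Lib.Leech.A3
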