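import Cfsg.Agent.Lib.Comp.U43x.Mat
import Cfsg.Agent.Lib.Comp.Subst
import Cfsg.Agent.Lib.Core.PCore

/-! Recognition of a group of shape `3.U₄(3).2` from the presentation of `U₄(3)`. -/

set_option autoImplicit false
set_option maxRecDepth 100000

namespace Cfsg.Lib.Leech.A3

open Subgroup Cfsg.Lib.Comp

theorem iv_key : ∀ x < 64, U43x.iv x < 64 ∧ (((x = 0 ∨ 12 ≤ x) ∧ U43x.iv x = x) ∨
    ([x, U43x.iv x], 0) ∈ U43x.R ∨ ([U43x.iv x, x], 0) ∈ U43x.R ∨
    (U43x.iv x = x ∧ ([x], 1) ∈ U43x.R)) := by decide +kernel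

theorem ivOK_of_rels {Γ : Type*} [Group Γ] {δ : ℕ → Γ} (h : Rels δ U43x.R)
    (h0 : ∀ x, x = 0 ∨ 12 ≤ x → δ x = 1) : IvOK δ U43x.iv := by
  refine ⟨h0 0 (Or.inl rfl), fun x hx => ⟨(iv_key x hx).1, ?_⟩⟩
  rcases (iv_key x hx).2 with ⟨a, e⟩ | a | a | ⟨e, a⟩
  · rw [e, h0 x a, inv_one]
  · have := h _ a
    simp only [ev_cons, ev_nil, mul_one, zero_add, pow_one] at this
    exact eq_inv_of_mul_eq_one_right this
  · have := h _ a
    simp only [ev_cons, ev_nil, mul_one, zero_add, pow_one] at this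
    exact eq_inv_of_mul_eq_one_left this
  · have := h _ a
    simp only [ev_cons, ev_nil, mul_one] at this
    rw [e]; exact eq_inv_of_mul_eq_one_left (by rw [← this, pow_succ, pow_one])

theorem normal_sub {T : Type*} [Group T] (n : T) :
    ((zpowers n).subgroupOf (centralizer {n})).Normal := ⟨fun x hx k => by
  obtain ⟨i, hi⟩ := mem_subgroupOf.1 hx
  have h : (k : T) * x = x * k := by
    rw [← hi]; exact (Commute.zpow_right (mem_centralizer_singleton_iff.1 k.2) i).eq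
  rw [mem_subgroupOf, coe_mul, coe_mul, h, coe_inv, mul_inv_cancel_right]
  exact ⟨i, hi⟩⟩

theorem shape {T : Type} [Group T] [Finite T] {n t : T} (hn : orderOf n = 3)
    (ht : t * n * t⁻¹ = n⁻¹) {g : ℕ → T} (hc : ∀ x, g x ∈ centralizer {n})
    (h0 : ∀ x, x = 0 ∨ 12 ≤ x → g x ∈ zpowers n)
    (hR : ∀ r ∈ U43x.R, ev g r.1 ^ (r.2 + 1) ∈ zpowers n) (h1 : g 1 ∉ zpowers n)
    (hT : Nat.card T ≤ 6 * 3265920) :
    (∃ (N M : Subgroup T) (_ : N.Normal) (_ : M.Normal), N ≤ M ∧ Nat.card N = 3 ∧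
      (∃ (K : Type) (_ : Field K) (_ : Fintype K), Fintype.card K = 9 ∧
        Nonempty (M ⧸ N.subgroupOf M ≃* PSU 4 K 3)) ∧ M.index = 2) ∧
    (∀ P : Subgroup T, P.Normal → P = ⊥ ∨ n ∈ P ∨ g 5 ^ 3 ∈ P) ∧ pCore 2 T = ⊥ := by
  have := normal_sub n
  set M := centralizer ({n} : Set T) with hM
  set N := zpowers n with hN
  have hNM : N ≤ M := zpowers_le_of_mem (mem_centralizer_singleton_iff.2 rfl)
  have cN : Nat.card N = 3 := by rw [hN, Nat.card_zpowers, hn]
  have n3 : n ^ 3 = 1 := hn ▸ pow_orderOf_eq_one n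
  let g' : ℕ → M := fun x => ⟨g x, hc x⟩
  let φ := QuotientGroup.mk' (N.subgroupOf M)
  have hφ : ∀ m : M, φ m = 1 ↔ (m : T) ∈ N := fun m => QuotientGroup.eq_one_iff m
  have hrel : Rels (fun x => φ (g' x)) U43x.R := fun r hr => by
    rw [← ev_map, ← map_pow, hφ, coe_pow]
    have := ev_map g' M.subtype r.1
    rw [coe_subtype] at this
    rw [this]; exact hR r hr
  obtain ⟨e⟩ := (embed_of_rels U43x.simple U43x.nets_iv U43x.nets_rel U43x.ord U43x.lb
    (ivOK_of_rels hrel fun x hx => (hφ _).2 (h0 x hx)) hrel (x := 1) (by decide)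
    (fun h => h1 ((hφ _).1 h))).nonempty
  have c1 : Nat.card (cl (fun x => φ (g' x)) U43x.L) = 3265920 :=
    (Nat.card_congr e.toEquiv).symm.trans U43x.card
  have c2 := card_le_of_le (le_top (a := cl (fun x => φ (g' x)) U43x.L))
  rw [card_top, c1] at c2
  have c3 := card_eq_card_quotient_mul_card_subgroup (N.subgroupOf M)
  rw [Nat.card_congr (subgroupOfEquivOfLe hNM).toEquiv, cN] at c3
  have htM : t ∉ M := fun h => by
    rw [mem_centralizer_singleton_iff.1 h, mul_inv_cancel_right] at ht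
    have h2 : n ^ 2 = 1 := by rw [sq]; nth_rewrite 2 [ht]; exact mul_inv_cancel n
    have := orderOf_dvd_of_pow_eq_one h2
    rw [hn] at this; omega
  have i1 : M.index ≠ 1 := fun h => htM (index_eq_one.1 h ▸ mem_top t)
  have i0 : M.index ≠ 0 := index_ne_zero_of_finite
  have c4 := M.index_mul_card
  have i2 : M.index = 2 := by
    by_contra h
    have : 3 * Nat.card M ≤ M.index * Nat.card M := Nat.mul_le_mul_right _ (by omega)
    omega
  have c5 : Nat.card (M ⧸ N.subgroupOf M) ≤ 3265920 := by rw [i2] at c4; omega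
  have top : cl (fun x => φ (g' x)) U43x.L = ⊤ := eq_top_of_le_card _ (by rw [c1]; exact c5)
  let e' : cl (gp U43x.nets) U43x.L ≃* M ⧸ N.subgroupOf M :=
    (e.trans (MulEquiv.subgroupCongr top)).trans topEquiv
  have hMn : M.Normal := normal_of_index_eq_two i2
  have hNn : N.Normal := ⟨by
    rintro _ ⟨i, rfl⟩ a
    rw [← conj_zpow]
    refine zpow_mem ?_ i
    by_cases ha : a ∈ M
    · rw [mem_centralizer_singleton_iff.1 ha, mul_inv_cancel_right]; exact mem_zpowers n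
    · have h2 : t⁻¹ * a ∈ M := (mul_mem_iff_of_index_two i2).2
        ⟨fun h => absurd (inv_mem_iff.1 h) htM, fun h => absurd h ha⟩
      have h3 : a * n * a⁻¹ = t * (t⁻¹ * a * n * (t⁻¹ * a)⁻¹) * t⁻¹ := by group
      rw [h3, mem_centralizer_singleton_iff.1 h2, mul_inv_cancel_right, ht]
      exact inv_mem (mem_zpowers n)⟩
  have hS : IsSimpleGroup (M ⧸ N.subgroupOf M) := by
    have := U43x.simple
    have : Nontrivial (M ⧸ N.subgroupOf M) := e'.symm.toEquiv.nontrivial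
    exact IsSimpleGroup.isSimpleGroup_of_surjective e'.toMonoidHom e'.surjective
  have main : ∀ P : Subgroup T, P.Normal → P = ⊥ ∨ n ∈ P ∨ ∀ m ∈ M, ∃ i : ℤ, m * n ^ i ∈ P := by
    intro P hP
    rcases (Normal.map (H := P.subgroupOf M) inferInstance φ
      (QuotientGroup.mk'_surjective _)).eq_bot_or_eq_top with h | h
    · by_cases hn' : n ∈ P
      · exact Or.inr (Or.inl hn')
      have h2 : ∀ u ∈ P, u ∈ M → u = 1 := fun u hu hu' => by
        have h3 : u ∈ N := (hφ ⟨u, hu'⟩).1 ((Subgroup.eq_bot_iff_forall _).1 h _ ⟨_, hu, rfl⟩)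
        by_contra h4
        have : Fact (Nat.Prime 3) := ⟨Nat.prime_three⟩
        have h5 := mem_zpowers_of_prime_card cN (g := ⟨u, h3⟩) (g' := ⟨n, mem_zpowers n⟩)
          (fun e => h4 (congrArg Subtype.val e))
        obtain ⟨i, hi⟩ := h5
        have h6 : u ^ i = n := congrArg Subtype.val hi
        exact hn' (h6 ▸ zpow_mem hu i)
      refine Or.inl ((Subgroup.eq_bot_iff_forall _).2 fun u hu => h2 u hu ?_)
      have h3 := h2 (u * n * u⁻¹ * n⁻¹) (by
        rw [mul_assoc u, mul_assoc u]; exact mul_mem hu (hP.conj_mem _ (inv_mem hu) n))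
        (hNM (mul_mem (hNn.conj_mem _ (mem_zpowers n) u) (inv_mem (mem_zpowers n))))
      rw [mul_inv_eq_one, mul_inv_eq_iff_eq_mul] at h3
      exact mem_centralizer_singleton_iff.2 h3
    · refine Or.inr (Or.inr fun m hm => ?_)
      obtain ⟨u, hu, e⟩ : φ ⟨m, hm⟩ ∈ (P.subgroupOf M).map φ := h ▸ mem_top _
      obtain ⟨i, hi⟩ := (hφ ((⟨m, hm⟩ : M)⁻¹ * u)).1 (by rw [map_mul, map_inv, e, inv_mul_cancel])
      refine ⟨i, ?_⟩
      have h2 : n ^ i = m⁻¹ * u := hi
      rw [h2, mul_inv_cancel_left]; exact hu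
  have cube : ∀ m ∈ M, ∀ i : ℤ, (m * n ^ i) ^ 3 = m ^ 3 := fun m hm i => by
    rw [(Commute.zpow_right (mem_centralizer_singleton_iff.1 hm) i).mul_pow, ← zpow_natCast (n ^ i),
      ← zpow_mul, mul_comm i, zpow_mul, zpow_natCast, n3, one_zpow, mul_one]
  have : Fact (Nat.Prime 3) := ⟨Nat.prime_three⟩
  refine ⟨⟨N, M, hNn, hMn, hNM, cN, ⟨GaloisField 3 2, inferInstance, Fintype.ofFinite _, ?_⟩, i2⟩,
    fun P hP => (main P hP).imp_right (Or.imp_right fun h => ?_), ?_⟩
  · have hK : @Fintype.card (GaloisField 3 2) (Fintype.ofFinite _) = 9 := by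
      rw [← @Nat.card_eq_fintype_card _ (Fintype.ofFinite _), GaloisField.card 3 2 (by norm_num)]; rfl
    exact ⟨hK, (@U43x.iso _ _ (Fintype.ofFinite _) hK).map fun f => e'.symm.trans f⟩
  · obtain ⟨i, hi⟩ := h _ (hc 5)
    rw [← cube _ (hc 5) i]; exact pow_mem hi 3
  · have : Fact (Nat.Prime 2) := ⟨Nat.prime_two⟩
    have odd : ∀ u ∈ pCore 2 T, u ^ 9 = 1 → u = 1 := fun u hu h => by
      obtain ⟨k, hk⟩ := Core.isPGroup_pCore (p := 2) (G := T) ⟨u, hu⟩
      have hk' : u ^ 2 ^ k = 1 := congrArg Subtype.val hk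
      rw [← orderOf_eq_one_iff]
      exact Nat.eq_one_of_dvd_coprimes (Nat.Coprime.pow_left k (by norm_num : Nat.Coprime 2 9))
        (orderOf_dvd_of_pow_eq_one hk') (orderOf_dvd_of_pow_eq_one h)
    rcases main (pCore 2 T) inferInstance with h | h | h
    · exact h
    · have := odd n h (by rw [show 9 = 3 * 3 from rfl, pow_mul, n3, one_pow])
      rw [this, orderOf_one] at hn; omega
    · obtain ⟨i, hi⟩ := h _ (hc 1)
      have h2 : g 1 ^ 3 ∈ N := by simpa [ev_single] using hR ([1], 2) List.mem_cons_self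
      have h3 := odd _ hi (by
        rw [show 9 = 3 * 3 from rfl, pow_mul, cube _ (hc 1)]
        have := pow_card_eq_one' (x := (⟨_, h2⟩ : N))
        rw [cN] at this
        exact congrArg Subtype.val this)
      exact absurd (eq_inv_of_mul_eq_one_left h3 ▸ inv_mem (zpow_mem (mem_zpowers n) i)) h1

end Cfsg.Lib.Leech.A3
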