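import Cfsg.Agent.Lib.Mon.A2
import Cfsg.Agent.Lib.Mon.A3

/-! The centralizer in `Co0` of a coordinate permutation of type `1^6 3^6`. -/

set_option autoImplicit false
set_option maxRecDepth 100000
set_option Elab.async false

namespace Cfsg.Lib.Leech.A3

open Golay Subgroup Spor
open Cfsg.Lib.Comp (ev ev_map ev_congr ev_mem ev_append ev_nil ev_single)

theorem okW_W : ∀ x < 16, okW (W x) = true := by decide +kernel

/-- the automorphisms. -/
noncomputable def G (x : ℕ) : Co0 := elt (W x)

theorem impl_G (x : ℕ) (h : x < 16) : Impl (G x) (W x) := impl_elt (okW_W x h)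

theorem G12 : G 12 = b0 := Impl.ext (impl_G 12 (by norm_num)) impl_b0 (by decide +kernel)

theorem G14 : G 14 = negOne :=
  Impl.ext (impl_G 14 (by norm_num)) (fun n v h hv => by rw [negOne_smul]; exact rep_neg h hv)
    (by decide +kernel)

theorem comm12 : ∀ x < 16, eqW W 16 [x, 12] [12, x] = true := by decide +kernel
theorem comm13 : ∀ x < 15, eqW W 16 [x, 13] [13, x] = true := by decide +kernel

/-- the automorphisms as elements of the centralizer. -/
noncomputable def c (x : ℕ) : centralizer ({b0} : Set Co0) :=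
  if h : x < 16 then ⟨G x, mem_centralizer_singleton_iff.2 (by
    simpa [G12] using eq_of_eqW impl_G (comm12 x h))⟩ else 1

theorem coe_c {x : ℕ} (h : x < 16) : (c x : Co0) = G x := by rw [c, dif_pos h]

theorem coe_ev {w : List ℕ} (h : ∀ x ∈ w, x < 16) :
    ((ev c w : centralizer ({b0} : Set Co0)) : Co0) = (w.map G).prod :=
  (ev_map c (centralizer ({b0} : Set Co0)).subtype w).trans (ev_congr _ fun x hx => coe_c (h x hx))

theorem ev_eq {w w' : List ℕ} (e : eqW W 16 w w' = true) : ev c w = ev c w' := by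
  have h := e
  simp only [eqW, band_eq, Bool.and_eq_true, allL_iff, ble_iff] at h
  refine Subtype.ext ?_
  rw [coe_ev fun x hx => h.1 x (by simp [hx]), coe_ev fun x hx => h.1 x (by simp [hx])]
  exact eq_of_eqW impl_G e

/-- the quotient map. -/
noncomputable abbrev π : centralizer ({b0} : Set Co0) →* centralizer ({b0} : Set Co0) ⧸ Nb b0 :=
  QuotientGroup.mk' (Nb b0)

theorem π_eq_one (k : centralizer ({b0} : Set Co0)) : π k = 1 ↔ k ∈ Nb b0 :=
  QuotientGroup.eq_one_iff k

theorem evπ_eq {w w' : List ℕ} (e : eqW W 16 w w' = true) :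
    ev (fun x => π (c x)) w = ev (fun x => π (c x)) w' := by
  rw [← ev_map, ← ev_map, ev_eq e]

theorem fix_B : b0 • vec (B 0) = vec (B 0) :=
  have h := rep_of_shB (shB_B 0 (by norm_num))
  (impl_b0.smul_eq h.1 h.2 h.1).2 (by decide +kernel)

/-- two words give different labels. -/
noncomputable def neB (w w' : List ℕ) : Bool :=
  band (allL (w ++ w') fun x => Nat.ble (Nat.succ x) 16)
    (bnot (Nat.beq (sigN B 12 (evW W w (B 0))) (sigN B 12 (evW W w' (B 0)))))

theorem not_cg {w w' : List ℕ} (e : neB w w' = true) :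
    ¬ Cg (((ev c w : centralizer ({b0} : Set Co0)) : Co0) • vec (B 0))
      (((ev c w' : centralizer ({b0} : Set Co0)) : Co0) • vec (B 0)) := fun h => by
  simp only [neB, band_eq, Bool.and_eq_true, allL_iff, ble_iff, bnot_iff] at e
  have h0 := rep_of_shB (shB_B 0 (by norm_num))
  have h1 : ∀ x ∈ w, x < 16 := fun x hx => e.1 x (by simp [hx])
  have h2 : ∀ x ∈ w', x < 16 := fun x hx => e.1 x (by simp [hx])
  have h3 := h.lab_eq B 12
  rw [coe_ev h1, coe_ev h2, (rep_evW impl_G h1 _ _ h0.1 h0.2).lab shB_B,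
    (rep_evW impl_G h2 _ _ h0.1 h0.2).lab shB_B] at h3
  exact e.2 (beq_iff.2 h3)

theorem cg_of_π {k l : centralizer ({b0} : Set Co0)} (h : π k = π l) {v : leechLattice}
    (hv : b0 • v = v) : Cg ((k : Co0) • v) ((l : Co0) • v) := by
  have h1 : ∀ x ∈ zpowers b0, x • v = v := fun x hx =>
    (zpowers_le_of_mem (H := MulAction.stabilizer Co0 v) hv) hx
  have h2 : l⁻¹ * k ∈ Nb b0 := (π_eq_one _).1 (by rw [map_mul, map_inv, h, inv_mul_cancel])
  have h3 : Cg (((l⁻¹ * k : centralizer ({b0} : Set Co0)) : Co0) • v) v := by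
    rcases h2 with e | e
    · rw [h1 _ e]; exact Cg.refl v
    · have := h1 _ e
      rw [mul_smul, negOne_smul, neg_eq_iff_eq_neg] at this
      rw [this]; exact Cg.neg v
  simpa [mul_smul] using h3.smul (l : Co0)

theorem evπ_ne {w w' : List ℕ} (e : neB w w' = true) :
    ev (fun x => π (c x)) w ≠ ev (fun x => π (c x)) w' := fun h => by
  rw [← ev_map, ← ev_map] at h
  exact not_cg e (cg_of_π h fix_B)

/-- the values of the relators. -/
def D : List (List ℕ) := [[], [], [], [], [], [], [], [], [13,13], [13], [14], [], [14], [12], [12], [], [13], [14,12,12], [14,13,13], [], [], [14], [], [], [12,12,13,13], [], [], [14], [], [13], [], [12,12], [], [], [14], [], [], [], []]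

theorem rel_ok : allN 39 (fun i => band (allL (getL D [] i) fun x => Nat.ble 12 x)
    (band (allL ((getL Comp.U43x.R ([], 0) i).1 ++ getL D [] i) fun x => Nat.ble x 14)
      (eqW W 16 (List.replicate ((getL Comp.U43x.R ([], 0) i).2 + 1)
        (getL Comp.U43x.R ([], 0) i).1).flatten (getL D [] i)))) = true := by decide +kernel

theorem mem_R : ∀ r ∈ Comp.U43x.R, ∃ i < 39, getL Comp.U43x.R ([], 0) i = r := by decide +kernel

theorem ev_rep {Γ : Type*} [Monoid Γ] (γ : ℕ → Γ) (w : List ℕ) (k : ℕ) :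
    ev γ (List.replicate k w).flatten = ev γ w ^ k := by
  induction k with
  | zero => rw [pow_zero]; rfl
  | succ k ih => rw [List.replicate_succ, List.flatten_cons, ev_append, ih, pow_succ']

theorem orderOf_b0 : orderOf b0 = 3 :=
  (orderOf_injective prmHom prm_injective ⟨_, hx3.2⟩).trans ((orderOf_coe _).symm.trans orderOf_x3)

/-- the generators in the quotient. -/
noncomputable def g (x : ℕ) : centralizer ({b0} : Set Co0) ⧸ Nb b0 :=
  if x < 15 then π (c x) else 1

theorem g_lt {x : ℕ} (h : x < 15) : g x = π (c x) := if_pos h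

theorem g_mem (x : ℕ) (h : x = 0 ∨ 12 ≤ x) : g x ∈ zpowers (π (c 13)) := by
  by_cases hx : x < 15
  · rw [g_lt hx]
    rcases (by omega : x = 0 ∨ x = 12 ∨ x = 13 ∨ x = 14) with rfl | rfl | rfl | rfl
    · have := evπ_eq (w := [0]) (w' := []) (by decide +kernel)
      rw [ev_single, ev_nil] at this
      rw [this]; exact one_mem _
    · rw [(π_eq_one (c 12)).2 (Or.inl (by rw [coe_c (by norm_num), G12]; exact mem_zpowers _))]
      exact one_mem _
    · exact mem_zpowers _
    · rw [(π_eq_one (c 14)).2 (Or.inr (by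
        rw [coe_c (by norm_num), G14, negOne_mul_self]; exact one_mem _))]
      exact one_mem _
  · rw [g, if_neg hx]; exact one_mem _

theorem g_cent (x : ℕ) : g x ∈ centralizer {π (c 13)} := by
  by_cases hx : x < 15
  · rw [g_lt hx, mem_centralizer_singleton_iff]
    simpa [ev] using evπ_eq (comm13 x hx)
  · rw [g, if_neg hx]; exact one_mem _

theorem g_rel : ∀ r ∈ Comp.U43x.R, ev g r.1 ^ (r.2 + 1) ∈ zpowers (π (c 13)) := fun r hr => by
  obtain ⟨i, hi, e⟩ := mem_R r hr
  have h := allN_iff.1 rel_ok i hi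
  rw [e] at h
  simp only [band_eq, Bool.and_eq_true, allL_iff, ble_iff] at h
  have h1 := evπ_eq h.2.2
  have h2 : ∀ w : List ℕ, (∀ x ∈ w, x ≤ 14) → ev g w = ev (fun x => π (c x)) w := fun w hw =>
    ev_congr _ fun x hx => g_lt (Nat.lt_succ_of_le (hw x hx))
  rw [ev_rep, ← h2 _ fun x hx => h.2.1 x (by simp [hx]),
    ← h2 _ fun x hx => h.2.1 x (by simp [hx])] at h1
  rw [h1]
  exact ev_mem fun x hx => g_mem x (Or.inr (h.1 x hx))

theorem orderOf_n : orderOf (π (c 13)) = 3 := by
  have : Fact (Nat.Prime 3) := ⟨Nat.prime_three⟩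
  refine orderOf_eq_prime ?_ ?_
  · simpa [ev, pow_succ'] using evπ_eq (w := [13, 13, 13]) (w' := []) (by decide +kernel)
  · simpa only [ev_single, ev_nil] using evπ_ne (w := [13]) (w' := []) (by decide +kernel)

theorem conj_n : π (c 15) * π (c 13) * (π (c 15))⁻¹ = (π (c 13))⁻¹ := by
  rw [mul_inv_eq_iff_eq_mul, eq_inv_mul_iff_mul_eq]
  simpa only [ev, List.map_cons, List.map_nil, List.prod_cons, List.prod_nil, mul_one] using
    evπ_eq (w := [13, 15, 13]) (w' := [15]) (by decide +kernel)

theorem g1_not : g 1 ∉ zpowers (π (c 13)) := by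
  rintro ⟨i, hi⟩
  have h := (Commute.zpow_right (mem_centralizer_singleton_iff.1 (g_cent 5)) i).eq
  have hi' : π (c 13) ^ i = g 1 := hi
  rw [hi', g_lt (x := 1) (by norm_num), g_lt (x := 5) (by norm_num)] at h
  refine evπ_ne (w := [5, 1]) (w' := [1, 5]) (by decide +kernel) ?_
  simpa only [ev, List.map_cons, List.map_nil, List.prod_cons, List.prod_nil, mul_one] using h

theorem card_T : Nat.card (centralizer ({b0} : Set Co0) ⧸ Nb b0) ≤ 6 * 3265920 := by
  have h1 := card_cent
  have h2 := le_card_Nb (b := b0) (by rw [orderOf_b0])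
  rw [card_eq_card_quotient_mul_card_subgroup (Nb b0)] at h1
  rw [orderOf_b0] at h2
  have := (Nat.mul_le_mul_left _ h2).trans h1
  omega

end A3

open Golay Subgroup Spor A3 in
/-- The centralizer of an element of type `1^6 3^6` modulo `⟨b, -1⟩` has shape `3.U₄(3).2`. -/
theorem odd3A : ∃ (s0 : M24) (T : Type) (_ : Group T) (_ : Finite T)
    (τ : centralizer ({prm s0} : Set Co0) →* T), orderOf s0 = 3 ∧ (∃ i, s0.1 i = i) ∧
    OddData (prm s0) 6 τ ∧
    ∃ (N M : Subgroup T) (_ : N.Normal) (_ : M.Normal), N ≤ M ∧ Nat.card N = 3 ∧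
      (∃ (K : Type) (_ : Field K) (_ : Fintype K), Fintype.card K = 9 ∧
        Nonempty (M ⧸ N.subgroupOf M ≃* PSU 4 K 3)) ∧ M.index = 2 := by
  obtain ⟨h1, h2, h3⟩ := shape orderOf_n conj_n g_cent g_mem g_rel g1_not card_T
  refine ⟨⟨_, hx3.2⟩, _, inferInstance, inferInstance, π, (orderOf_coe _).symm.trans orderOf_x3,
    ⟨none, hx3.1.dec_pt (i := 23) (by decide)⟩,
    ⟨QuotientGroup.mk'_surjective _, π_eq_one, faith_of (QuotientGroup.mk'_surjective _) π_eq_one
      fun P hP => (h2 P hP).imp_right fun h => ?_, reps, h3⟩, h1⟩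
  rcases h with h | h
  · refine ⟨c 13, h, _, fix_B, ?_⟩
    simpa only [Comp.ev_single, Comp.ev_nil, OneMemClass.coe_one, one_smul] using
      not_cg (w := [13]) (w' := []) (by decide +kernel)
  · refine ⟨Comp.ev c [5, 5, 5], ?_, _, fix_B, ?_⟩
    · rw [g_lt (by norm_num), ← map_pow] at h
      simpa only [Comp.ev, List.map_cons, List.map_nil, List.prod_cons, List.prod_nil, mul_one,
        pow_succ', pow_zero] using h
    · simpa only [Comp.ev_nil, OneMemClass.coe_one, one_smul] using
        not_cg (w := [5, 5, 5]) (w' := []) (by decide +kernel)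

end Cfsg.Lib.Leech
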