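import Cfsg.Agent.Lib.Mon.Def
import Cfsg.Agent.Lib.Leech.Enc
import Cfsg.Agent.Lib.Golay.Blk

/-! Classes modulo `2Λ` fixed by a permutation of odd prime order (rank eight case). -/

namespace Cfsg.Lib.Leech.OB

open Finset Golay Subgroup
open scoped Pointwise

/-- congruence modulo `2Λ` -/
def Cg (v w : leechLattice) : Prop := ∃ u, v - w = 2 • u

theorem Cg.rfl' (v : leechLattice) : Cg v v := ⟨0, by simp⟩
theorem Cg.symm {v w : leechLattice} (h : Cg v w) : Cg w v :=
  let ⟨u, h⟩ := h; ⟨-u, by rw [smul_neg, ← h]; abel⟩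
theorem Cg.trans {v w x : leechLattice} (h : Cg v w) (h' : Cg w x) : Cg v x :=
  let ⟨u, h⟩ := h; let ⟨u', h'⟩ := h'; ⟨u + u', by rw [nsmul_add, ← h, ← h']; abel⟩
theorem Cg.add {v w x y : leechLattice} (h : Cg v w) (h' : Cg x y) : Cg (v + x) (w + y) :=
  let ⟨u, h⟩ := h; let ⟨u', h'⟩ := h'; ⟨u + u', by rw [nsmul_add, ← h, ← h']; abel⟩
theorem Cg.smul {v w : leechLattice} (g : Co0) (h : Cg v w) : Cg (g • v) (g • w) :=
  let ⟨u, h⟩ := h; ⟨g • u, by rw [← co0_smul_sub, h, co0_smul_nsmul]⟩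
theorem Cg.neg (v : leechLattice) : Cg (-v) v := ⟨-v, by rw [two_nsmul]; abel⟩

/-- code of the half of a vector, shifted -/
noncomputable def hc (x : ℕ → ℤ) : ℕ := packN 8 (fun k => Int.toNat ((x k + 48) / 2)) 24

/-- test for membership in `2Λ` -/
noncomputable def half (x : ℕ → ℤ) : Bool :=
  Nat.rec (motive := fun _ => Bool) false (fun c _ => band (inL c)
    (allN 24 fun k => decide (x k + 48 = 2 * (app c k : ℤ)))) (Nat.succ (hc x))

theorem cg_of_half {v w : leechLattice} {x : ℕ → ℤ} (h : half x = true)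
    (hx : ∀ i, (v : GolayPt → ℤ) i - (w : GolayPt → ℤ) i = x (gc.idx i)) : Cg v w := by
  change band (inL (hc x)) _ = true at h
  rw [band_iff, allN_iff] at h
  refine ⟨⟨_, mem_of_inL h.1⟩ - ⟨_, eight_mul_mem fun _ => 2⟩, Subtype.ext (funext fun i => ?_)⟩
  have := of_decide_eq_true (h.2 _ (gc.idx_lt i))
  simp only [AddSubgroup.coe_sub, Pi.sub_apply, hx, two_nsmul, AddSubgroup.coe_add, Pi.add_apply,
    decV]
  omega

open Classical in
/-- the lattice vector with code `n` -/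
noncomputable def lv (n : ℕ) : leechLattice := if h : inL n = true then ⟨_, mem_of_inL h⟩ else 0

theorem lv_val {n : ℕ} (h : inL n = true) : (lv n : GolayPt → ℤ) = decV n := by
  rw [lv, dif_pos h]

/-- coordinates of the class representatives -/
def fz (U : ℕ → ℕ) (m k : ℕ) : ℤ :=
  ∑ j ∈ range 8, if m.testBit j then (app (U j) k : ℤ) - 8 else 0

/-- partial sums -/
noncomputable def fp (U : ℕ → ℕ) (m n : ℕ) : leechLattice :=
  ∑ j ∈ range n, if m.testBit j then lv (U j) else 0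

/-- class representatives -/
noncomputable def fv (U : ℕ → ℕ) (m : ℕ) : leechLattice := fp U m 8

/-- linear maps on masks -/
def lin (A : ℕ → ℕ) (m : ℕ) : ℕ → ℕ
  | 0 => 0
  | n + 1 => lin A m n ^^^ (if m.testBit n then A n else 0)

theorem lin_lt {A : ℕ → ℕ} (hA : ∀ j < 8, A j < 256) (m : ℕ) : ∀ n ≤ 8, lin A m n < 256
  | 0, _ => by simp [lin]
  | n + 1, h => Nat.xor_lt_two_pow (n := 8) (lin_lt hA m n (by omega))
      (by split_ifs; exacts [hA n (by omega), by norm_num])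

variable {U : ℕ → ℕ}

theorem fv_val (hU : ∀ j < 8, inL (U j) = true) (m : ℕ) (i : GolayPt) :
    (fv U m : GolayPt → ℤ) i = fz U m (gc.idx i) := by
  rw [fv, fp, fz, AddSubgroup.val_finsetSum, Finset.sum_apply]
  refine sum_congr rfl fun j hj => ?_
  split_ifs
  · rw [lv_val (hU j (mem_range.1 hj))]; rfl
  · rfl

theorem fv_xor (a b : ℕ) : Cg (fv U a + fv U b) (fv U (a ^^^ b)) := by
  refine ⟨∑ j ∈ range 8, if (a.testBit j && b.testBit j) then lv (U j) else 0, ?_⟩
  rw [fv, fv, fv, fp, fp, fp, ← sum_add_distrib, ← sum_sub_distrib, ← sum_nsmul]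
  refine sum_congr rfl fun j _ => ?_
  rw [Nat.testBit_xor]
  cases a.testBit j <;> cases b.testBit j <;> simp [two_nsmul]

theorem fv_zero : fv U 0 = 0 := by simp [fv, fp]

theorem smul_fv {g : Co0} {A : ℕ → ℕ} (h : ∀ j < 8, Cg (g • lv (U j)) (fv U (A j))) (m : ℕ) :
    Cg (g • fv U m) (fv U (lin A m 8)) := by
  have : ∀ n ≤ 8, Cg (g • fp U m n) (fv U (lin A m n)) := by
    intro n
    induction n with
    | zero => intro _; rw [fp, sum_range_zero, co0_smul_zero, lin, fv_zero]; exact Cg.rfl' _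
    | succ n ih =>
      intro hn
      rw [fp, sum_range_succ, co0_smul_add, lin]
      refine ((ih (by omega)).add ?_).trans (fv_xor _ _)
      split_ifs
      · exact h n (by omega)
      · rw [co0_smul_zero, fv_zero]; exact Cg.rfl' _
  exact this 8 le_rfl

theorem fv_inj (hU : ∀ j < 8, inL (U j) = true)
    (hn : ∀ m < 256, m ≠ 0 → ∃ j < 8,
      ¬ (16 : ℤ) ∣ ∑ k ∈ range 24, fz U m k * ((app (U j) k : ℤ) - 8))
    {a b : ℕ} (ha : a < 256) (hb : b < 256) (h : Cg (fv U a) (fv U b)) : a = b := by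
  by_contra hne
  obtain ⟨j, hj, h1⟩ := hn (a ^^^ b) (Nat.xor_lt_two_pow (n := 8) ha hb)
    (fun e => hne (Nat.xor_eq_zero_iff.1 e))
  obtain ⟨u, hu⟩ := ((fv_xor (U := U) a b).symm.trans (h.add (Cg.rfl' _))).trans
    (show Cg (fv U b + fv U b) 0 from ⟨fv U b, by rw [sub_zero, two_nsmul]⟩)
  apply h1
  have h2 : ∑ k ∈ range 24, fz U (a ^^^ b) k * ((app (U j) k : ℤ) - 8) =
      dotInt (fv U (a ^^^ b) : GolayPt → ℤ) (lv (U j) : GolayPt → ℤ) := by
    rw [← sum_gc fun k => fz U (a ^^^ b) k * ((app (U j) k : ℤ) - 8), lv_val (hU j hj)]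
    exact sum_congr rfl fun i _ => by rw [fv_val hU]; rfl
  rw [sub_zero] at hu
  rw [h2, hu, show ((2 • u : leechLattice) : GolayPt → ℤ) = (2 : ℤ) • (u : GolayPt → ℤ) by
    rw [two_nsmul, two_smul]; rfl, dotInt_zsmul_left]
  exact mul_dvd_mul_left 2 (eight_dvd_dot u.2 (lv (U j)).2)

theorem le_of_genC {M : AddSubgroup (GolayPt → ℤ)} (hg : ∀ t < 37, decV (genC t) ∈ M) :
    leechLattice ≤ M := by
  apply leech_le_of_gens
  · convert hg 12 (by norm_num) using 1
    decide +kernel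
  · intro t ht
    convert hg t (by omega) using 1
    funext i
    simp only [twoInd, Coding.mem_ofMask]
    revert t i; decide +kernel
  · convert hg 11 (by norm_num) using 1
    funext i
    simp only [twoInd, Coding.mem_ofMask]
    revert i; decide +kernel
  · intro i
    convert hg (gc.idx i + 13) (by have := gc.idx_lt i; rw [gc_n] at this; omega) using 1
    revert i; decide +kernel

theorem inL_genC : ∀ t < 37, inL (genC t) = true := by decide +kernel

theorem idx_pow {z : ℕ} (hz : gc.Valid z) (e : ℕ) (i : GolayPt) :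
    gc.idx ((gc.dec z ^ e) i) = (app z)^[e] (gc.idx i) := by
  induction e with
  | zero => rfl
  | succ e ih => rw [pow_succ', Equiv.Perm.mul_apply, hz.idx_dec, ih, Function.iterate_succ_apply']

theorem span {z : ℕ} (hz : gc.InH M24 z) {p : ℕ} (hp : Odd p) (hU : ∀ j < 8, inL (U j) = true)
    {N : ℕ → ℕ} (hN : ∀ t < 37, N t < 256 ∧ half (fun k =>
      (∑ e ∈ range p, ((app (genC t) ((app z)^[e] k) : ℤ) - 8)) - fz U (N t) k) = true)
    {v : leechLattice} (hv : prm ⟨_, hz.2⟩ • v = v) : ∃ m < 256, Cg v (fv U m) := by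
  let s : M24 := ⟨_, hz.2⟩
  let Nm : leechLattice → leechLattice := fun x => ∑ e ∈ range p, prm (s ^ e)⁻¹ • x
  have hNv : ∀ (x : leechLattice) i, (Nm x : GolayPt → ℤ) i =
      ∑ e ∈ range p, (x : GolayPt → ℤ) ((gc.dec z ^ e) i) := by
    intro x i
    rw [AddSubgroup.val_finsetSum, Finset.sum_apply]
    exact sum_congr rfl fun e _ => by rw [prm_smul]; rfl
  let M : AddSubgroup (GolayPt → ℤ) :=
    { carrier := {x | ∃ hx : x ∈ leechLattice, ∃ m < 256, Cg (Nm ⟨x, hx⟩) (fv U m)}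
      zero_mem' := ⟨zero_mem _, 0, by norm_num, by
        rw [fv_zero]
        exact ⟨0, by
          show ∑ e ∈ range p, prm (s ^ e)⁻¹ • (0 : leechLattice) - 0 = _
          simp [co0_smul_zero]⟩⟩
      add_mem' := by
        rintro x y ⟨hx, a, ha, h1⟩ ⟨hy, b, hb, h2⟩
        refine ⟨add_mem hx hy, a ^^^ b, Nat.xor_lt_two_pow (n := 8) ha hb, ?_⟩
        have : Nm ⟨x + y, add_mem hx hy⟩ = Nm ⟨x, hx⟩ + Nm ⟨y, hy⟩ := by
          rw [← sum_add_distrib]
          exact sum_congr rfl fun e _ => co0_smul_add _ ⟨x, hx⟩ ⟨y, hy⟩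
        rw [this]
        exact (h1.add h2).trans (fv_xor _ _)
      neg_mem' := by
        rintro x ⟨hx, a, ha, h1⟩
        refine ⟨neg_mem hx, a, ha, ?_⟩
        have : Nm ⟨-x, neg_mem hx⟩ = -Nm ⟨x, hx⟩ := by
          rw [← sum_neg_distrib]
          exact sum_congr rfl fun e _ => co0_smul_neg _ ⟨x, hx⟩
        rw [this]
        exact (Cg.neg _).trans h1 }
  have hM : leechLattice ≤ M := le_of_genC fun t ht =>
    ⟨mem_of_inL (inL_genC t ht), N t, (hN t ht).1, cg_of_half (hN t ht).2 fun i => by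
      rw [hNv, fv_val hU]
      congr 1
      exact sum_congr rfl fun e _ => by rw [← idx_pow hz.1]; rfl⟩
  obtain ⟨_, m, hm, h⟩ := hM v.2
  refine ⟨m, hm, Cg.trans ?_ h⟩
  have h1 : ∀ e, prm (s ^ e)⁻¹ • v = v := by
    intro e
    rw [prm_inv, inv_smul_eq_iff]
    induction e with
    | zero => rw [pow_zero, prm_one, one_smul]
    | succ e ih => rw [pow_succ, prm_mul, mul_smul, hv, ← ih]
  obtain ⟨r, rfl⟩ := hp
  refine ⟨-(r • v), ?_⟩
  show v - ∑ e ∈ range (2 * r + 1), prm (s ^ e)⁻¹ • v = _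
  simp only [h1, sum_const, card_range]
  rw [smul_neg, smul_smul, add_nsmul, one_nsmul]; abel

theorem fixed_lv {z : ℕ} (hz : gc.InH M24 z) {n : ℕ} (h : inL n = true)
    (hf : ∀ k < 24, app n (app z k) = app n k) : prm ⟨_, hz.2⟩ • lv n = lv n := by
  refine Subtype.ext (funext fun i => ?_)
  obtain ⟨j, rfl⟩ := (gc.dec z).surjective i
  rw [show (gc.dec z) j = (⟨_, hz.2⟩ : M24).1 j from rfl, prm_smul_apply, lv_val h]
  show decV n j = decV n (gc.dec z j)
  rw [decV, decV, hz.1.idx_dec, hf _ (gc.idx_lt j)]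

theorem fixed_fv {b : Co0} (h : ∀ j < 8, b • lv (U j) = lv (U j)) (m : ℕ) :
    b • fv U m = fv U m := by
  rw [fv, fp, co0_smul_sum]
  refine sum_congr rfl fun j hj => ?_
  split_ifs
  · exact h j (mem_range.1 hj)
  · exact co0_smul_zero _

theorem card_mono (s : M24) {a c : ℕ} (ha : {d | Cw d ∧ s.1 • d = d}.ncard ≤ a)
    (hc : Nat.card ↥(M24 ⊓ centralizer {s.1}) ≤ c) :
    Nat.card ↥(centralizer {prm s} ⊓ Mono) ≤ a * c := by
  have key : ∀ g : ↥(centralizer {prm s} ⊓ Mono), ∃ x : {d | Cw d ∧ s.1 • d = d} ×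
      ↥(M24 ⊓ centralizer {s.1}), (g : Co0) = sgn x.1 x.1.2.1 * prm ⟨x.2, x.2.2.1⟩ := by
    rintro ⟨g, hg, hg'⟩
    obtain ⟨d, hd, t, rfl⟩ := exists_sgn_prm hg'
    have := mem_centralizer_singleton_iff.1 hg
    rw [← mul_assoc, prm_mul_sgn, mul_assoc, mul_assoc, ← prm_mul, ← prm_mul] at this
    obtain ⟨h1, h2⟩ := sgn_prm_inj this
    exact ⟨⟨⟨d, hd, h1.symm⟩, ⟨t, t.2, mem_centralizer_singleton_iff.2
      (congrArg Subtype.val h2)⟩⟩, rfl⟩
  choose F hF using key
  refine (Nat.card_le_card_of_injective F fun g h e => Subtype.ext ?_).trans ?_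
  · rw [hF g, hF h, e]
  · rw [Nat.card_prod]
    exact Nat.mul_le_mul ha hc

theorem card_cent (s : M24) (hfix : ∀ m, prm s • fv U m = fv U m)
    (hspan : ∀ v, prm s • v = v → ∃ m < 256, Cg v (fv U m)) {m0 : ℕ} (h0 : Cg (e8 none) (fv U m0))
    {S4 : ℕ} (h4 : ∀ m < 256, S4.testBit m = false →
      ∃ r : leechLattice, sqNorm (r : GolayPt → ℤ) < 64 ∧ Cg (fv U m) r) {n : ℕ}
    (hn : Nat.card ↥(centralizer {prm s} ⊓ Mono) ≤ n) :
    Nat.card (centralizer {prm s}) ≤ ((range 256).filter fun m => S4.testBit m).card * n := by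
  have e1 : ∀ (g : Co0) v, g • {x | Cg x v} = {x | Cg x (g • v)} := by
    intro g v
    ext x
    rw [Set.mem_smul_set_iff_inv_smul_mem]
    exact ⟨fun h => by simpa using Cg.smul g h, fun h => by simpa using Cg.smul g⁻¹ h⟩
  rw [card_eq_ncard_mul _ {x | Cg x (e8 none)}]
  refine Nat.mul_le_mul ?_ (le_trans (card_le_of_le (inf_le_inf_left _ fun g hg => ?_)) hn)
  · rw [← Set.ncard_coe_finset]
    refine le_trans (Set.ncard_le_ncard ?_ ((Finset.finite_toSet _).image _))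
      (Set.ncard_image_le (f := fun m => {x | Cg x (fv U m)}) (Finset.finite_toSet _))
    rintro _ ⟨g, hg, rfl⟩
    obtain ⟨m, hm, h1⟩ := hspan (g • fv U m0) (by
      rw [← mul_smul, ← mem_centralizer_singleton_iff.1 hg, mul_smul, hfix])
    have h2 := (h0.smul g).trans h1
    refine ⟨m, ?_, ?_⟩
    · rw [coe_filter, Set.mem_setOf_eq, mem_range]
      refine ⟨hm, ?_⟩
      by_contra h3
      obtain ⟨r, hr, u, hu⟩ := h4 m hm (by simpa using h3)
      obtain ⟨w, hw⟩ := h2.trans ⟨u, hu⟩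
      have h5 : sqNorm ((g • e8 none : leechLattice) : GolayPt → ℤ) = 64 := by
        rw [sqNorm_smul, sqNorm_e8]
      rcases short_congr (fun e => by rw [e] at h5; omega) h5.le hr.le hw with h6 | h6
      · rw [h6, NegMemClass.coe_neg, sqNorm_neg] at h5; omega
      · omega
    · rw [e1]
      ext x
      exact ⟨fun h => h.trans h2.symm, fun h => h.trans h2⟩
  · have : g • e8 none ∈ g • {x | Cg x (e8 none)} := Set.smul_mem_smul_set (Cg.rfl' _)
    rw [hg] at this
    exact this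

end Cfsg.Lib.Leech.OB
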