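import Cfsg.Agent.Lib.Mon.B1

/-! The centralizer of a permutation of odd prime order from explicit generators. -/

namespace Cfsg.Lib.Leech.OB

open Finset Golay Subgroup
open scoped Pointwise

variable {U : ℕ → ℕ}

theorem comm_of {z W : ℕ} (hz : gc.InH M24 z) (hW : okW W = true)
    (h : ∀ k < 24, ∀ l < 24, app (apW W (e8C (app z k))) (app z l) = app (apW W (e8C k)) l) :
    elt W ∈ centralizer {prm ⟨_, hz.2⟩} := by
  rw [mem_centralizer_singleton_iff]
  refine co0_ext_e8 fun i => Subtype.ext (funext fun j => ?_)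
  obtain ⟨j, rfl⟩ := (gc.dec z).surjective j
  rw [mul_smul, mul_smul, prm_smul_e8, show (gc.dec z) j = (⟨_, hz.2⟩ : M24).1 j from rfl,
    prm_smul_apply, (impl_elt hW _ _ (rep_e8 _) (sqNorm_e8 _).le).apply,
    (impl_elt hW _ _ (rep_e8 _) (sqNorm_e8 _).le).apply]
  show ((app (apW W (e8C (gc.idx (gc.dec z i)))) (gc.idx (gc.dec z j)) : ℕ) : ℤ) - 8 = _
  rw [hz.1.idx_dec, hz.1.idx_dec, h _ (gc.idx_lt i) _ (gc.idx_lt j)]

theorem act_of {W : ℕ} (hW : okW W = true) (hU : ∀ j < 8, inL (U j) = true) {n a c : ℕ}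
    (h1 : inL n = true) (h2 : n < 2 ^ 192) (h3 : dotB n n c 0 = true) (hc : c ≤ 64)
    (h : half (fun k => (app (apW W n) k : ℤ) - 8 - fz U a k) = true) :
    Cg (elt W • lv n) (fv U a) := by
  have hr : Rep n (lv n) := ⟨h2, (lv_val h1).symm⟩
  refine cg_of_half h fun i => ?_
  rw [fv_val hU, (impl_elt hW _ _ hr (by
    rw [lv_val h1, ← dotInt_self, dotB_iff.1 h3]; omega)).apply]

theorem wit_of (hU : ∀ j < 8, inL (U j) = true) {n m : ℕ} (h1 : inL n = true)
    (h3 : dotB n n 0 0 = true ∨ dotB n n 32 0 = true ∨ dotB n n 48 0 = true)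
    (h : half (fun k => fz U m k - ((app n k : ℤ) - 8)) = true) :
    ∃ r : leechLattice, sqNorm (r : GolayPt → ℤ) < 64 ∧ Cg (fv U m) r := by
  refine ⟨lv n, ?_, cg_of_half h fun i => by rw [fv_val hU, lv_val h1]; rfl⟩
  rw [lv_val h1, ← dotInt_self]
  simp only [dotB_iff] at h3
  omega

theorem std_of (hU : ∀ j < 8, inL (U j) = true) {m : ℕ}
    (h : half (fun k => ((app (e8C 23) k : ℤ) - 8) - fz U m k) = true) : Cg (e8 none) (fv U m) :=
  cg_of_half h fun i => by rw [fv_val hU, (rep_e8 none).apply]; rfl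

/-- the labelled sets of classes -/
def lab (U : ℕ → ℕ) (S : ℕ) : Set leechLattice := {x | ∃ m < 256, S.testBit m ∧ Cg x (fv U m)}

theorem smul_lab (hinj : ∀ a < 256, ∀ b < 256, Cg (fv U a) (fv U b) → a = b) {g : Co0}
    {φ : ℕ → ℕ} (h1 : ∀ m < 256, φ m < 256) (h2 : ∀ m < 256, Cg (g • fv U m) (fv U (φ m)))
    {S S' : ℕ} (h : ∀ m < 256, S'.testBit (φ m) = S.testBit m) : g • lab U S = lab U S' := by
  have hs : Function.Surjective (fun m : Fin 256 => (⟨φ m, h1 m m.2⟩ : Fin 256)) :=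
    Finite.injective_iff_surjective.1 fun a b e => Fin.ext (hinj _ a.2 _ b.2 (by
      have := ((h2 a a.2).trans (by rw [show φ a = φ b from congrArg Fin.val e]; exact Cg.rfl' _)).trans
        (h2 b b.2).symm
      simpa using this.smul g⁻¹))
  ext x
  rw [Set.mem_smul_set_iff_inv_smul_mem]
  constructor
  · rintro ⟨m, hm, h3, h4⟩
    exact ⟨φ m, h1 m hm, by rw [h m hm]; exact h3,
      Cg.trans (by simpa using h4.smul g) (h2 m hm)⟩
  · rintro ⟨m, hm, h3, h4⟩
    obtain ⟨a, ha⟩ := hs ⟨m, hm⟩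
    have ha' : φ a = m := congrArg Fin.val ha
    refine ⟨a, a.2, by rw [← h a a.2, ha']; exact h3, ?_⟩
    have := (h4.trans (ha' ▸ (h2 a a.2).symm)).smul g⁻¹
    simpa using this

theorem lab_inj (hinj : ∀ a < 256, ∀ b < 256, Cg (fv U a) (fv U b) → a = b) {S S' : ℕ}
    (hS : S < 2 ^ 256) (hS' : S' < 2 ^ 256) (h : lab U S = lab U S') : S = S' := by
  have key : ∀ {S S' : ℕ}, lab U S = lab U S' → ∀ m < 256, S.testBit m → S'.testBit m := by
    intro S S' h m hm h1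
    obtain ⟨m', hm', h2, h3⟩ : fv U m ∈ lab U S' := h ▸ ⟨m, hm, h1, Cg.rfl' _⟩
    rwa [hinj _ hm _ hm' h3]
  refine Nat.eq_of_testBit_eq fun m => ?_
  by_cases hm : m < 256
  · exact Bool.eq_iff_iff.2 ⟨key h m hm, key h.symm m hm⟩
  · rw [Nat.testBit_lt_two_pow (hS.trans_le (Nat.pow_le_pow_right (by norm_num) (by omega))),
      Nat.testBit_lt_two_pow (hS'.trans_le (Nat.pow_le_pow_right (by norm_num) (by omega)))]

theorem odd_data {b : Co0} {p : ℕ} (hp : Odd p) (hb : orderOf b = p)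
    (hinj : ∀ a < 256, ∀ b < 256, Cg (fv U a) (fv U b) → a = b) (hfix : ∀ m, b • fv U m = fv U m)
    (hspan : ∀ v, b • v = v → ∃ m < 256, Cg v (fv U m)) {ι κ : Type*} [Finite ι] (S : ι → ℕ)
    (hS : ∀ q, S q < 2 ^ 256) (hS' : Function.Injective S) (g : κ → Co0)
    (hg : ∀ x, g x ∈ centralizer {b}) (σ : κ → Equiv.Perm ι)
    (hσ : ∀ x q, g x • lab U (S q) = lab U (S (σ x q))) {T : Subgroup (Equiv.Perm ι)}
    (hT : closure (Set.range σ) = T) (hc : Nat.card (centralizer {b}) ≤ 2 * p * Nat.card T)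
    (two : pCore 2 T = ⊥) : ∃ τ : centralizer ({b} : Set Co0) →* T, OddData b 4 τ := by
  have linj : ∀ q q', lab U (S q) = lab U (S q') → q = q' := fun q q' h =>
    hS' (lab_inj hinj (hS q) (hS q') h)
  have triv : ∀ k : Co0, (∀ m < 256, Cg (k • fv U m) (fv U m)) → ∀ q,
      k • lab U (S q) = lab U (S q) := fun k hk q =>
    smul_lab hinj (φ := id) (fun _ h => h) hk fun _ _ => rfl
  have tb : ∀ q, b • lab U (S q) = lab U (S q) := triv b fun m _ => by rw [hfix]; exact Cg.rfl' _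
  have tn : ∀ q, negOne • lab U (S q) = lab U (S q) := triv _ fun m _ => by
    rw [negOne_smul]; exact Cg.neg _
  have hnb : negOne * b ∈ centralizer {b} := by
    rw [mem_centralizer_singleton_iff, mul_assoc, ← mul_assoc b, negOne_comm b, mul_assoc]
  let K : Subgroup Co0 := closure (Set.range g) ⊔ zpowers (negOne * b)
  have hK : K ≤ centralizer {b} :=
    sup_le ((closure_le _).2 (by rintro _ ⟨x, rfl⟩; exact hg x)) (zpowers_le.2 hnb)
  let H : Subgroup Co0 :=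
    { carrier := {k | ∃ t ∈ T, ∀ q, k • lab U (S q) = lab U (S (t q))}
      one_mem' := ⟨1, one_mem _, fun q => one_smul _ _⟩
      mul_mem' := by
        rintro k k' ⟨t, ht, h⟩ ⟨t', ht', h'⟩
        exact ⟨t * t', mul_mem ht ht', fun q => by rw [mul_smul, h', h]; rfl⟩
      inv_mem' := by
        rintro k ⟨t, ht, h⟩
        exact ⟨t⁻¹, inv_mem ht, fun q => by rw [inv_smul_eq_iff, h]; simp⟩ }
  have hKH : K ≤ H := sup_le ((closure_le _).2 (by
      rintro _ ⟨x, rfl⟩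
      exact ⟨σ x, hT ▸ subset_closure ⟨x, rfl⟩, hσ x⟩))
    (zpowers_le.2 ⟨1, one_mem _, fun q => by rw [mul_smul, tb, tn]; rfl⟩)
  choose F hF hF' using fun k : K => hKH k.2
  have uniq : ∀ (k : K) (t : Equiv.Perm ι), (∀ q, (k : Co0) • lab U (S q) = lab U (S (t q))) →
      F k = t := fun k t h => Equiv.ext fun q => linj _ _ ((hF' k q).symm.trans (h q))
  let f : K →* T := MonoidHom.mk' (fun k => ⟨F k, hF k⟩) fun k k' => Subtype.ext
    (uniq _ _ fun q => by rw [Subgroup.coe_mul, mul_smul, hF', hF']; rfl)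
  have hf : Function.Surjective f := by
    rintro ⟨t, ht⟩
    have : T ≤ f.range.map T.subtype := by
      refine hT.ge.trans ((closure_le _).2 ?_)
      rintro _ ⟨x, rfl⟩
      exact ⟨_, ⟨⟨g x, mem_sup_left (subset_closure ⟨x, rfl⟩)⟩, rfl⟩, uniq _ _ (hσ x)⟩
    obtain ⟨u, ⟨s, hs⟩, e⟩ := this ht
    exact ⟨s, hs.trans (Subtype.ext e)⟩
  have hZ : (zpowers (negOne * b)).subgroupOf K ≤ f.ker := by
    have : zpowers (negOne * b) ≤ f.ker.map K.subtype := zpowers_le.2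
      ⟨⟨_, mem_sup_right (mem_zpowers _)⟩, Subtype.ext (uniq _ _ fun q => by
        show (negOne * b) • _ = _
        rw [mul_smul, tb, tn]; rfl), rfl⟩
    intro k hk
    obtain ⟨k', hk', e⟩ := this hk
    rwa [← Subtype.ext e]
  have hn2 : orderOf negOne = 2 :=
    orderOf_eq_prime (by rw [pow_two, negOne_mul_self]) negOne_ne_one
  have hcZ : Nat.card ((zpowers (negOne * b)).subgroupOf K) = 2 * p := by
    rw [Nat.card_congr (subgroupOfEquivOfLe le_sup_right).toEquiv, Nat.card_zpowers,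
      Commute.orderOf_mul_eq_mul_orderOf_of_coprime (negOne_comm b).symm
        (by rw [hn2, hb]; exact (Nat.coprime_two_left).2 hp), hn2, hb]
  have h1 : Nat.card K = Nat.card T * Nat.card f.ker := by
    rw [← f.ker.index_mul_card, index_ker, MonoidHom.range_eq_top.2 hf, card_top]
  have h2 := card_le_of_le hZ
  have h3 := card_le_of_le hK
  have hT0 : 0 < Nat.card T := Nat.card_pos
  have h4 : Nat.card f.ker ≤ 2 * p := by
    refine Nat.le_of_mul_le_mul_left ?_ hT0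
    rw [← h1, mul_comm]; exact h3.trans hc
  have hKC : K = centralizer {b} := eq_of_le_of_card_ge hK (by
    rw [h1]; refine hc.trans ?_; rw [mul_comm]; exact Nat.mul_le_mul_left _ (hcZ ▸ h2))
  have hker : (zpowers (negOne * b)).subgroupOf K = f.ker :=
    eq_of_le_of_card_ge hZ (hcZ ▸ h4)
  have one_of : ∀ k : centralizer ({b} : Set Co0), (∀ q, (k : Co0) • lab U (S q) = lab U (S q)) →
      f (inclusion hKC.ge k) = 1 := fun k h => Subtype.ext (uniq _ _ h)
  have tz : ∀ k ∈ zpowers b, ∀ q, k • lab U (S q) = lab U (S q) := fun k hk q =>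
    (zpowers_le.2 (tb q) : zpowers b ≤ MulAction.stabilizer Co0 _) hk
  refine ⟨f.comp (inclusion hKC.ge), hf.comp fun k => ⟨⟨k, hK k.2⟩, rfl⟩, fun k => ⟨fun h => ?_,
    fun h => one_of k fun q => ?_⟩, fun k h => one_of k (triv _ fun m _ => h _ (hfix m)),
    ⟨fun i => fv U i, fun i => hfix i, fun i j h => Fin.ext (hinj _ i.2 _ j.2 h), fun v hv => ?_⟩,
    two⟩
  · have : inclusion hKC.ge k ∈ (zpowers (negOne * b)).subgroupOf K := hker ▸ h
    obtain ⟨n, hn⟩ := mem_zpowers_iff.1 (mem_subgroupOf.1 this)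
    have hn' : (k : Co0) = negOne ^ n * b ^ n := by
      rw [← Commute.mul_zpow (negOne_comm b).symm]; exact hn.symm
    have h2 : negOne ^ (2 : ℤ) = 1 := by rw [zpow_two, negOne_mul_self]
    rcases Int.even_or_odd' n with ⟨r, rfl | rfl⟩
    · left; rw [hn', zpow_mul, h2, one_zpow, one_mul]; exact zpow_mem_zpowers _ _
    · right
      rw [hn', zpow_add_one negOne, zpow_mul, h2, one_zpow, one_mul, ← mul_assoc, negOne_mul_self,
        one_mul]
      exact zpow_mem_zpowers _ _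
  · rcases h with h | h
    · exact tz _ h q
    · have := tz _ h q
      rw [← negOne_comm, mul_smul, tn] at this
      exact this
  · obtain ⟨m, hm, h⟩ := hspan v hv
    exact ⟨⟨m, hm⟩, h⟩

/-- all lattice tests -/
theorem odd_of {z : ℕ} (hz : gc.InH M24 z) {p : ℕ} (hp : Odd p) (ho : orderOf (gc.dec z) = p)
    {nU N R : ℕ → ℕ} {m0 S4 n4 a c : ℕ}
    (h1 : ∀ j < 8, inL (U j) = true ∧ U j < 2 ^ 192 ∧ dotB (U j) (U j) (nU j) 0 = true ∧
      nU j ≤ 64 ∧ ∀ k < 24, app (U j) (app z k) = app (U j) k)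
    (h2 : ∀ m < 256, m ≠ 0 → ∃ j < 8,
      ¬ (16 : ℤ) ∣ ∑ k ∈ range 24, fz U m k * ((app (U j) k : ℤ) - 8))
    (h3 : ∀ t < 37, N t < 256 ∧ half (fun k =>
      (∑ e ∈ range p, ((app (genC t) ((app z)^[e] k) : ℤ) - 8)) - fz U (N t) k) = true)
    (h4 : half (fun k => ((app (e8C 23) k : ℤ) - 8) - fz U m0 k) = true)
    (h5 : ∀ m < 256, S4.testBit m = false → inL (R m) = true ∧
      (dotB (R m) (R m) 0 0 = true ∨ dotB (R m) (R m) 32 0 = true ∨
        dotB (R m) (R m) 48 0 = true) ∧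
      half (fun k => fz U m k - ((app (R m) k : ℤ) - 8)) = true)
    (h6 : ((range 256).filter fun m => S4.testBit m).card = n4)
    (h7 : countN 4096 (fun i => Nat.beq (imgN 24 z (cwN i)) (cwN i)) = a)
    (h8 : Nat.card ↥(M24 ⊓ centralizer {gc.dec z}) ≤ c)
    {ι κ : Type*} [Finite ι] (S : ι → ℕ) (hS : ∀ q, S q < 2 ^ 256) (hS' : Function.Injective S)
    (W : κ → ℕ) (A : κ → ℕ → ℕ) (σ : κ → Equiv.Perm ι) (g1 : ∀ x, okW (W x) = true)
    (g2 : ∀ x, ∀ k < 24, ∀ l < 24,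
      app (apW (W x) (e8C (app z k))) (app z l) = app (apW (W x) (e8C k)) l)
    (g3 : ∀ x, ∀ j < 8, A x j < 256 ∧
      half (fun k => (app (apW (W x) (U j)) k : ℤ) - 8 - fz U (A x j) k) = true)
    (g4 : ∀ x q, ∀ m < 256, (S (σ x q)).testBit (lin (A x) m 8) = (S q).testBit m)
    {T : Subgroup (Equiv.Perm ι)} (hT : closure (Set.range σ) = T)
    (hc : n4 * (a * c) ≤ 2 * p * Nat.card T) (two : pCore 2 T = ⊥) :
    ∃ τ : centralizer ({prm ⟨_, hz.2⟩} : Set Co0) →* T, OddData (prm ⟨_, hz.2⟩) 4 τ := by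
  have hU : ∀ j < 8, inL (U j) = true := fun j hj => (h1 j hj).1
  have hinj : ∀ a < 256, ∀ b < 256, Cg (fv U a) (fv U b) → a = b := fun a ha b hb =>
    fv_inj hU h2 ha hb
  have hfix := fixed_fv (U := U) fun j hj => fixed_lv hz (hU j hj) (h1 j hj).2.2.2.2
  have hspan : ∀ v, prm ⟨_, hz.2⟩ • v = v → ∃ m < 256, Cg v (fv U m) := fun v hv =>
    span hz hp hU h3 hv
  refine odd_data hp ?_ hinj hfix hspan S hS hS' (fun x => elt (W x))
    (fun x => comm_of hz (g1 x) (g2 x)) σ (fun x q => smul_lab hinj (φ := fun m => lin (A x) m 8)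
      (fun m _ => lin_lt (fun j hj => (g3 x j hj).1) m 8 le_rfl)
      (fun m _ => smul_fv (fun j hj => act_of (g1 x) hU (hU j hj) (h1 j hj).2.1 (h1 j hj).2.2.1
        (h1 j hj).2.2.2.1 (g3 x j hj).2) m) (g4 x q)) hT (le_trans ?_ hc) two
  · rw [← prmHom_apply, orderOf_injective prmHom prm_injective, ← ho, ← orderOf_coe]
  · rw [← h6]
    refine card_cent _ hfix hspan (std_of hU h4) (fun m hm h => wit_of hU (h5 m hm h).1
      (h5 m hm h).2.1 (h5 m hm h).2.2) (card_mono _ (le_of_eq ?_) h8)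
    rw [← h7]
    refine ncard_cw (fun m => Nat.beq (imgN 24 z m) m) (fun _ h => h.1) fun m hm => ?_
    rw [beq_iff, ← om_inj (show imgN 24 z m < 2 ^ 24 from hz.1.imgN_lt m) (isCw_lt hm)]
    exact ⟨fun h => (hz.1.smul_ofMask m).symm.trans h.2,
      fun h => ⟨om_mem_cw hm, (hz.1.smul_ofMask m).trans h⟩⟩

theorem two_trans {n : ℕ} {H : Subgroup (Equiv.Perm (Fin n))} {c d : Equiv.Perm (Fin n)}
    (hc : c ∈ H) (hd : d ∈ H) (a0 b0 : Fin n) (r : Fin n → Fin n → ℕ)
    (h : ∀ a b, a ≠ b → (a = a0 ∧ b = b0) ∨ r (c a) (c b) < r a b ∨ r (d a) (d b) < r a b) :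
    MulAction.IsPreprimitive H (Fin n) := by
  have key : ∀ k a b, a ≠ b → r a b < k → ∃ g ∈ H, g a = a0 ∧ g b = b0 := by
    intro k
    induction k with
    | zero => intro _ _ _ h; omega
    | succ k ih =>
      intro a b hab hr
      rcases h a b hab with ⟨rfl, rfl⟩ | h1 | h1
      · exact ⟨1, one_mem _, rfl, rfl⟩
      · obtain ⟨g, hg, h2⟩ := ih _ _ (c.injective.ne hab) (by omega)
        exact ⟨g * c, mul_mem hg hc, h2⟩
      · obtain ⟨g, hg, h2⟩ := ih _ _ (d.injective.ne hab) (by omega)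
        exact ⟨g * d, mul_mem hg hd, h2⟩
  refine MulAction.isPreprimitive_of_is_two_pretransitive
    (MulAction.is_two_pretransitive_iff.2 fun {a b a' b'} h1 h2 => ?_)
  obtain ⟨g, hg, e1, e2⟩ := key _ a b h1 (Nat.lt_succ_self _)
  obtain ⟨g', hg', e3, e4⟩ := key _ a' b' h2 (Nat.lt_succ_self _)
  refine ⟨⟨g'⁻¹ * g, mul_mem (inv_mem hg') hg⟩, ?_, ?_⟩
  · show g'⁻¹ (g a) = a'
    rw [e1, ← e3]; simp
  · show g'⁻¹ (g b) = b'
    rw [e2, ← e4]; simp

end Cfsg.Lib.Leech.OB
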