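import Cfsg.Agent.Lib.Leech.MonBaby

/-! Interface between the lattice side and the group side of the odd centralizers in groups of
Monster type. -/

namespace Cfsg.Lib.Leech

open Subgroup

/-- Lattice data on the centralizer in `Co0` of an element `b` of odd prime order: `τ` is the
quotient map `C(b) → C(b)/⟨b, -1⟩ = T`, the group `T` acts faithfully on the classes modulo `2Λ` of
the vectors fixed by `b`, and there are `2 ^ (2 * w)` classes fixed by `b`. -/
structure OddData (b : Co0) (w : ℕ) {T : Type*} [Group T]
    (τ : centralizer ({b} : Set Co0) →* T) : Prop where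
  surj : Function.Surjective τ
  ker : ∀ k, τ k = 1 ↔ ((k : Co0) ∈ zpowers b ∨ negOne * (k : Co0) ∈ zpowers b)
  faith : ∀ k : centralizer ({b} : Set Co0),
    (∀ v : leechLattice, b • v = v → ∃ u, (k : Co0) • v - v = 2 • u) → τ k = 1
  reps : ∃ f : Fin (2 ^ (2 * w)) → leechLattice, (∀ i, b • f i = f i) ∧
    (∀ i j, (∃ u, f i - f j = 2 • u) → i = j) ∧
    ∀ v : leechLattice, b • v = v → ∃ i u, v - f i = 2 • u
  two : pCore 2 T = ⊥

end Cfsg.Lib.Leech
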