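import Cfsg.Agent.Lib.Mon.Def
import Cfsg.Agent.Lib.Hall.SZConj

/-! Odd centralizers in groups of Monster type: lifting and the setting. -/

namespace Cfsg.Lib.Leech

open Subgroup MulAction Spor Cfsg.Lib.Known2 Cfsg.Lib.Core Cfsg.Lib.Amalg Pointwise

theorem odd_eq_one {L : Type*} [Group L] {p : ℕ} (hp : Odd p) {u : L} (h1 : u ^ p = 1)
    (h2 : u ^ 8 = 1) : u = 1 := by
  have h : Nat.Coprime p (2 ^ 3) := (Nat.coprime_two_right.2 hp).pow_right 3
  exact orderOf_eq_one_iff.1 (Nat.eq_one_of_dvd_coprimes h (orderOf_dvd_of_pow_eq_one h1)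
    (orderOf_dvd_of_pow_eq_one h2))

theorem odd_pow_of_mem {L : Type*} [Group L] {p : ℕ} {b u : L} (hb : b ^ p = 1)
    (hu : u ∈ zpowers b) : u ^ p = 1 := by
  obtain ⟨m, rfl⟩ := hu
  show (b ^ m) ^ p = 1
  rw [← zpow_natCast, ← zpow_mul, mul_comm, zpow_mul, zpow_natCast, hb, one_zpow]

theorem odd_conj_lift {L T : Type*} [Group L] [Finite L] [Group T] (φ : L →* T)
    (hk : ∀ x, φ x = 1 → x ^ 8 = 1) {p : ℕ} (hp : Odd p) {a b c : L} (ha : a ^ p = 1)
    (hb : b ^ p = 1) (h : φ c * φ a * (φ c)⁻¹ = φ b) : ∃ l, φ l = φ c ∧ l * a * l⁻¹ = b := by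
  have := Fact.mk Nat.prime_two
  have hN : IsPGroup 2 φ.ker := fun x => ⟨3, Subtype.ext (hk x x.2)⟩
  obtain ⟨n, hn⟩ := hN.exists_card_eq
  have ha' : (c * a * c⁻¹) ^ p = 1 := by rw [conj_pow, ha]; simp
  have hc : ∀ x : L, x ^ p = 1 → (Nat.card φ.ker).Coprime (Nat.card (zpowers x)) := fun x hx => by
    rw [hn, Nat.card_zpowers]
    exact ((Nat.coprime_two_left.2 hp).coprime_dvd_right (orderOf_dvd_of_pow_eq_one hx)).pow_left n
  have h' : φ (c * a * c⁻¹) = φ b := by simpa using h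
  have key : ∀ x y : L, φ x = φ y → φ.ker ⊔ zpowers x ≤ φ.ker ⊔ zpowers y := fun x y e =>
    sup_le le_sup_left (zpowers_le.2 (by
      rw [show x = x * y⁻¹ * y by group]
      exact mul_mem (mem_sup_left (by simp [MonoidHom.mem_ker, e])) (mem_sup_right (mem_zpowers y))))
  have : Group.IsSolvable (zpowers (c * a * c⁻¹)) :=
    Group.isSolvable_of_comm fun x y => mul_comm' x y
  obtain ⟨g, hg, e⟩ := Hall.sz_conj_internal (N := φ.ker) (H := zpowers (c * a * c⁻¹))
    (K := zpowers b) le_normalizer_of_normal (hc _ ha') (hc _ hb)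
    (le_antisymm (key _ _ h') (key _ _ h'.symm)) (Or.inr this)
  have k1 : b⁻¹ * (g * (c * a * c⁻¹) * g⁻¹) ∈ zpowers b := mul_mem (inv_mem (mem_zpowers b))
    (e ▸ smul_mem_pointwise_smul _ _ _ (mem_zpowers _))
  have hg' : φ g = 1 := hg
  have k2 := odd_eq_one hp (odd_pow_of_mem hb k1) (hk _ (by
    rw [map_mul, map_mul, map_mul, h', map_inv, map_inv, hg']; simp))
  refine ⟨g * c, by rw [map_mul, hg', one_mul], ?_⟩
  rw [inv_mul_eq_one.1 k2]; group

theorem negOne_pow_odd {p : ℕ} (hp : Odd p) : negOne ^ p = negOne := by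
  obtain ⟨m, rfl⟩ := hp
  rw [pow_succ, pow_mul, pow_two, negOne_mul_self, one_pow, one_mul]

theorem neg_mul_pow_odd {p : ℕ} (hp : Odd p) (k : Co0) : (negOne * k) ^ p = negOne * k ^ p := by
  rw [Commute.mul_pow (negOne_comm k).symm, negOne_pow_odd hp]

/-- the norm map of `b`. -/
noncomputable def oddNorm (b : Co0) (p : ℕ) (v : leechLattice) : leechLattice :=
  ∑ i ∈ Finset.range p, b ^ i • v

theorem smul_oddNorm {b : Co0} {p : ℕ} (hb : b ^ p = 1) (v : leechLattice) :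
    b • oddNorm b p v = oddNorm b p v := by
  have h1 := Finset.sum_range_succ' (fun i => b ^ i • v) p
  rw [Finset.sum_range_succ, hb, pow_zero, add_left_inj] at h1
  rw [oddNorm, co0_smul_sum, h1]
  exact Finset.sum_congr rfl fun i _ => by rw [← mul_smul, pow_succ']

theorem ip_oddNorm {b : Co0} {v : leechLattice} (hv : b • v = v) (p : ℕ) (u : leechLattice) :
    ip v (oddNorm b p u) = p * ip v u := by
  have h1 : ∀ i : ℕ, b ^ i • v = v := fun i => pow_mem (show b ∈ stabilizer Co0 v from hv) i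
  induction p with
  | zero => simp [oddNorm, ip, dotInt]
  | succ n ih =>
    rw [oddNorm, Finset.sum_range_succ, ip_add_right, ← oddNorm, ih]
    have : ip v (b ^ n • u) = ip v u := by
      conv_lhs => rw [← h1 n]
      exact dot_smul _ _ _
    rw [this]; push_cast; ring

namespace MT

variable {G : Type*} [Group G] {z : G} {R : Subgroup G} {π : centralizer ({z} : Set G) →* Co1}
  {Ov : leechLattice → G → Prop} (M : MT z R π Ov)
include M

theorem pow_four {x : G} (hx : x ∈ R) : x ^ 4 = 1 := by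
  rw [show x ^ 4 = x * x * (x * x) by simp only [pow_succ, pow_zero, one_mul, mul_assoc]]
  rcases M.es.sq_mem x hx with e | e <;> rw [e]
  exacts [one_mul _, M.es.sq]

theorem odd_eq_one_of_mem {p : ℕ} (hp : Odd p) {x : G} (hx : x ∈ R) (h : x ^ p = 1) : x = 1 :=
  odd_eq_one hp h (by rw [show 8 = 4 * 2 from rfl, pow_mul, M.pow_four hx, one_pow])

theorem odd_lift [Finite G] {p : ℕ} (hp : Odd p) {y y' : G} {b b' k : Co0} (hy : y ^ p = 1)
    (hy' : y' ^ p = 1) (hb : Mt π y b) (hb' : Mt π y' b') (h : k * b * k⁻¹ = b') :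
    ∃ l, Mt π l k ∧ l * y * l⁻¹ = y' := by
  obtain ⟨c, hc⟩ := M.exists_h k
  obtain ⟨l, h1, h2⟩ := odd_conj_lift π (fun x hx => Subtype.ext (by
      show (x : G) ^ 8 = 1
      rw [show 8 = 4 * 2 from rfl, pow_mul, M.pow_four ((M.ker x).1 hx), one_pow])) hp
    (a := ⟨y, hb.1⟩) (b := ⟨y', hb'.1⟩) (c := ⟨c, hc.1⟩) (Subtype.ext hy) (Subtype.ext hy')
    (by rw [hc.2, hb.2, hb'.2, ← h]; simp)
  exact ⟨l, ⟨l.2, h1.trans hc.2⟩, congrArg Subtype.val h2⟩

theorem ov_zero_one : Ov 0 1 := by simpa using M.one 0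

theorem ov_norm {y x : G} {b : Co0} {v} (hb : Mt π y b) (hx : x * y = y * x) (hv : Ov v x)
    (n : ℕ) : Ov (oddNorm b n v) (x ^ n) := by
  induction n with
  | zero => simpa [oddNorm] using M.ov_zero_one
  | succ n ih =>
    rw [oddNorm, Finset.sum_range_succ, pow_succ]
    have := M.mt_conj (hb.pow n) hv
    rw [← (Commute.pow_right hx n).eq, mul_inv_cancel_right] at this
    exact M.mul ih this

theorem odd_fix {p : ℕ} (hp : Odd p) {y x : G} {b : Co0} (hy : y ^ p = 1) (hb : Mt π y b)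
    (hbp : b ^ p = 1) (hx : x ∈ R) : x * y = y * x ↔ ∃ v, Ov v x ∧ b • v = v := by
  have E := M.es
  constructor
  · intro e
    obtain ⟨v, hv⟩ := M.ex_v x hx
    refine ⟨_, ?_, smul_oddNorm hbp v⟩
    have h1 := M.ov_norm hb e hv p
    obtain ⟨m, rfl⟩ := hp
    rw [pow_succ', pow_mul, pow_two] at h1
    rcases E.sq_mem x hx with a | a <;> rw [a] at h1
    · simpa using h1
    · rcases E.mem_zp.1 (pow_mem (mem_zpowers z) m) with c | c <;> rw [c] at h1
      · simpa using h1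
      · have := M.mul_z h1
        rwa [mul_assoc, E.sq, mul_one] at this
  · rintro ⟨v, hv, e⟩
    have h1 := M.mt_conj hb hv
    rw [e] at h1
    rcases M.eq_or hv h1 with a | a
    · exact (mul_inv_eq_iff_eq_mul.1 a).symm
    · exfalso
      have hz : y * z = z * y := mem_centralizer_singleton_iff.1 hb.1
      have h2 : ∀ n : ℕ, y ^ n * x * (y ^ n)⁻¹ = x * z ^ n := fun n => by
        induction n with
        | zero => simp
        | succ n ih =>
          rw [pow_succ', show y * y ^ n * x * (y * y ^ n)⁻¹ = y * (y ^ n * x * (y ^ n)⁻¹) * y⁻¹ by group,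
            ih, show y * (x * z ^ n) * y⁻¹ = y * x * y⁻¹ * (y * z ^ n * y⁻¹) by group, a,
            (Commute.pow_right hz n).eq, mul_inv_cancel_right, pow_succ', mul_assoc]
      have h3 := h2 p
      rw [hy, one_mul, inv_one, mul_one, left_eq_mul] at h3
      exact E.ne (M.odd_eq_one_of_mem hp E.mem h3)

theorem odd_cen {p : ℕ} (hp : Odd p) {y x : G} {b : Co0} (hy : y ^ p = 1) (hb : Mt π y b)
    (hbp : b ^ p = 1) (hx : x ∈ R) (hxy : x * y = y * x)
    (h : ∀ r ∈ R, r * y = y * r → x * r = r * x) : x = 1 ∨ x = z := by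
  obtain ⟨v, hv, e⟩ := (M.odd_fix hp hy hb hbp hx).1 hxy
  refine M.es.of_cen x hx fun r hr => ?_
  obtain ⟨u, hu⟩ := M.ex_v r hr
  obtain ⟨r', hr'⟩ := M.ex_x (oddNorm b p u)
  have h1 := (M.comm_iff hv hr').1 (h r' (M.mem hr')
    ((M.odd_fix hp hy hb hbp (M.mem hr')).2 ⟨_, hr', smul_oddNorm hbp u⟩))
  rw [ip_oddNorm e] at h1
  refine (M.comm_iff hv hu).2 (Int.dvd_of_dvd_mul_right_of_gcd_one h1 ?_)
  have : Nat.Coprime (2 ^ 4) p := (Nat.coprime_two_left.2 hp).pow_left 4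
  exact this

theorem odd_cent {p : ℕ} (hp : Odd p) {y l : G} {b : Co0} (hb : Mt π y b) (hbp : b ^ p = 1)
    (hl : l ∈ centralizer ({z} : Set G)) (e : l * y = y * l) :
    ∃ k ∈ centralizer ({b} : Set Co0), Mt π l k := by
  obtain ⟨k, hk⟩ := exists_mt (π := π) hl
  have h1 := (hk.mul hb).mul hk.inv
  rw [e, mul_inv_cancel_right] at h1
  rcases hb.eq_or h1 with a | a
  · exact ⟨k, mem_centralizer_singleton_iff.2 (mul_inv_eq_iff_eq_mul.1 a), hk⟩
  · have := congrArg (· ^ p) a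
    simp only [conj_pow, neg_mul_pow_odd hp, hbp, mul_one, mul_inv_cancel] at this
    exact absurd this.symm negOne_ne_one

theorem odd_card {p : ℕ} (hp : Odd p) {y : G} {b : Co0} (hy : y ^ p = 1) (hb : Mt π y b)
    (hbp : b ^ p = 1) {n : ℕ} {f : Fin n → leechLattice} (h1 : ∀ i, b • f i = f i)
    (h2 : ∀ i j, (∃ u, f i - f j = 2 • u) → i = j)
    (h3 : ∀ v : leechLattice, b • v = v → ∃ i u, v - f i = 2 • u) {H : Subgroup G}
    (hH : ∀ x, x ∈ H ↔ x * y = y * x) : Nat.card ↥(R ⊓ H) = n * 2 := by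
  choose l hl using M.ex_x
  have E := M.es
  have ho : ∀ (i : Fin n) (ε : Bool), Ov (f i) (l (f i) * if ε then z else 1) := fun i ε => by
    cases ε
    · simpa using hl _
    · simpa using M.mul_z (hl _)
  let F : Fin n × Bool → ↥(R ⊓ H) := fun a => ⟨_, M.mem (ho a.1 a.2),
    (hH _).2 ((M.odd_fix hp hy hb hbp (M.mem (ho a.1 a.2))).2 ⟨_, ho a.1 a.2, h1 _⟩)⟩
  have hF : Function.Bijective F := by
    constructor
    · rintro ⟨i, ε⟩ ⟨j, δ⟩ e
      have e' : (l (f i) * if ε then z else 1) = l (f j) * if δ then z else 1 :=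
        congrArg Subtype.val e
      obtain rfl := h2 i j (M.congr (ho i ε) (e' ▸ ho j δ))
      have e2 := mul_left_cancel e'
      have := E.ne
      cases ε <;> cases δ <;> simp_all
    · rintro ⟨x, hx, hx'⟩
      obtain ⟨v, hv, e⟩ := (M.odd_fix hp hy hb hbp hx).1 ((hH x).1 hx')
      obtain ⟨i, u, hu⟩ := h3 v e
      rcases M.eq_or (M.of_congr (hl (f i)) hu) hv with a | a
      · exact ⟨(i, false), Subtype.ext (by simp [F, a])⟩
      · exact ⟨(i, true), Subtype.ext (by simp [F, a])⟩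
  rw [← Nat.card_congr (Equiv.ofBijective F hF)]
  simp

end MT

end Cfsg.Lib.Leech
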