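import Cfsg.Agent.Lib.Mon.Grp1

/-! Odd centralizers in groups of Monster type: the setting in `C(Y) / Y`. -/

namespace Cfsg.Lib.Leech

open Subgroup MulAction Spor Cfsg.Lib.Known2 Cfsg.Lib.Core Cfsg.Lib.Amalg

theorem mem_cent_zp {G : Type*} [Group G] {y x : G} :
    x ∈ centralizer (zpowers y : Set G) ↔ x * y = y * x := by
  refine ⟨fun h => (h y (mem_zpowers y)).symm, fun h u hu => ?_⟩
  obtain ⟨m, rfl⟩ := hu
  exact ((Commute.zpow_right h m).eq).symm

theorem mt_zpow {G : Type*} [Group G] {z : G} {π : centralizer ({z} : Set G) →* Co1} {h : G}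
    {g : Co0} (a : Mt π h g) (n : ℤ) : Mt π (h ^ n) (g ^ n) := by
  cases n with
  | ofNat n => simpa using a.pow n
  | negSucc n => simpa using (a.pow (n + 1)).inv

namespace MT

variable {G : Type*} [Group G] {z : G} {R : Subgroup G} {π : centralizer ({z} : Set G) →* Co1}
  {Ov : leechLattice → G → Prop} (M : MT z R π Ov)
include M

theorem odd_cz {p : ℕ} (hp : Odd p) {y : G} (hy : y ^ p = 1) (hz : z * y = y * z) {h : G}
    (e : h * z * h⁻¹ * z⁻¹ ∈ zpowers y) : h * z = z * h := by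
  have h1 := odd_pow_of_mem hy e
  have h2 : z * (h * z * h⁻¹ * z⁻¹) = h * z * h⁻¹ * z⁻¹ * z := ((mem_cent_zp.2 hz) _ e).symm
  have h3 : (h * z * h⁻¹ * z⁻¹) * (h * z * h⁻¹ * z⁻¹) = 1 := by
    have h4 : (h * z * h⁻¹ * z⁻¹) * z * ((h * z * h⁻¹ * z⁻¹) * z) = 1 := by
      rw [inv_mul_cancel_right, conj_mul, M.es.sq]; simp
    rw [mul_assoc _ z, ← mul_assoc z, h2, mul_assoc _ z z, M.es.sq, mul_one] at h4
    exact h4
  have h5 := odd_eq_one hp h1 (by rw [show 8 = 2 * 4 from rfl, pow_mul, pow_two, h3, one_pow])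
  exact mul_inv_eq_iff_eq_mul.1 (mul_inv_eq_one.1 h5)

theorem odd_inf {p : ℕ} (hp : Odd p) {y x : G} (hy : y ^ p = 1) (h : x ∈ zpowers y) (hx : x ∈ R) :
    x = 1 := M.odd_eq_one_of_mem hp hx (odd_pow_of_mem hy h)

theorem odd_normal {p : ℕ} (hp : Odd p) {y : G} (hy : y ^ p = 1)
    [((zpowers y).subgroupOf (centralizer (zpowers y : Set G))).Normal]
    (hz : z ∈ centralizer (zpowers y : Set G)) :
    (qQ R (centralizer (zpowers y : Set G)) (zpowers y) hz).Normal :=
  qQ_normal hz (fun _ _ e => M.odd_cz hp hy (mem_cent_zp.1 hz) e) fun _ hh _ hx => M.conj_mem hh hx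

theorem odd_setting [Finite G] {p : ℕ} (hp : Odd p) {y : G} {b : Co0} (hy : y ^ p = 1)
    (hb : Mt π y b) (hbp : b ^ p = 1) {w : ℕ} {T : Type*} [Group T]
    {τ : centralizer ({b} : Set Co0) →* T} (D : OddData b w τ)
    [((zpowers y).subgroupOf (centralizer (zpowers y : Set G))).Normal]
    (hz : z ∈ centralizer (zpowers y : Set G))
    [(qQ R (centralizer (zpowers y : Set G)) (zpowers y) hz).Normal]
    (hw : ∃ h ∈ centralizer (zpowers y : Set G), h * z * h⁻¹ ∈ R ∧ h * z ≠ z * h) :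
    IsExtraspecialCentralizerSetting (qbar (centralizer (zpowers y : Set G)) (zpowers y) hz)
      (qQ R (centralizer (zpowers y : Set G)) (zpowers y) hz) w ∧
    ∃ e : _ ⧸ qQ R (centralizer (zpowers y : Set G)) (zpowers y) hz ≃* T,
      ∀ (l : ↥(centralizer (zpowers y : Set G) ⊓ centralizer {z}))
        (k : centralizer ({b} : Set Co0)), Mt π l k →
        e (QuotientGroup.mk (qth _ (zpowers y) hz l)) = τ k := by
  have E := M.es
  have hzY : z ∉ zpowers y := fun e => E.ne (M.odd_inf hp hy e E.mem)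
  have cz : ∀ h ∈ centralizer (zpowers y : Set G), h * z * h⁻¹ * z⁻¹ ∈ zpowers y →
      h * z = z * h := fun _ _ e => M.odd_cz hp hy (mem_cent_zp.1 hz) e
  have hcen' : ∀ x ∈ R ⊓ centralizer (zpowers y : Set G),
      (∀ r ∈ R ⊓ centralizer (zpowers y : Set G), x * r = r * x) → x = 1 ∨ x = z :=
    fun x hx h => M.odd_cen hp hy hb hbp hx.1 (mem_cent_zp.1 hx.2)
      fun r hr e => h r ⟨hr, mem_cent_zp.2 e⟩
  have h1 : ∀ l ∈ centralizer (zpowers y : Set G) ⊓ centralizer {z},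
      ∃ k ∈ centralizer ({b} : Set Co0), Mt π l k := fun l hl =>
    M.odd_cent hp hb hbp hl.2 (mem_cent_zp.1 hl.1)
  obtain ⟨τ', hτ⟩ := exists_tau τ h1 fun h => (D.ker _).2 (Or.inr (by
    show negOne * negOne ∈ _
    rw [negOne_mul_self]; exact one_mem _))
  have hy0 : y ∈ centralizer (zpowers y : Set G) := mem_cent_zp.2 rfl
  obtain ⟨hS, e, he⟩ := quot_setting (τ := τ') hz E hzY cz
    (fun x hx h => (hcen' x hx h).imp (fun a => by rw [a]; exact one_mem _) fun a => by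
      rw [a, E.sq]; exact one_mem _)
    (by
      obtain ⟨h, hh, a1, a2⟩ := hw
      by_contra hn
      push Not at hn
      have hm : h * z * h⁻¹ ∈ R ⊓ centralizer (zpowers y : Set G) :=
        mem_inf.2 ⟨a1, mul_mem (mul_mem hh hz) (inv_mem hh)⟩
      rcases hcen' _ hm (hn _ hm) with a | a
      · exact E.ne (by simpa using a)
      · exact a2 (mul_inv_eq_iff_eq_mul.1 a))
    (fun t => by
      obtain ⟨k, rfl⟩ := D.surj t
      obtain ⟨l, a1, a2⟩ := M.odd_lift hp hy hy hb hb (k := k)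
        (mul_inv_eq_iff_eq_mul.2 (mem_centralizer_singleton_iff.1 k.2))
      exact ⟨⟨l, mem_cent_zp.2 (mul_inv_eq_iff_eq_mul.1 a2), a1.1⟩, hτ _ k a1⟩)
    (fun l => by
      rw [qth_mem_qQ hz E.le_cent]
      obtain ⟨k, hk, a⟩ := h1 l l.2
      rw [hτ l ⟨k, hk⟩ a, D.ker]
      constructor
      · intro h
        have : ∃ m : ℤ, (y ^ m)⁻¹ * l ∈ R := by
          rcases h with ⟨m, h⟩ | ⟨m, h⟩
          · refine ⟨m, (M.mt_mem ((mt_zpow hb m).inv.mul a)).2 (Or.inl ?_)⟩
            rw [show b ^ m = k from h, inv_mul_cancel]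
          · refine ⟨m, (M.mt_mem ((mt_zpow hb m).inv.mul a.neg)).2 (Or.inl ?_)⟩
            rw [show b ^ m = negOne * k from h, inv_mul_cancel]
        obtain ⟨m, hm⟩ := this
        exact ⟨_, mem_inf.2 ⟨hm, mul_mem (inv_mem (zpow_mem hy0 m)) (mem_inf.1 l.2).1⟩, m, by group⟩
      · rintro ⟨x, hx, m, hm⟩
        have a2 := (mt_zpow hb m).mul (M.mt_of_mem hx.1)
        rw [show y ^ m = l * x⁻¹ from hm, inv_mul_cancel_right, mul_one] at a2
        rcases a2.eq_or a with c | c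
        · exact Or.inl ⟨m, c.symm⟩
        · refine Or.inr ⟨m, ?_⟩
          show b ^ m = negOne * k
          rw [c, ← mul_assoc, negOne_mul_self, one_mul])
    D.two
    (fun l hl => by
      obtain ⟨k, hk, a⟩ := h1 l l.2
      rw [hτ l ⟨k, hk⟩ a]
      refine D.faith _ fun v hv => ?_
      obtain ⟨x, hx⟩ := M.ex_x v
      have hxR := M.mem hx
      have a2 := M.odd_inf hp hy (hl x ⟨hxR, mem_cent_zp.2
        ((M.odd_fix hp hy hb hbp hxR).2 ⟨v, hx, hv⟩)⟩)
        (mul_mem (M.conj_mem l.2.2 hxR) (inv_mem hxR))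
      have a3 := M.mt_conj a hx
      rw [mul_inv_eq_one.1 a2] at a3
      exact M.congr a3 hx)
    (w := w) (by
      obtain ⟨f, f1, f2, f3⟩ := D.reps
      have h0 : zpowers y ⊓ (R ⊓ centralizer (zpowers y : Set G)) = ⊥ :=
        (Subgroup.eq_bot_iff_forall _).2 fun x hx => M.odd_inf hp hy hx.1 hx.2.1
      rw [M.odd_card hp hy hb hbp f1 f2 f3 fun _ => mem_cent_zp, h0, card_bot, mul_one,
        pow_succ])
    hw
  exact ⟨hS, e, fun l k a => (he l).trans (hτ l k a)⟩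

end MT

end Cfsg.Lib.Leech
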