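import Cfsg.Agent.Lib.Mon.Grp2

/-! Odd centralizers in groups of Monster type: reduction to a permutation and weak closure. -/

namespace Cfsg.Lib.Leech

open Subgroup MulAction Spor Cfsg.Lib.Known2 Cfsg.Lib.Core Cfsg.Lib.Amalg

theorem monoPerm_prm (σ : M24) : monoPerm ⟨prm σ, prm_mem_Mono σ⟩ = σ :=
  monoPerm_eq (c := ∅) (hc := cw_empty) (by rw [sgn_empty, one_mul])

theorem monoPerm_ker (k : Mono) (h : monoPerm k = 1) : (k : Co0) * k = 1 := by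
  obtain ⟨c, hc, e⟩ := exists_sgn_monoPerm k
  rw [h, prm_one, mul_one] at e
  rw [e]; exact sgn_mul_self _

theorem monoPerm_neg (h : negOne ∈ Mono) : monoPerm ⟨negOne, h⟩ = 1 :=
  monoPerm_eq (c := Finset.univ) (hc := cw_univ) (by rw [prm_one, mul_one]; rfl)

theorem odd_cent_pair {G : Type*} [Group G] (z s : G) :
    centralizer ({z, s} : Set G) = centralizer {z} ⊓ centralizer {s} := by
  ext x
  simp only [mem_inf, mem_centralizer_iff, Set.mem_insert_iff, Set.mem_singleton_iff,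
    forall_eq_or_imp, forall_eq]

theorem odd_cent_zp {G : Type*} [Group G] (y : G) :
    centralizer (zpowers y : Set G) = centralizer {y} := by
  ext x; rw [mem_cent_zp, mem_centralizer_singleton_iff]

theorem odd_card_coe {G : Type*} [Group G] (H : Subgroup G) (x : H) :
    Nat.card (centralizer ({x} : Set H)) = Nat.card ↥(H ⊓ centralizer {(x : G)}) := by
  have : centralizer ({x} : Set H) = (H ⊓ centralizer {(x : G)}).subgroupOf H := by
    ext y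
    simp only [mem_subgroupOf, mem_inf, mem_centralizer_singleton_iff, y.2, true_and,
      Subtype.ext_iff, coe_mul]
  rw [this, card_subgroupOf_of_le inf_le_left]

theorem odd_card_cent {L T : Type*} [Group L] [Finite L] [Group T] (φ : L →* T)
    (hφ : Function.Surjective φ) (hk : ∀ x, φ x = 1 → x ^ 8 = 1) {p : ℕ} (hp : Odd p) {y : L}
    (hy : y ^ p = 1) :
    ∃ k, Nat.card (centralizer ({y} : Set L)) = Nat.card (centralizer ({φ y} : Set T)) * 2 ^ k := by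
  have := Fact.mk Nat.prime_two
  have h1 : (centralizer ({y} : Set L)).map φ = centralizer {φ y} := by
    refine le_antisymm ?_ fun t ht => ?_
    · rintro _ ⟨l, hl, rfl⟩
      rw [mem_centralizer_singleton_iff, ← map_mul, ← map_mul, mem_centralizer_singleton_iff.1 hl]
    · obtain ⟨c, rfl⟩ := hφ t
      obtain ⟨l, a1, a2⟩ := odd_conj_lift φ hk hp hy hy (c := c)
        (mul_inv_eq_iff_eq_mul.2 (mem_centralizer_singleton_iff.1 ht))
      exact ⟨l, mem_centralizer_singleton_iff.2 (mul_inv_eq_iff_eq_mul.1 a2), a1⟩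
  have hN : IsPGroup 2 ↥(φ.ker ⊓ centralizer ({y} : Set L)) :=
    fun x => ⟨3, Subtype.ext (hk x x.2.1)⟩
  obtain ⟨k, hk⟩ := hN.exists_card_eq
  exact ⟨k, by rw [← card_map_mul_card_inf_ker φ, h1, hk]⟩

theorem odd_zp_eq {G : Type*} [Group G] [Finite G] {p : ℕ} (hp : p.Prime) {Y : Subgroup G}
    (hY : Nat.card Y = p) {y : G} (hy : y ∈ Y) (h1 : y ≠ 1) : Y = zpowers y := by
  have := Fact.mk hp
  refine le_antisymm (fun x hx => ?_) (zpowers_le.2 hy)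
  obtain ⟨m, hm⟩ := mem_zpowers_of_prime_card hY (g := ⟨y, hy⟩) (g' := ⟨x, hx⟩)
    fun e => h1 (congrArg Subtype.val e)
  exact ⟨m, congrArg Subtype.val hm⟩

theorem mt_twist {G : Type*} [Group G] {z : G} {π : centralizer ({z} : Set G) →* Co1} {y : G}
    {k b : Co0} (a : Mt π y (k * b * k⁻¹)) :
    Mt ((MulAut.conj (mk1 k)⁻¹).toMonoidHom.comp π) y b := ⟨a.1, by
  show (MulAut.conj (mk1 k)⁻¹) (π _) = _
  rw [a.2]; simp [mul_assoc]⟩

namespace MT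

variable {G : Type*} [Group G] {z : G} {R : Subgroup G} {π : centralizer ({z} : Set G) →* Co1}
  {Ov : leechLattice → G → Prop} (M : MT z R π Ov)
  {g : G} (hs : g * z * g⁻¹ ∈ R) (hne : g * z * g⁻¹ ≠ z)
include M hne

theorem exists_phi (hv : Ov (e8 none) (g * z * g⁻¹)) :
    ∃ φ : ↥(centralizer {z} ⊓ centralizer {g * z * g⁻¹}) →* M24, Function.Surjective φ ∧
      (∀ x, φ x = 1 → x ^ 8 = 1) ∧
      (∀ l ∈ centralizer {z} ⊓ centralizer {g * z * g⁻¹}, ∃ k ∈ Mono, Mt π l k) ∧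
      ∀ l (k : Mono), Mt π l.1 k → φ l = monoPerm k := by
  have h1 : ∀ l ∈ centralizer {z} ⊓ centralizer {g * z * g⁻¹}, ∃ k ∈ Mono, Mt π l k := fun l hl => by
    obtain ⟨k, hk⟩ := exists_mt (π := π) hl.1
    exact ⟨k, M.img_X hne hv ▸ mem_img.2 ⟨l, hl, hk⟩, hk⟩
  obtain ⟨φ, hφ⟩ := exists_tau monoPerm h1 monoPerm_neg
  refine ⟨φ, fun σ => ?_, fun x hx => ?_, h1, hφ⟩
  · obtain ⟨l, hl, a⟩ := mem_img.1 (M.img_X hne hv ▸ prm_mem_Mono σ)
    exact ⟨⟨l, hl⟩, (hφ _ ⟨_, prm_mem_Mono σ⟩ a).trans (monoPerm_prm σ)⟩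
  · obtain ⟨k, hk, a⟩ := h1 x x.2
    have h2 := (M.mt_mem (a.mul a)).2 (Or.inl (monoPerm_ker ⟨k, hk⟩ ((hφ x ⟨k, hk⟩ a).symm.trans hx)))
    refine Subtype.ext ?_
    show (x : G) ^ 8 = 1
    rw [show 8 = 2 * 4 from rfl, pow_mul, pow_two, M.pow_four h2]

include hs

theorem exists_swap3 : ∃ n, n * z * n⁻¹ = g * z * g⁻¹ ∧ n * (g * z * g⁻¹) * n⁻¹ = z := by
  have h1 : g⁻¹ * z * g⁻¹⁻¹ ∈ R := by rw [inv_inv]; exact mem_cj.1 (M.z_mem hs hne)
  obtain ⟨v, hv, h⟩ := M.type_four h1 fun e =>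
    hne ((congrArg (g * · * g⁻¹) e).symm.trans (by group))
  obtain ⟨c, hc, e⟩ := M.conj_of_64 hs hne hv h
  refine ⟨g * c, ?_, ?_⟩
  · rw [mul_assoc g, mem_centralizer_singleton_iff.1 hc]; group
  · rw [show g * c * (g * z * g⁻¹) * (g * c)⁻¹ = g * (c * (g * z * g⁻¹) * c⁻¹) * g⁻¹ by group, e]
    group

theorem card_L : Nat.card ↥(centralizer {z} ⊓ centralizer {g * z * g⁻¹}) =
    1002795171840 * 2 ^ 23 := by
  obtain ⟨k, hk⟩ := M.exists_e8 hs hne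
  have h1 := (M.twist k).card_img (H := centralizer {z} ⊓ centralizer {g * z * g⁻¹}) inf_le_left
  have h2 := es_card_cent M.es hs (M.es.conj g).ne hne
  rw [(M.twist k).img_X hne hk, card_Mono, ← inf_assoc, inf_eq_left.2 M.es.le_cent, inf_comm] at h1
  rw [M.card] at h2
  omega

theorem odd_red' [Finite G] (hv : Ov (e8 none) (g * z * g⁻¹)) {p : ℕ} (hp : p.Prime) (ho : Odd p)
    {s0 : M24} (hs0 : orderOf s0 = p) (c : ℕ → Prop) (hc : ∀ n k, c (n * 2 ^ k) → c n)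
    (K : ∀ σ : M24, orderOf σ = p → c (Nat.card (centralizer ({σ} : Set M24))) →
      ∃ m, m * s0 * m⁻¹ ∈ zpowers σ)
    {Y : Subgroup G} (hY : Y ≤ centralizer {z} ⊓ centralizer {g * z * g⁻¹}) (hYp : Nat.card Y = p)
    (hcY : c (Nat.card ↥(centralizer {z} ⊓ centralizer {g * z * g⁻¹} ⊓ centralizer (Y : Set G)))) :
    ∃ (y : G) (k : Co0), k ∈ Mono ∧ Y = zpowers y ∧ y ^ p = 1 ∧ Mt π y (k * prm s0 * k⁻¹) ∧
      ∃ n, n * z * n⁻¹ = g * z * g⁻¹ ∧ n * (g * z * g⁻¹) * n⁻¹ = z ∧ ∃ u ∈ Y, n * u * n⁻¹ = y := by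
  have := Fact.mk hp
  obtain ⟨φ, φ1, φ2, φ3, φ4⟩ := M.exists_phi hne hv
  have hs1 : s0 ≠ 1 := by rintro rfl; exact hp.one_lt.ne (by simpa using hs0)
  have hs0' : s0 ^ p = 1 := hs0 ▸ pow_orderOf_eq_one s0
  have step : ∀ y : ↥(centralizer {z} ⊓ centralizer {g * z * g⁻¹}), y ^ p = 1 → y ≠ 1 →
      c (Nat.card ↥(centralizer {z} ⊓ centralizer {g * z * g⁻¹} ⊓ centralizer {(y : G)})) →
      ∃ (j : ℤ) (m : M24), m * s0 * m⁻¹ = φ (y ^ j) := fun y h1 h2 h3 => by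
    obtain ⟨k, hk⟩ := odd_card_cent φ φ1 φ2 ho h1
    rw [← odd_card_coe, hk] at h3
    obtain ⟨m, j, hm⟩ := K (φ y) (orderOf_eq_prime (by rw [← map_pow, h1, map_one])
      fun e => h2 (odd_eq_one ho h1 (φ2 y e))) (hc _ _ h3)
    exact ⟨j, m, by rw [map_zpow]; exact hm.symm⟩
  have : Nontrivial Y := Finite.one_lt_card_iff_nontrivial.1 (hYp ▸ hp.one_lt)
  obtain ⟨⟨y, hy⟩, hy1⟩ := exists_ne (1 : Y)
  have hy1' : y ≠ 1 := fun e => hy1 (Subtype.ext e)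
  have hpow : ∀ u ∈ Y, u ^ p = 1 := fun u hu =>
    congrArg Subtype.val (hYp ▸ pow_card_eq_one' (x := (⟨u, hu⟩ : Y)))
  obtain ⟨n, n1, n2⟩ := M.exists_swap3 hs hne
  have hL : cj n (centralizer {z} ⊓ centralizer {g * z * g⁻¹}) =
      centralizer {z} ⊓ centralizer {g * z * g⁻¹} := by
    rw [cj_inf, cj_centralizer_singleton, cj_centralizer_singleton, n1, n2, inf_comm]
  have hy' : n * y * n⁻¹ ∈ centralizer {z} ⊓ centralizer {g * z * g⁻¹} := by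
    rw [← hL, mem_cj]; convert hY hy using 1; group
  rw [odd_zp_eq hp hYp hy hy1', odd_cent_zp] at hcY
  obtain ⟨j, m, hm⟩ := step ⟨y, hY hy⟩ (Subtype.ext (hpow y hy))
    (fun e => hy1' (congrArg Subtype.val e)) hcY
  obtain ⟨j', m', hm'⟩ := step ⟨_, hy'⟩ (Subtype.ext (by
      show (n * y * n⁻¹) ^ p = 1
      rw [conj_pow, hpow y hy]; simp))
    (fun e => hy1' (by simpa using congrArg Subtype.val e)) (by
      rw [← card_cj n, cj_inf, hL, cj_centralizer_singleton] at hcY; exact hcY)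
  have hz1 : ((⟨y, hY hy⟩ : ↥(centralizer {z} ⊓ centralizer {g * z * g⁻¹})) ^ j) ^ p = 1 :=
    Subtype.ext (hpow _ (zpow_mem hy j))
  have hz2 : ((⟨_, hy'⟩ : ↥(centralizer {z} ⊓ centralizer {g * z * g⁻¹})) ^ j') ^ p = 1 :=
    Subtype.ext (by
      show ((n * y * n⁻¹) ^ j') ^ p = 1
      rw [conj_zpow, conj_pow, hpow _ (zpow_mem hy j')]; simp)
  obtain ⟨d, hd⟩ := φ1 (m * m'⁻¹)
  obtain ⟨l, -, hl⟩ := odd_conj_lift φ φ2 ho hz2 hz1 (c := d) (by rw [hd, ← hm, ← hm']; group)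
  have hl' : (l : G) * (n * y * n⁻¹) ^ j' * (l : G)⁻¹ = y ^ j := congrArg Subtype.val hl
  have hj1 : y ^ j ≠ 1 := fun e => hs1 (by
    rw [show (⟨y, hY hy⟩ : ↥(centralizer {z} ⊓ centralizer {g * z * g⁻¹})) ^ j = 1 from
      Subtype.ext e, map_one] at hm
    simpa using hm)
  obtain ⟨k1, hk1, a, hkp⟩ : ∃ k ∈ Mono, Mt π (y ^ j) k ∧ k ^ p = 1 := by
    obtain ⟨k, hk, a⟩ := φ3 _ (hY (zpow_mem hy j))
    have a2 := a.pow p
    rw [hpow _ (zpow_mem hy j)] at a2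
    rcases (M.mt_mem a2).1 (one_mem _) with e | e
    · exact ⟨k, hk, a, e⟩
    · exact ⟨_, mul_mem (Sgn_le_Mono negOne_mem_Sgn) hk, a.neg, by
        rw [neg_mul_pow_odd ho, e, negOne_mul_self]⟩
  obtain ⟨k, -, hk⟩ := odd_conj_lift monoPerm (fun x hx => Subtype.ext (by
      show (x : Co0) ^ 8 = 1
      rw [show 8 = 2 * 4 from rfl, pow_mul, pow_two, monoPerm_ker x hx, one_pow])) ho
    (a := ⟨prm s0, prm_mem_Mono _⟩) (b := ⟨k1, hk1⟩) (c := ⟨prm m, prm_mem_Mono _⟩)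
    (Subtype.ext ((map_pow prmHom s0 p).symm.trans (by rw [hs0', map_one]; rfl))) (Subtype.ext hkp)
    (by rw [monoPerm_prm, monoPerm_prm, hm]; exact φ4 _ ⟨k1, hk1⟩ a)
  have hk' : (k : Co0) * prm s0 * (k : Co0)⁻¹ = k1 := congrArg Subtype.val hk
  have l1 : (l : G) * z = z * l := mem_centralizer_singleton_iff.1 l.2.1
  have l2 : (l : G) * (g * z * g⁻¹) = g * z * g⁻¹ * l := mem_centralizer_singleton_iff.1 l.2.2
  refine ⟨y ^ j, k, k.2, odd_zp_eq hp hYp (zpow_mem hy j) hj1, hpow _ (zpow_mem hy j),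
    hk' ▸ a, l * n, ?_, ?_, y ^ j', zpow_mem hy j', ?_⟩
  · rw [show l * n * z * (l * n : G)⁻¹ = l * (n * z * n⁻¹) * (l : G)⁻¹ by group, n1, l2,
      mul_inv_cancel_right]
  · rw [show l * n * (g * z * g⁻¹) * (l * n : G)⁻¹ = l * (n * (g * z * g⁻¹) * n⁻¹) * (l : G)⁻¹ by
      group, n2, l1, mul_inv_cancel_right]
  · rw [← hl', conj_zpow]; group

theorem odd_red [Finite G] {p : ℕ} (hp : p.Prime) (ho : Odd p)
    {s0 : M24} (hs0 : orderOf s0 = p) (c : ℕ → Prop) (hc : ∀ n k, c (n * 2 ^ k) → c n)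
    (K : ∀ σ : M24, orderOf σ = p → c (Nat.card (centralizer ({σ} : Set M24))) →
      ∃ m, m * s0 * m⁻¹ ∈ zpowers σ)
    {Y : Subgroup G} (hY : Y ≤ centralizer {z, g * z * g⁻¹}) (hYp : Nat.card Y = p)
    (hcY : c (Nat.card ↥(centralizer {z, g * z * g⁻¹} ⊓ centralizer (Y : Set G)))) :
    ∃ (y : G) (π' : centralizer ({z} : Set G) →* Co1) (Ov' : leechLattice → G → Prop),
      MT z R π' Ov' ∧ Ov' (e8 none) (g * z * g⁻¹) ∧ Y = zpowers y ∧ y ^ p = 1 ∧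
      Mt π' y (prm s0) ∧ prm s0 ^ p = 1 ∧
      ∃ h ∈ centralizer (Y : Set G), h * z * h⁻¹ = g * z * g⁻¹ := by
  rw [odd_cent_pair] at hY hcY
  obtain ⟨k0, hv⟩ := M.exists_e8 hs hne
  have M1 := M.twist k0
  obtain ⟨y, k, hk, rfl, y1, y2, n, n1, n2, u, hu, n3⟩ :=
    M1.odd_red' hs hne hv hp ho hs0 c hc K hY hYp hcY
  have M2 := M1.twist k
  have hb := mt_twist y2
  have hbp : prm s0 ^ p = 1 :=
    (map_pow prmHom s0 p).symm.trans (by rw [← hs0, pow_orderOf_eq_one, map_one])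
  refine ⟨y, _, _, M2, ?_, rfl, y1, hb, hbp, ?_⟩
  · obtain ⟨w, hw⟩ := hk
    exact M1.of_congr hv hw
  · have hys : g * z * g⁻¹ * y = y * (g * z * g⁻¹) :=
      (mem_centralizer_singleton_iff.1 (hY (mem_zpowers y)).2).symm
    have hd : ∃ d ∈ R, d * y = y * d ∧ g * z * g⁻¹ * d ≠ d * (g * z * g⁻¹) := by
      by_contra hn
      push Not at hn
      exact (M2.odd_cen ho y1 hb hbp hs hys hn).elim (M.es.conj g).ne hne
    obtain ⟨d, d1, d2, d3⟩ := hd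
    have d4 := M.es.conj_anti d1 hs d3.symm
    have d5 := mem_cent_zp.2 d2
    have h1 : n * d * n⁻¹ ∈ centralizer (zpowers y : Set G) := mem_cent_zp.2 (by
      rw [← n3, conj_mul, conj_mul, d5 u hu])
    refine ⟨d⁻¹ * (n * d * n⁻¹), mul_mem (inv_mem d5) h1, ?_⟩
    have h2 : n * d * n⁻¹ * z * (n * d * n⁻¹)⁻¹ = d * (g * z * g⁻¹) * d⁻¹ := by
      conv_lhs => rw [← n2]
      rw [show n * d * n⁻¹ * (n * (g * z * g⁻¹) * n⁻¹) * (n * d * n⁻¹)⁻¹ =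
        n * (d * (g * z * g⁻¹) * d⁻¹) * n⁻¹ by group, d4, ← conj_mul, n1, n2, M.es.cen _ hs]
    rw [show d⁻¹ * (n * d * n⁻¹) * z * (d⁻¹ * (n * d * n⁻¹))⁻¹ =
      d⁻¹ * (n * d * n⁻¹ * z * (n * d * n⁻¹)⁻¹) * d by group, h2]
    group

theorem odd_main [Finite G] {p : ℕ} (hp : p.Prime) (ho : Odd p)
    {s0 : M24} (hs0 : orderOf s0 = p) (c : ℕ → Prop) (hc : ∀ n k, c (n * 2 ^ k) → c n)
    (K : ∀ σ : M24, orderOf σ = p → c (Nat.card (centralizer ({σ} : Set M24))) →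
      ∃ m, m * s0 * m⁻¹ ∈ zpowers σ)
    {Y : Subgroup G} (hY : Y ≤ centralizer {z, g * z * g⁻¹}) (hYp : Nat.card Y = p)
    (hcY : c (Nat.card ↥(centralizer {z, g * z * g⁻¹} ⊓ centralizer (Y : Set G))))
    {w : ℕ} {T : Type*} [Group T] {τ : centralizer ({prm s0} : Set Co0) →* T}
    (D : OddData (prm s0) w τ) [(Y.subgroupOf (centralizer (Y : Set G))).Normal] :
    ∃ (z' : centralizer (Y : Set G) ⧸ Y.subgroupOf (centralizer (Y : Set G)))
      (Q : Subgroup (centralizer ({z'} : Set _))) (_ : Q.Normal),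
      IsExtraspecialCentralizerSetting z' Q w ∧ Nonempty (centralizer ({z'} : Set _) ⧸ Q ≃* T) := by
  obtain ⟨y, π', Ov', M', -, rfl, y1, hb, hbp, h, h1, h2⟩ :=
    M.odd_red hs hne hp ho hs0 c hc K hY hYp hcY
  rw [odd_cent_pair] at hY
  have hz : z ∈ centralizer (zpowers y : Set G) :=
    mem_cent_zp.2 (mem_centralizer_singleton_iff.1 (hY (mem_zpowers y)).1).symm
  have hn := M'.odd_normal ho y1 hz
  obtain ⟨hS, e, -⟩ := M'.odd_setting ho y1 hb hbp D hz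
    ⟨h, h1, h2 ▸ hs, fun e => hne (by rw [← h2, e, mul_inv_cancel_right])⟩
  exact ⟨_, _, hn, hS, ⟨e⟩⟩

end MT

end Cfsg.Lib.Leech
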