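import Cfsg.Agent.Lib.Mon.Grp3
import Cfsg.Agent.Lib.Golay.Blk

/-! Odd centralizers in groups of Monster type: the classes in `M24` and the final forms. -/

namespace Cfsg.Lib.Leech

open Subgroup MulAction Spor Cfsg.Lib.Known2 Cfsg.Lib.Core Cfsg.Lib.Amalg Cfsg.Lib.Golay Pointwise

theorem odd_sylow_conj {T : Type*} [Group T] [Finite T] {p : ℕ} (hp : p.Prime)
    (h : (Nat.card T).factorization p = 1) {σ s : T} (h1 : orderOf σ = p) (h2 : orderOf s = p) :
    ∃ m, m * s * m⁻¹ ∈ zpowers σ := by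
  have := Fact.mk hp
  let P : Sylow p T := Sylow.ofCard (zpowers σ) (by rw [h, Nat.card_zpowers, h1, pow_one])
  let Q : Sylow p T := Sylow.ofCard (zpowers s) (by rw [h, Nat.card_zpowers, h2, pow_one])
  obtain ⟨m, hm⟩ := MulAction.exists_smul_eq T Q P
  refine ⟨m, ?_⟩
  have : m * s * m⁻¹ ∈ ((m • Q : Sylow p T) : Subgroup T) :=
    smul_mem_pointwise_smul s (MulAut.conj m) (zpowers s) (mem_zpowers s)
  rwa [hm] at this

theorem odd_card_conj {T : Type*} [Group T] (m s : T) :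
    Nat.card (centralizer ({m * s * m⁻¹} : Set T)) = Nat.card (centralizer ({s} : Set T)) := by
  rw [← cj_centralizer_singleton, card_cj]

theorem odd_conj3 {σ s : M24} (h1 : orderOf σ = 3) (h2 : orderOf s = 3)
    (h : (∀ i, σ.1 i ≠ i) ↔ ∀ i, s.1 i ≠ i) : ∃ m : M24, m * s * m⁻¹ = σ := by
  rw [← orderOf_coe] at h1 h2
  have key : ∀ w : Equiv.Perm GolayPt, (∃ k ∈ M24, σ.1 = k * w * k⁻¹) →
      (∃ k ∈ M24, s.1 = k * w * k⁻¹) → ∃ m : M24, m * s * m⁻¹ = σ := by
    rintro w ⟨k, hk, e⟩ ⟨l, hl, e'⟩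
    refine ⟨⟨k * l⁻¹, mul_mem hk (inv_mem hl)⟩, Subtype.ext ?_⟩
    show k * l⁻¹ * s.1 * (k * l⁻¹)⁻¹ = σ.1
    rw [e, e']; group
  by_cases a : ∀ i, σ.1 i ≠ i
  · exact key _ (std_3B σ.2 h1 a) (std_3B s.2 h2 (h.1 a))
  · exact key _ (std_3A σ.2 h1 fun e => a (card_fix_eq_zero.1 e))
      (std_3A s.2 h2 fun e => a (h.2 (card_fix_eq_zero.1 e)))

theorem odd_fact3B {σ : M24} (h1 : orderOf σ = 3) (h : ∀ i, σ.1 i ≠ i) :
    ¬ 27 ∣ Nat.card (centralizer ({σ} : Set M24)) := by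
  have hy : ∀ p, gc.dec y3 p ≠ p := card_fix_eq_zero.mp (by rw [fix_y3, card_om]; rfl)
  obtain ⟨m, rfl⟩ := odd_conj3 (s := ⟨gc.dec y3, inH_y3.2⟩) h1
    (by rw [← orderOf_coe]; exact orderOf_y3) (iff_of_true h hy)
  rw [odd_card_conj, odd_card_coe]
  have a1 := card_C24_y3
  have a2 : 168 ∣ Nat.card ↥(M24 ⊓ centralizer {gc.dec y3}) := dvd_cent (gs :=
    [0xe1411160c08150702170a13010d061210090300050f0b04, 0x3130b140e0d0810040c1505110a00010f07170216091206])
    (inH_of_allL (by decide +kernel)) inH_y3.1 (by decide +kernel) (by decide +kernel)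
  have a3 : 0 < Nat.card ↥(M24 ⊓ centralizer {gc.dec y3}) := Nat.card_pos
  show ¬ 27 ∣ Nat.card ↥(M24 ⊓ centralizer {gc.dec y3})
  omega

theorem odd_fact3A {σ : M24} (h1 : orderOf σ = 3) (h : ¬ ∀ i, σ.1 i ≠ i) :
    27 ∣ Nat.card (centralizer ({σ} : Set M24)) := by
  have hi : gc.InH M24 0x1161309070b0504140e100c080a0f121506030d11170200 :=
    inH_of_inM24 (by decide +kernel)
  have hf : (Finset.univ.filter fun p =>
      gc.dec 0x1161309070b0504140e100c080a0f121506030d11170200 p = p) = om 0x405441 :=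
    hi.1.filter_fix (by decide +kernel)
  obtain ⟨m, rfl⟩ := odd_conj3 (s := ⟨_, hi.2⟩) h1
    (by rw [← orderOf_coe]; exact hi.1.orderOf_eq (by norm_num) (by decide +kernel))
    (iff_of_false h fun e => absurd ((hf ▸ card_fix_eq_zero.2 e).symm.trans (card_om _))
      (by decide))
  rw [odd_card_conj, odd_card_coe]
  exact dvd_cent (gs := gS3) inH_gS3 hi.1 (by decide +kernel) (by decide +kernel)

theorem odd_cen_iff {L : Type*} [Group L] [Finite L] (h : (Nat.card L).factorization 3 = 3)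
    {Y : Subgroup L} (hY : IsPGroup 3 Y) (hc : Y ≤ centralizer (Y : Set L)) :
    (∃ P : Sylow 3 L, Y ≤ (center (P : Subgroup L)).map (P : Subgroup L).subtype) ↔
      27 ∣ Nat.card (centralizer (Y : Set L)) := by
  have := Fact.mk Nat.prime_three
  constructor
  · rintro ⟨P, hP⟩
    have h1 : (P : Subgroup L) ≤ centralizer (Y : Set L) := fun x hx y hy => by
      obtain ⟨y', h2, rfl⟩ := hP hy
      exact congrArg Subtype.val (Subgroup.mem_center_iff.1 h2 ⟨x, hx⟩).symm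
    have := card_dvd_of_le h1
    rwa [P.card_eq_multiplicity, h] at this
  · intro hd
    obtain ⟨S, hS⟩ := (hY.comap_subtype (K := centralizer (Y : Set L))).exists_le_sylow
    have h1 : Nat.card ((S : Subgroup _).map (centralizer (Y : Set L)).subtype) =
        3 ^ (Nat.card L).factorization 3 := by
      rw [card_map_subtype, S.card_eq_multiplicity, h]
      congr 1
      have a1 := (Nat.factorization_prime_le_iff_dvd Nat.card_pos.ne' Nat.card_pos.ne').2
        (card_subgroup_dvd_card (centralizer (Y : Set L))) 3 Nat.prime_three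
      have a2 := (Nat.prime_three.pow_dvd_iff_le_factorization Nat.card_pos.ne').1
        (show 3 ^ 3 ∣ _ from hd)
      omega
    refine ⟨Sylow.ofCard _ h1, fun y hy => ⟨⟨y, ⟨y, hc hy⟩, hS hy, rfl⟩, ?_, rfl⟩⟩
    refine Subgroup.mem_center_iff.2 ?_
    rintro ⟨_, x, -, rfl⟩
    exact Subtype.ext (x.2 y hy).symm

theorem odd_cen_iff' {G : Type*} [Group G] [Finite G] {L Y : Subgroup G}
    (h : (Nat.card L).factorization 3 = 3) (hY : Y ≤ L) (h3 : Nat.card Y = 3) :
    (∃ P : Sylow 3 L, Y.subgroupOf L ≤ (center (P : Subgroup L)).map (P : Subgroup L).subtype) ↔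
      27 ∣ Nat.card ↥(L ⊓ centralizer (Y : Set G)) := by
  have := Fact.mk Nat.prime_three
  have e : centralizer (Y.subgroupOf L : Set L) = (L ⊓ centralizer (Y : Set G)).subgroupOf L := by
    ext x
    refine ⟨fun hx => ⟨x.2, fun y hy => congrArg Subtype.val (hx ⟨y, hY hy⟩ hy)⟩,
      fun hx y hy => Subtype.ext (hx.2 y hy)⟩
  have hc := isCyclic_of_prime_card h3
  rw [odd_cen_iff h (Y := Y.subgroupOf L) ((IsPGroup.of_card (n := 1) (by rw [h3, pow_one])).comap_subtype), e,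
    card_subgroupOf_of_le inf_le_left]
  rw [e]
  intro x hx
  refine ⟨x.2, fun y hy => ?_⟩
  letI := hc.commGroup
  exact congrArg Subtype.val (mul_comm (⟨y, hy⟩ : Y) ⟨x, hx⟩)

theorem odd_dvd27 {n k : ℕ} : 27 ∣ n * 2 ^ k ↔ 27 ∣ n :=
  Nat.Coprime.dvd_mul_right (Nat.Coprime.pow_right k (by norm_num))

theorem odd_fact_L {p : ℕ} (hp : p.Prime) {k : ℕ} (h1 : p ^ k ∣ 1002795171840 * 2 ^ 23)
    (h2 : ¬ p ^ (k + 1) ∣ 1002795171840 * 2 ^ 23) :
    (1002795171840 * 2 ^ 23).factorization p = k := by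
  rw [hp.pow_dvd_iff_le_factorization (by norm_num)] at h1 h2
  omega

theorem odd_fact_M24 {p : ℕ} (hp : p.Prime) (h1 : p ∣ 244823040) (h2 : ¬ p ^ 2 ∣ 244823040) :
    (Nat.card M24).factorization p = 1 := by
  rw [← pow_one p] at h1
  rw [hp.pow_dvd_iff_le_factorization (by norm_num)] at h1 h2
  rw [card_M24]
  omega

namespace MT

variable {G : Type*} [Group G] [Finite G] {z : G} {R : Subgroup G}
  {π : centralizer ({z} : Set G) →* Co1} {Ov : leechLattice → G → Prop} (M : MT z R π Ov)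
  {g : G} (hs : g * z * g⁻¹ ∈ R) (hne : g * z * g⁻¹ ≠ z)
  {Y : Subgroup G} (hY : Y ≤ centralizer {z, g * z * g⁻¹})
  {w : ℕ} {T : Type*} [Group T] {s0 : M24} {τ : centralizer ({prm s0} : Set Co0) →* T}
  (D : OddData (prm s0) w τ) [(Y.subgroupOf (centralizer (Y : Set G))).Normal]
include M hs hne hY D

theorem odd_syl {p : ℕ} (hp : p.Prime) (ho : Odd p) (hs0 : orderOf s0 = p)
    (h1 : p ∣ 244823040) (h2 : ¬ p ^ 2 ∣ 244823040) (h3 : ¬ p ^ 2 ∣ 1002795171840 * 2 ^ 23)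
    (hYp : Nat.card Y = p ^ (Nat.card (centralizer ({z, g * z * g⁻¹} : Set G))).factorization p) :
    ∃ (z' : centralizer (Y : Set G) ⧸ Y.subgroupOf (centralizer (Y : Set G)))
      (Q : Subgroup (centralizer ({z'} : Set _))) (_ : Q.Normal),
      IsExtraspecialCentralizerSetting z' Q w ∧ Nonempty (centralizer ({z'} : Set _) ⧸ Q ≃* T) := by
  rw [odd_cent_pair, M.card_L hs hne, odd_fact_L hp (k := 1)
    (by rw [pow_one]; exact h1.trans (by norm_num)) h3, pow_one] at hYp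
  exact M.odd_main hs hne hp ho hs0 (fun _ => True) (fun _ _ _ => trivial)
    (fun σ h _ => odd_sylow_conj hp (odd_fact_M24 hp h1 h2) h hs0) hY hYp trivial D

theorem odd_3B (hs0 : orderOf s0 = 3) (hf : ∀ i, s0.1 i ≠ i) (hY3 : Nat.card Y = 3)
    (hnc : ∀ P : Sylow 3 (centralizer ({z, g * z * g⁻¹} : Set G)), ¬ Y.subgroupOf _ ≤
      (center (P : Subgroup (centralizer ({z, g * z * g⁻¹} : Set G)))).map
        (P : Subgroup (centralizer ({z, g * z * g⁻¹} : Set G))).subtype) :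
    ∃ (z' : centralizer (Y : Set G) ⧸ Y.subgroupOf (centralizer (Y : Set G)))
      (Q : Subgroup (centralizer ({z'} : Set _))) (_ : Q.Normal),
      IsExtraspecialCentralizerSetting z' Q w ∧ Nonempty (centralizer ({z'} : Set _) ⧸ Q ≃* T) := by
  refine M.odd_main hs hne Nat.prime_three (by decide) hs0 (fun n => ¬ 27 ∣ n)
    (fun _ _ h e => h (odd_dvd27.2 e)) (fun σ h h' => ?_) hY hY3 (fun e => ?_) D
  · obtain ⟨m, hm⟩ := odd_conj3 h hs0 (iff_of_true (by_contra fun a => h' (odd_fact3A h a)) hf)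
    exact ⟨m, hm ▸ mem_zpowers _⟩
  · obtain ⟨P, hP⟩ := (odd_cen_iff' (by
      rw [odd_cent_pair, M.card_L hs hne]
      exact odd_fact_L Nat.prime_three (by norm_num) (by norm_num)) hY hY3).2 e
    exact hnc P hP

theorem odd_3A (hs0 : orderOf s0 = 3) (hf : ∃ i, s0.1 i = i) (hY3 : Nat.card Y = 3)
    (hc : ∃ P : Sylow 3 (centralizer ({z, g * z * g⁻¹} : Set G)), Y.subgroupOf _ ≤
      (center (P : Subgroup (centralizer ({z, g * z * g⁻¹} : Set G)))).map
        (P : Subgroup (centralizer ({z, g * z * g⁻¹} : Set G))).subtype) :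
    ∃ (z' : centralizer (Y : Set G) ⧸ Y.subgroupOf (centralizer (Y : Set G)))
      (Q : Subgroup (centralizer ({z'} : Set _))) (_ : Q.Normal),
      IsExtraspecialCentralizerSetting z' Q w ∧ Nonempty (centralizer ({z'} : Set _) ⧸ Q ≃* T) := by
  refine M.odd_main hs hne Nat.prime_three (by decide) hs0 (fun n => 27 ∣ n)
    (fun _ _ h => odd_dvd27.1 h) (fun σ h h' => ?_) hY hY3 ((odd_cen_iff' (by
      rw [odd_cent_pair, M.card_L hs hne]
      exact odd_fact_L Nat.prime_three (by norm_num) (by norm_num)) hY hY3).1 hc) D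
  obtain ⟨i, hi⟩ := hf
  obtain ⟨m, hm⟩ := odd_conj3 h hs0 (iff_of_false (fun a => odd_fact3B h a h') fun a => a i hi)
  exact ⟨m, hm ▸ mem_zpowers _⟩

end MT

end Cfsg.Lib.Leech
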