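import Cfsg.Agent.Lib.Mon.H1
import Cfsg.Agent.Lib.Mon.Grp4
import Cfsg.Agent.Lib.Layer.Component

/-! The normalizer of a subgroup of order seven in a group of Monster type. -/

namespace Cfsg.Lib.Leech

open Subgroup MulAction Spor Cfsg.Lib.Known2 Cfsg.Lib.Core Cfsg.Lib.Amalg

theorem seven_mem_layer {C : Type*} [Group C] {N : Subgroup C} [N.Normal] (hN : N ≤ center C)
    (h7 : ∀ n ∈ N, n ^ 7 = 1) (hq : IsQuasisimple (C ⧸ N)) {x : C} (hx : x * x = 1) :
    x ∈ layer C := by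
  have h1 : (_root_.commutator C).map (QuotientGroup.mk' N) = ⊤ := by
    rw [map_commutator_eq, MonoidHom.range_eq_top.2 (QuotientGroup.mk'_surjective N)]
    exact Layer.IsQuasisimple.commutator_eq_top hq
  have h2 : _root_.commutator C ⊔ N = ⊤ := by
    have := congrArg (comap (QuotientGroup.mk' N)) h1
    rwa [comap_map_eq, QuotientGroup.ker_mk', comap_top] at this
  have hc : ∀ K : Subgroup C, ⁅N, K⁆ = ⊥ := fun K => Layer.commutator_eq_bot_of_forall
    fun a ha b _ => (Subgroup.mem_center_iff.1 (hN ha) b).symm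
  have hL : IsComponent (_root_.commutator C) := ⟨Normal.isSubnormal inferInstance,
    Layer.isQuasisimple_of_map (le_antisymm (commutator_le_right _ _)
      (Layer.commutator_sup_central_le (M := ⊤) (hc _) (hc _) h2.ge)) (QuotientGroup.mk' N)
      (Layer.commutator_eq_bot_mono (Layer.commutator_eq_bot_symm (hc _)) le_rfl
        (by rw [QuotientGroup.ker_mk']; exact inf_le_right))
      (by rw [h1]; exact Layer.isQuasisimple_top_iff.2 hq)⟩
  refine Layer.IsComponent.le_layer hL ?_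
  obtain ⟨k, hk, n, hn, e⟩ := mem_sup_of_normal_right.1 (h2.ge (mem_top x))
  have h3 : x ^ 7 = k ^ 7 := by
    rw [← e, Commute.mul_pow (Subgroup.mem_center_iff.1 (hN hn) k), h7 n hn, mul_one]
  have h4 : x ^ 7 = x := by
    rw [show 7 = 2 * 3 + 1 from rfl, pow_succ, pow_mul, pow_two, hx, one_pow, one_mul]
  rw [← h4, h3]
  exact pow_mem hk 7

theorem seven_relIndex {G : Type*} [Group G] [Finite G] {y n : G} (hy : orderOf y = 7)
    (hn : n * y * n⁻¹ = y ^ 5) :
    (centralizer (zpowers y : Set G)).relIndex (normalizer (zpowers y : Set G)) = 6 := by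
  have hc : Nat.card (zpowers y) = 7 := by rw [Nat.card_zpowers, hy]
  have hN : n ∈ normalizer (zpowers y : Set G) := mem_normalizer_fintype (by
    rintro _ ⟨m, rfl⟩
    show n * y ^ m * n⁻¹ ∈ zpowers y
    rw [← conj_zpow, hn]
    exact zpow_mem (pow_mem (mem_zpowers y) 5) m)
  have h1 : ∀ k : ℕ, n ^ k * y * (n ^ k)⁻¹ = y ^ 5 ^ k := fun k => by
    induction k with
    | zero => simp
    | succ k ih =>
      rw [pow_succ' n, show n * n ^ k * y * (n * n ^ k)⁻¹ = n * (n ^ k * y * (n ^ k)⁻¹) * n⁻¹ by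
        group, ih, ← conj_pow, hn, ← pow_mul, pow_succ']
  rw [relIndex, ← normalizerMonoidHom_ker, index_ker]
  have h2 := card_subgroup_dvd_card (normalizerMonoidHom (zpowers y)).range
  rw [IsCyclic.card_mulAut, hc, show Nat.totient 7 = 6 from by decide] at h2
  have h3 : (5 : ℕ) ^ Nat.card (normalizerMonoidHom (zpowers y)).range ≡ 1 [MOD 7] := by
    have a1 := congrArg Subtype.val (pow_card_eq_one' (x := (⟨_, ⟨n, hN⟩, rfl⟩ :
      (normalizerMonoidHom (zpowers y)).range)))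
    have a2 : (⟨n, hN⟩ : normalizer (zpowers y : Set G)) ^
        Nat.card (normalizerMonoidHom (zpowers y)).range ∈
        (normalizerMonoidHom (zpowers y)).ker := (map_pow _ _ _).trans a1
    rw [normalizerMonoidHom_ker] at a2
    have a3 : n ^ Nat.card (normalizerMonoidHom (zpowers y)).range * y = y * _ :=
      mem_cent_zp.1 a2
    rw [← hy, ← pow_eq_pow_iff_modEq, ← h1, a3, mul_inv_cancel_right, pow_one]
  have h4 := Nat.le_of_dvd (by norm_num) h2
  generalize Nat.card (normalizerMonoidHom (zpowers y)).range = k at h2 h3 h4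
  interval_cases k <;> first | rfl | (exact absurd h3 (by decide)) | (exact absurd h2 (by decide))

namespace MT

variable {G : Type*} [Group G] [Finite G] {z : G} {R : Subgroup G}
  {π : centralizer ({z} : Set G) →* Co1} {Ov : leechLattice → G → Prop} (M : MT z R π Ov)
include M

theorem seven_real {t y : G} {k b : Co0} (ht : t * t = 1) (a : Mt π t k) (hy : y ^ 7 = 1)
    (hb : Mt π y b) (hb7 : b ^ 7 = 1) (h : k * b * k⁻¹ = b⁻¹) :
    ∃ u ∈ centralizer ({z} : Set G), u * u = 1 ∧ u * y * u⁻¹ = y⁻¹ := by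
  have h1 := ((a.mul (hb.pow 3)).mul a.inv).mul (hb.pow 3).inv
  rw [← conj_pow (a := k), h, show b⁻¹ ^ 3 * (b ^ 3)⁻¹ = b * (b ^ 7)⁻¹ by group, hb7, inv_one, mul_one] at h1
  set w := t * y ^ 3 * t⁻¹ * (y ^ 3)⁻¹ with hw
  have h2 : t * w * t⁻¹ = w⁻¹ := by
    rw [hw, show t * (t * y ^ 3 * t⁻¹ * (y ^ 3)⁻¹) * t⁻¹ =
      (t * t) * y ^ 3 * t * (t * t)⁻¹ * (y ^ 3)⁻¹ * t⁻¹ by group, ht]
    group
  have h3 := h1.pow 7
  rw [hb7] at h3
  have h4 := M.pow_four ((M.mt_mem h3).2 (Or.inl rfl))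
  have h5 := h1.pow 8
  rw [pow_succ b, hb7, one_mul] at h5
  obtain ⟨l, l1, l2⟩ := M.odd_lift (p := 7) (by decide) (y := w ^ 8) (k := 1)
    (by rw [← pow_mul, show 8 * 7 = 7 * 4 * 2 from rfl, pow_mul, pow_mul, h4, one_pow]) hy h5 hb
    (by simp)
  refine ⟨l * t * l⁻¹, mul_mem (mul_mem l1.1 a.1) (inv_mem l1.1), by rw [conj_mul, ht]; simp, ?_⟩
  rw [← l2, show l * t * l⁻¹ * (l * w ^ 8 * l⁻¹) * (l * t * l⁻¹)⁻¹ = l * (t * w ^ 8 * t⁻¹) * l⁻¹ by
    group, ← conj_pow, h2]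
  group

variable {g : G} (hs : g * z * g⁻¹ ∈ R) (hne : g * z * g⁻¹ ≠ z)
  (hv : Ov (e8 none) (g * z * g⁻¹))
include hs hne hv

theorem exists_invol_sgn {d : Co0} (hd : d ∈ Sgn) (hd1 : ¬ (d = 1 ∨ d = negOne)) :
    ∃ x, Mt π x d ∧ x * x = 1 := by
  have E := M.es.conj g
  obtain ⟨x, hx, a⟩ := mem_img.1 (M.img_B hs hne hv ▸ hd)
  by_cases hc : ∃ u ∈ R ⊓ cj g R, x * u ≠ u * x
  · obtain ⟨u, hu, e⟩ := hc
    rcases E.sq_mem x hx.2 with c | c
    · exact ⟨x, a, c⟩
    · refine ⟨x * u, by simpa using a.mul (M.mt_of_mem hu.1), ?_⟩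
      rw [mul_assoc, ← mul_assoc u, E.anti hu.2 hx.2 (Ne.symm e), mul_assoc (x * u), ← E.cen u hu.2,
        show x * (x * u * (u * (g * z * g⁻¹))) = x * x * (u * u) * (g * z * g⁻¹) by
          simp only [mul_assoc], c, M.sq_of_mem hne hu, mul_one, E.sq]
  · exfalso
    push Not at hc
    let B := centralizer {z} ⊓ cj g R ⊓ centralizer ((R ⊓ cj g R : Subgroup G) : Set G)
    have hB : img π B = Sgn := by
      have hle : img π B ≤ img π (centralizer {z} ⊓ cj g R) := fun k hk =>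
        let ⟨h, hh, a⟩ := mem_img.1 hk
        mem_img.2 ⟨h, hh.1, a⟩
      refine eq_Sgn (hle.trans ((M.img_B hs hne hv).le.trans Sgn_le_Mono)) (fun k hk y hy => ?_)
        (fun y hy => M.img_pow_four hs (hle hy)) (negOne_mem_img _)
        ⟨d, mem_img.2 ⟨x, ⟨hx, fun u hu => (hc u hu).symm⟩, a⟩, hd1⟩
      obtain ⟨h, hh, a1⟩ := mem_img.1 (M.img_X hne hv ▸ hk)
      obtain ⟨r, hr, a2⟩ := mem_img.1 hy
      refine mem_img.2 ⟨_, ⟨⟨((a1.mul a2).mul a1.inv).1, M.conj_mem' hh.2 hr.1.2⟩, fun u hu => ?_⟩,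
        (a1.mul a2).mul a1.inv⟩
      have := hr.2 _ (show h⁻¹ * u * h⁻¹⁻¹ ∈ R ⊓ cj g R from
        ⟨M.conj_mem (inv_mem (mem_inf.1 hh).1) hu.1, M.conj_mem' (inv_mem (mem_inf.1 hh).2) hu.2⟩)
      rw [show u * (h * r * h⁻¹) = h * (h⁻¹ * u * h⁻¹⁻¹ * r) * h⁻¹ by group, this]
      group
    have h2 : ((R ⊓ cj g R : Subgroup G) : Set G) ⊆
        {1, g * z * g⁻¹, z, z * (g * z * g⁻¹)} := fun u hu => by
      have := E.double_perp (M.z_mem hs hne) hu.2 fun y hy e => by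
        have hy' : y ∈ centralizer {z} ⊓ cj g R := ⟨mem_centralizer_singleton_iff.2 e.symm, hy⟩
        obtain ⟨k, hk⟩ := exists_mt (π := π) hy'.1
        obtain ⟨r, hr, a2⟩ := mem_img.1 (hB ▸ M.img_B hs hne hv ▸ mem_img.2 ⟨y, hy', hk⟩ :
          k ∈ img π B)
        have a3 : r⁻¹ * y ∈ R ⊓ cj g R := mem_inf.2 ⟨(M.mt_mem (a2.inv.mul hk)).2
          (Or.inl (inv_mul_cancel k)), mul_mem (inv_mem (mem_inf.1 (mem_inf.1 hr).1).2) hy⟩
        have a4 := M.comm_of_mem hne hu a3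
        rw [show y = r * (r⁻¹ * y) by group, ← mul_assoc, hr.2 u hu, mul_assoc, a4, ← mul_assoc]
      simpa only [Set.mem_insert_iff, Set.mem_singleton_iff, or_assoc] using this
    have h3 := (Set.ncard_le_ncard h2).trans (Set.ncard_insert_le _ _)
    have h4 := Set.ncard_insert_le (g * z * g⁻¹) {z, z * (g * z * g⁻¹)}
    have h5 := Set.ncard_insert_le z {z * (g * z * g⁻¹)}
    have h6 : ((R ⊓ cj g R : Subgroup G) : Set G).ncard = 2 ^ 13 := M.card_inf hs hne
    rw [Set.ncard_singleton] at h5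
    omega

omit hs in
theorem seven_not_real {y u : G} (hb : Mt π y (prm H7.s7))
    (hy : y ∈ centralizer {z} ⊓ centralizer {g * z * g⁻¹})
    (hu : u ∈ centralizer {z} ⊓ centralizer {g * z * g⁻¹}) : u * y * u⁻¹ ≠ y⁻¹ := fun e => by
  obtain ⟨φ, -, -, -, h⟩ := M.exists_phi hne hv
  have h1 := (h ⟨y, hy⟩ ⟨_, prm_mem_Mono _⟩ hb).trans (monoPerm_prm _)
  refine H7.not_real (φ ⟨u, hu⟩) ?_
  rw [← h1, ← map_inv, ← map_inv, ← map_mul, ← map_mul]
  exact congrArg φ (Subtype.ext e)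

omit hv in
theorem seven {B : Subgroup G} (hB : B ≤ centralizer {z, g * z * g⁻¹})
    (hBp : Nat.card B = 7 ^ (Nat.card (centralizer ({z, g * z * g⁻¹} : Set G))).factorization 7)
    (hq : ∀ [(B.subgroupOf (centralizer (B : Set G))).Normal],
      IsQuasisimple (centralizer (B : Set G) ⧸ B.subgroupOf (centralizer (B : Set G)))) :
    (centralizer (B : Set G)).relIndex (normalizer (B : Set G)) = 6 ∧ ∃ t : G, orderOf t = 2 ∧
      (∀ b ∈ B, t * b * t⁻¹ = b⁻¹) ∧
      (∀ x ∈ (layer ↥(centralizer (B : Set G))).map (centralizer (B : Set G)).subtype,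
        t * x * t⁻¹ ∈ (layer ↥(centralizer (B : Set G))).map (centralizer (B : Set G)).subtype) ∧
      ¬ ∃ l ∈ (layer ↥(centralizer (B : Set G))).map (centralizer (B : Set G)).subtype,
        ∀ x ∈ (layer ↥(centralizer (B : Set G))).map (centralizer (B : Set G)).subtype,
          t * x * t⁻¹ = l * x * l⁻¹ := by
  have hp : Nat.Prime 7 := by norm_num
  rw [odd_cent_pair, M.card_L hs hne, odd_fact_L hp (k := 1) (by norm_num) (by norm_num),
    pow_one] at hBp
  obtain ⟨y, π', Ov', M', hv, rfl, y1, hb, hbp, -⟩ := M.odd_red hs hne hp (by decide)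
    H7.orderOf_s7 (fun _ => True) (fun _ _ _ => trivial) (fun σ h _ => odd_sylow_conj hp
      (odd_fact_M24 hp (by norm_num) (by norm_num)) h H7.orderOf_s7) hB hBp trivial
  rw [odd_cent_pair] at hB
  have hy : orderOf y = 7 := by rw [← Nat.card_zpowers, hBp]
  have hyL := hB (mem_zpowers y)
  obtain ⟨c, d, hd, e⟩ := H7.exists_inv
  obtain ⟨x, a, hx⟩ := M'.exists_invol_sgn hs hne hv hd fun h => by
    have h1 : prm H7.s7 = (prm H7.s7)⁻¹ := by
      rw [← e]
      rcases h with rfl | rfl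
      · simp
      · rw [negOne_comm c, mul_inv_cancel_right, ← negOne_comm, mul_inv_cancel_right]
    exact H7.not_real 1 (prm_injective (by rw [prm_inv, ← h1]; simp))
  obtain ⟨f, hf⟩ := M'.exists_h c
  obtain ⟨t, t1, t2, t3⟩ := M'.seven_real (t := f * x * f⁻¹) (by rw [conj_mul, hx]; simp)
    ((hf.mul a).mul hf.inv) y1 hb hbp e
  obtain ⟨m, hm⟩ := H7.exists_sq
  obtain ⟨l, -, l2⟩ := M'.odd_lift (p := 7) (by decide) (y' := y ^ 2) (k := prm m) y1
    (by rw [← pow_mul, mul_comm, pow_mul, y1, one_pow]) hb (hb.pow 2)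
    (by rw [← prm_inv, ← prm_mul, ← prm_mul, hm, pow_two, pow_two, prm_mul])
  have t4 : ∀ b ∈ zpowers y, t * b * t⁻¹ = b⁻¹ := by
    rintro _ ⟨j, rfl⟩
    show t * y ^ j * t⁻¹ = (y ^ j)⁻¹
    rw [← conj_zpow, t3, inv_zpow]
  have hN : t ∈ normalizer (centralizer (zpowers y : Set G) : Set G) :=
    mem_normalizer_fintype fun u hu => mem_cent_zp.2 (by
      have h1 : u * y⁻¹ = y⁻¹ * u := (Commute.inv_right (mem_cent_zp.1 hu)).eq
      have h2 := t4 _ (inv_mem (mem_zpowers y))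
      rw [inv_inv] at h2
      rw [← h2, conj_mul, conj_mul, h1])
  refine ⟨seven_relIndex (n := t * l) hy ?_, t, orderOf_eq_two_of t2 ?_, t4,
    fun u hu => (mem_normalizer_iff.1 (Layer.normalizer_le_normalizer_layerOf _ hN) u).1 hu, ?_⟩
  · rw [show t * l * y * (t * l)⁻¹ = t * (l * y * l⁻¹) * t⁻¹ by group, l2,
      t4 _ (pow_mem (mem_zpowers y) 2), inv_eq_iff_mul_eq_one, ← pow_add, y1]
  · rintro rfl
    exact M'.seven_not_real hne hv hb hyL (one_mem _) t3
  · rintro ⟨l, hl, h⟩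
    have hc : (zpowers y).subgroupOf (centralizer (zpowers y : Set G)) ≤ center _ :=
      fun n hn => Subgroup.mem_center_iff.2 fun u => Subtype.ext (u.2 n hn).symm
    have hn : ((zpowers y).subgroupOf (centralizer (zpowers y : Set G))).Normal :=
      ⟨fun n hn u => by
        rw [Subgroup.mem_center_iff.1 (hc hn) u, mul_inv_cancel_right]; exact hn⟩
    have key : ∀ u, u * u = 1 → y ∈ centralizer {u} → l⁻¹ * t ∈ centralizer {u} := fun u u1 u2 => by
      have := h u ⟨⟨u, mem_cent_zp.2 (mem_centralizer_singleton_iff.1 u2).symm⟩,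
        seven_mem_layer hc (fun n hn => Subtype.ext (odd_pow_of_mem y1 hn)) hq (Subtype.ext u1), rfl⟩
      rw [mem_centralizer_singleton_iff, show l⁻¹ * t * u = l⁻¹ * (t * u * t⁻¹) * t by group, this]
      group
    refine M'.seven_not_real hne hv hb hyL
      ⟨key z M.es.sq hyL.1, key _ (M.es.conj g).sq hyL.2⟩ ?_
    have h1 : l * y⁻¹ = y⁻¹ * l :=
      (Commute.inv_right (mem_cent_zp.1 (Layer.layerOf_le _ hl))).eq
    rw [show l⁻¹ * t * y * (l⁻¹ * t)⁻¹ = l⁻¹ * (t * y * t⁻¹ * l) by group, t3, ← h1]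
    group

end MT

end Cfsg.Lib.Leech
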