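import Mathlib

/-! An isomorphism invariant of an involution. -/

namespace Cfsg.Lib.Mon

variable {G G' : Type*} [Group G] [Group G']

/-- `a` lies in a normal 2-subgroup of the centralizer of `x`. -/
def InO (x a : G) : Prop := ∃ N : Subgroup G, IsPGroup 2 N ∧ a ∈ N ∧ (∀ n ∈ N, n * x = x * n) ∧
  ∀ c, c * x = x * c → ∀ n ∈ N, c * n * c⁻¹ ∈ N

theorem InO.map {x a : G} (h : InO x a) (e : G ≃* G') : InO (e x) (e a) := by
  obtain ⟨N, h1, h2, h3, h4⟩ := h
  refine ⟨N.map e.toMonoidHom, h1.map _, ⟨a, h2, rfl⟩, ?_, fun c hc => ?_⟩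
  · rintro _ ⟨n, hn, rfl⟩
    exact (map_mul e n x).symm.trans ((congrArg e (h3 n hn)).trans (map_mul e x n))
  · rintro _ ⟨n, hn, rfl⟩
    obtain ⟨c, rfl⟩ := e.surjective c
    exact ⟨_, h4 c (e.injective (by simpa using hc)) n hn, by simp⟩

theorem InO.conj {x a : G} (h : InO x a) (g : G) : InO (g * x * g⁻¹) (g * a * g⁻¹) :=
  h.map (MulAut.conj g)

/-- the conjugates of `z` in `O₂(C(z)) ∩ O₂(C(s))` lie in `⟨z, s⟩`. -/
def Q3 (z : G) : Prop := ∀ s a, IsConj z s → IsConj z a → s ≠ z → InO z s → InO z a → InO s a →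
  a = z ∨ a = s ∨ a = s * z

theorem Q3.map {z : G} (h : Q3 z) (e : G ≃* G') : Q3 (e z) := by
  intro s a h1 h2 h3 h4 h5 h6
  obtain ⟨s, rfl⟩ := e.surjective s
  obtain ⟨a, rfl⟩ := e.surjective a
  have := h s a (by simpa using e.symm.toMonoidHom.map_isConj h1)
    (by simpa using e.symm.toMonoidHom.map_isConj h2) (fun e' => h3 (by rw [e']))
    (by simpa using h4.map e.symm) (by simpa using h5.map e.symm) (by simpa using h6.map e.symm)
  rcases this with a | a | a <;> simp [a]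

end Cfsg.Lib.Mon
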