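import Cfsg.Agent.Lib.Held.Id6
import Cfsg.Agent.Lib.Held.Main
import Cfsg.Agent.Lib.Golay.Blk
import Cfsg.Agent.Lib.Golay.C2
import Cfsg.Agent.Lib.Layer.FStar
import Cfsg.Agent.Lib.Mon.Q3

/-! # Recognition of the Held group without simplicity -/

set_option autoImplicit false
set_option maxRecDepth 100000

namespace Cfsg.Lib.Held

open Subgroup Cfsg.Lib.Known2 Cfsg.Lib.Transfer Cfsg.Lib.JT Matrix Cfsg.Lib.Mon

variable {G : Type*} [Group G]

theorem Cert.few [Finite G] {τ ε W m r₀ : ℕ} {R : List (ℕ × List ℕ × List ℕ)} {E : List ℕ} (c : Cert τ ε W m R r₀ E)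
    {z : G} (hz : orderOf z = 2) {F₀ : ℕ → centralizer ({z} : Set G)} (f : Crd τ ε ⟨z, mem_centralizer_singleton_iff.2 rfl⟩ F₀)
    {S : Set G} (hS : ∀ x ∈ S, IsConj z x ∧ x * z = z * x) : S.ncard ≤ E.length := by
  obtain ⟨F, mul, inj, sj, cm, f0, f1⟩ : ∃ F : ℕ → G, (∀ a < 21504, ∀ b < 21504, F (mw τ ε a b) = F a * F b) ∧
      (∀ a < 21504, ∀ b < 21504, F a = F b → a = b) ∧ (∀ g : G, g * z = z * g → ∃ a < 21504, F a = g) ∧ (∀ a, F a * z = z * F a) ∧
      F 0 = 1 ∧ F 1 = z := ⟨fun n => F₀ n, fun a ha b hb => congrArg Subtype.val (f.mul a ha b hb).2,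
    fun a ha b hb e => f.inj a ha b hb (Subtype.ext e), fun g hg => (f.surj ⟨g, mem_centralizer_singleton_iff.2 hg⟩).imp
      fun _ h => ⟨h.1, congrArg Subtype.val h.2⟩, fun a => mem_centralizer_singleton_iff.1 (F₀ a).2, congrArg Subtype.val f.one,
    congrArg Subtype.val f.zz⟩
  have cz : ∀ a, F a * z * (F a)⁻¹ = z := fun a => by rw [cm, mul_inv_cancel_right]
  have cz' : ∀ a, (F a)⁻¹ * z * F a = z := fun a => by rw [mul_assoc, ← cm, inv_mul_cancel_left]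
  have z2 : z * z = 1 := by rw [← sq, ← hz, pow_orderOf_eq_one]
  have z1 : z ≠ 1 := by rintro rfl; simp at hz
  have wit : ∀ k < m, wf W k 32 < 21504 ∧ F (wf W k 0) = F (wf W k 16) * F (wf W k 32) * (F (wf W k 16))⁻¹ := fun k hk => by
    obtain ⟨l0, l1, e, ⟨r, hr, e'⟩, -⟩ := c.wit k hk
    have l2 := e' ▸ (c.la r hr).1
    exact ⟨l2, by rw [← mul _ l1 _ l2, ← e, mul _ l0 _ l1, mul_inv_cancel_right]⟩
  have cls : ∀ g : G, g * z * g⁻¹ * z = z * (g * z * g⁻¹) → g * z * g⁻¹ ≠ z → ∃ k < m, F (wf W k 0) = g * z * g⁻¹ := fun g h1 h2 => by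
    obtain ⟨n, hn, e⟩ := sj _ h1
    refine (c.inv n hn (inj _ (f.mul n hn n hn).1 _ (by norm_num) (by rw [mul n hn n hn, e, conj_mul, z2, f0]; simp))).elim
      (fun h => ?_) fun ⟨k, hk, e'⟩ => ⟨k, hk, e' ▸ e⟩
    interval_cases n
    exacts [absurd (conj_eq_one_iff.1 (e.symm.trans f0)) z1, absurd (e.symm.trans f1) h2]
  have cnt : ∀ g : G, ∀ e ∈ R, ∀ e' ∈ R, g * z * g⁻¹ = F e.1 → g * F e'.1 * g⁻¹ = z → e'.2.1.length ≤ e.2.2.length :=
    fun g e he e' he' g1 g2 => by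
    obtain ⟨l', nd, hk⟩ := c.la e' he'
    have : ∀ k, ∃ l < 21504, k ∈ e'.2.1 → F l = g * F k * g⁻¹ := fun k => by
      by_cases h : k ∈ e'.2.1
      · refine (sj (g * F k * g⁻¹) ?_).imp fun _ h => ⟨h.1, fun _ => h.2⟩
        rw [← g2, conj_mul, conj_mul, ← mul _ (hk k h).1 _ l', (hk k h).2.2, mul _ l' _ (hk k h).1]
      · exact ⟨0, by norm_num, fun h' => absurd h' h⟩
    choose p hp using this
    have := (List.subperm_of_subset (nd.map_on (f := p) fun x hx y hy e => inj _ (hk x hx).1 _ (hk y hy).1 (by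
      have := (hp x).2 hx
      rw [e, (hp y).2 hy] at this
      exact (mul_left_cancel (mul_right_cancel this)).symm)) (l₂ := e.2.2) fun l hl => by
        obtain ⟨k, h, rfl⟩ := List.mem_map.1 hl
        exact c.sqr _ (hp k).1 e he (inj _ (f.mul _ (hp k).1 _ (hp k).1).1 _ (c.la e he).1 (by
          rw [mul _ (hp k).1 _ (hp k).1, (hp k).2 h, conj_mul, ← mul _ (hk k h).1 _ (hk k h).1, (hk k h).2.1, f1, g1]))).length_le
    rwa [List.length_map] at this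
  have key : ∀ g : G, g * z * g⁻¹ * z = z * (g * z * g⁻¹) → g * z * g⁻¹ ≠ z →
      ∃ k < m, F (wf W k 0) = g * z * g⁻¹ ∧ wf W k 32 = r₀ := fun g h1 h2 => by
    obtain ⟨k, hk, e⟩ := cls g h1 h2
    obtain ⟨j, hj, e'⟩ := cls g⁻¹ (by
      calc _ = g⁻¹ * (z * (g * z * g⁻¹)) * g := by group
        _ = _ := by rw [← h1]; group) fun h => h2 (by nth_rw 1 [← h]; group)
    obtain ⟨r, hr, er⟩ := (c.wit k hk).2.2.2.1
    obtain ⟨s, hs, es⟩ := (c.wit j hj).2.2.2.1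
    rw [(wit j hj).2, ← es] at e'
    refine ⟨k, hk, e, er ▸ c.num r hr s hs (cnt ((F (wf W j 16))⁻¹ * g⁻¹ * F (wf W k 16)) s hs r hr ?_ ?_)
      (cnt ((F (wf W k 16))⁻¹ * g * F (wf W j 16)) r hr s hs ?_ ?_)⟩ <;> rw [(wit k hk).2, ← er] at e
    · calc _ = (F (wf W j 16))⁻¹ * (g⁻¹ * (F (wf W k 16) * z * (F (wf W k 16))⁻¹) * g⁻¹⁻¹) * F (wf W j 16) := by group
        _ = _ := by rw [cz, ← e']; group
    · calc _ = (F (wf W j 16))⁻¹ * (g⁻¹ * (F (wf W k 16) * F r.1 * (F (wf W k 16))⁻¹) * g) * F (wf W j 16) := by group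
        _ = _ := by rw [e]; refine Eq.trans ?_ (cz' (wf W j 16)); group
    · calc _ = (F (wf W k 16))⁻¹ * (g * (F (wf W j 16) * z * (F (wf W j 16))⁻¹) * g⁻¹) * F (wf W k 16) := by group
        _ = _ := by rw [cz, ← e]; group
    · calc _ = (F (wf W k 16))⁻¹ * (g * (F (wf W j 16) * F s.1 * (F (wf W j 16))⁻¹) * g⁻¹) * F (wf W k 16) := by group
        _ = _ := by rw [e']; refine Eq.trans ?_ (cz' (wf W k 16)); group
  classical
  refine (Set.ncard_le_ncard (t := F '' E.toFinset) (fun x hx => ?_)).trans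
    ((Set.ncard_image_le).trans (by rw [Set.ncard_coe_finset]; exact E.toFinset_card_le))
  obtain ⟨h, h1⟩ := hS x hx
  obtain ⟨g, rfl⟩ := isConj_iff.1 h
  by_cases h2 : g * z * g⁻¹ = z
  · exact ⟨1, by simpa using c.cl.2.1, f1.trans h2.symm⟩
  obtain ⟨k, hk, e, er⟩ := key g h1 h2
  exact ⟨_, by simpa using (c.wit k hk).2.2.2.2 er, e⟩

theorem ident_many [Finite G] (t : G) (ht : orderOf t = 2) (Q : Subgroup (centralizer ({t} : Set G))) [Q.Normal]
    (hQ : Cfsg.IsExtraspecial 2 Q) (hcard : Nat.card Q = 2 ^ 7) (h2c : centralizer (Q : Set (centralizer ({t} : Set G))) ≤ Q)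
    (e : centralizer ({t} : Set G) ⧸ Q ≃* SpecialLinearGroup (Fin 3) (ZMod 2))
    {S : Set G} (hS : ∀ x ∈ S, IsConj t x ∧ x * t = t * x) (h16 : 16 < S.ncard) : ∃ φ : HH →* G, HT φ ∧ φ z0 = t := by
  have : Fact (Nat.Prime 2) := ⟨Nat.prime_two⟩
  obtain ⟨z1, -, h⟩ := exists_ES hQ
  let z' : centralizer ({t} : Set G) := ⟨t, mem_centralizer_singleton_iff.2 rfl⟩
  have hc' : ∀ g, g * z' = z' * g := fun g => Subtype.ext (mem_centralizer_singleton_iff.1 g.2)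
  have zQ : z' ∈ Q := h2c fun g _ => hc' g
  obtain rfl : z' = z1 := (h.of_cen z' zQ fun y _ => (hc' y).symm).resolve_left fun e => by
    rw [show t = 1 from congrArg Subtype.val e] at ht; simp at ht
  obtain ⟨u, h', w, tr⟩ := tri_SL3
  have hC : Nat.card (centralizer ({t} : Set G)) = 21504 := by
    rw [card_eq_card_quotient_mul_card_subgroup Q, Nat.card_congr e.toEquiv, hcard, show Nat.card (SpecialLinearGroup (Fin 3) (ZMod 2)) = 168 by
      convert Linear.card_SL_three_two]; rfl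
  obtain ⟨τ, hτ, ε, hε, θ, U, h0, w0, N⟩ := exists_nf h hc' hcard (fun g hg => h2c fun x hx => (hg x hx).symm)
    (e.toMonoidHom.comp (QuotientGroup.mk' Q)) (e.surjective.comp (QuotientGroup.mk'_surjective Q))
    (fun g => (e.map_eq_one_iff).trans (QuotientGroup.eq_one_iff g)) tr
  obtain ⟨F, f⟩ := N.crd hτ hε hC
  by_cases h20 : τ = 2 ∧ ε = 0
  · obtain ⟨rfl, rfl⟩ := h20
    obtain ⟨F', f'⟩ := crd_HH
    obtain ⟨φ, h1, h2⟩ := f'.iso f
    have h3 : ((Subgroup.subtype _).comp φ) z0 = t := congrArg Subtype.val h2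
    exact ⟨(Subgroup.subtype _).comp φ, ⟨Subtype.val_injective.comp h1.1, by
      rw [h3, MonoidHom.range_comp, MonoidHom.range_eq_top.2 h1.2, ← MonoidHom.range_eq_map, range_subtype]⟩, h3⟩
  exfalso
  refine h16.not_ge ?_
  interval_cases τ <;> interval_cases ε
  exacts [(cert00.few ht f hS).trans (by decide), (cert01.few ht f hS).trans (by decide), (cert10.few ht f hS).trans (by decide),
    (cert11.few ht f hS).trans (by decide), absurd ⟨rfl, rfl⟩ h20, (cert21.few ht f hS).trans (by decide)]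

theorem V1_norm : ∀ k : HH, k * a0 * k⁻¹ ∈ V1 ∧ k * e0 * k⁻¹ ∈ V1 ∧ k * h0 * k⁻¹ ∈ V1 := by decide +kernel

theorem HT.inO {φ : HH →* G} (hφ : HT φ) {k : HH} (hk : k ∈ V1) : InO (φ z0) (φ k) := by
  refine ⟨V1.map φ, IsPGroup.map (fun x => ⟨1, Subtype.ext ?_⟩) φ, ⟨k, hk, rfl⟩, ?_, fun c hc => ?_⟩
  · have : ∀ k : HH, k ∈ V1 → k * k = 1 := by decide +kernel
    simpa [sq] using this x x.2
  · rintro _ ⟨n, -, rfl⟩
    rw [← map_mul, z0_comm, map_mul]
  · rintro _ ⟨n, hn, rfl⟩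
    obtain ⟨l, rfl⟩ := hφ.mem hc
    refine ⟨l * n * l⁻¹, ?_, by simp⟩
    have h1 : n ∈ V1.comap (MulAut.conj l).toMonoidHom := by
      rw [← ((V1_cl n).2 hn).2]
      refine pw_mem ?_ _
      simp only [List.forall_mem_cons]
      exact ⟨(V1_norm l).1, (V1_norm l).2.1, (V1_norm l).2.2, by
        show l * z0 * l⁻¹ ∈ V1
        rw [z0_comm, mul_inv_cancel_right]; decide +kernel, by simp⟩
    exact h1

theorem HT.notL {φ : HH →* G} (hφ : HT φ) (hq : Q3 (φ z0)) {y : G} {β : HH} (h : Y0 φ y a0 β) : False := by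
  have hz : Z φ h0 := ⟨y, h.yh⟩
  have h1 := (hφ.inO (k := a0) (by decide +kernel)).conj y⁻¹
  rw [show y⁻¹ * φ z0 * y⁻¹⁻¹ = φ h0 from h.yh.symm, show y⁻¹ * φ a0 * y⁻¹⁻¹ = φ a0 from h.ya.symm] at h1
  have := hq (φ h0) (φ a0) (Z_iff.1 hz) (Z_iff.1 (Z.cl 2 hz (by decide +kernel) (by decide)))
    (fun e => absurd (hφ.inj e) (by decide +kernel)) (hφ.inO (by decide +kernel)) (hφ.inO (by decide +kernel)) h1
  rw [← map_mul] at this
  rcases this with e | e | e <;> exact absurd (hφ.inj e) (by decide +kernel)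

open Golay in
theorem not_Q3_M24 : ¬ Q3 (⟨gc.dec z2A, inH_z2A.2⟩ : Cfsg.M24) := by
  intro hq
  have c := centCon_2A (H := Cfsg.M24) le_rfl fun _ h => h.1
  have io : ∀ {a : ℕ} (ha : gc.InH Cfsg.M24 a), allN 24 (fun i => bor (Nat.beq (app a i) i) (Nat.beq (bitN 0x82402f i) 0)) = true →
      InO (⟨gc.dec z2A, inH_z2A.2⟩ : Cfsg.M24) ⟨gc.dec a, ha.2⟩ := fun {a} ha h =>
    ⟨E16.subgroupOf _, c.pg.comap_subtype, mem_E16.2 ⟨ha.2, fun p hp => by
      have h1 := allN_iff.1 h _ (gc.idx_lt p)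
      rw [Coding.mem_ofMask] at hp
      rw [bor_eq, Bool.or_eq_true, beq_iff, beq_iff, bitN_eq, hp] at h1
      show gc.dec a p = p
      rw [← gc.pt_idx p, ha.1.dec_pt (gc.idx_lt p), h1.resolve_right (by decide)]⟩,
      fun n hn => Subtype.ext (c.le n hn).2, fun k hk n hn => c.norm k k.2 (congrArg Subtype.val hk) n hn⟩
  have ia : gc.InH Cfsg.M24 0x171209060a16110c070e0b100d1315040f14050803020100 := inH_of_inM24 (by decide +kernel)
  have ik : gc.InH Cfsg.M24 0x20910060c13001214051604080d0b0a070f0e1503171101 := inH_of_inM24 (by decide +kernel)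
  have ih : gc.InH Cfsg.M24 0x170c0f1314101112150e08160406070d090a050b03020100 := inH_of_inM24 (by decide +kernel)
  have ig : gc.InH Cfsg.M24 0x1130c04160a00090b0307150f1210060d0802140e051711 := inH_of_inM24 (by decide +kernel)
  have cnj : ∀ {g x y : ℕ} (hg : gc.InH Cfsg.M24 g) (hx : gc.InH Cfsg.M24 x) (hy : gc.InH Cfsg.M24 y), conjN 24 g x = y →
      (⟨_, hg.2⟩ * ⟨_, hx.2⟩ * ⟨_, hg.2⟩⁻¹ : Cfsg.M24) = ⟨_, hy.2⟩ := fun hg hx _ e =>
    Subtype.ext ((hg.1.conj hx.1).2.symm.trans (congrArg _ e))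
  have h1 := (io ia (by decide +kernel)).conj ⟨_, ig.2⟩
  rw [cnj ig inH_z2A ih (by decide +kernel), cnj ig ia ia (by decide +kernel)] at h1
  rcases hq _ _ (isConj_iff.2 ⟨_, cnj ig inH_z2A ih (by decide +kernel)⟩) (isConj_iff.2 ⟨_, cnj ik inH_z2A ia (by decide +kernel)⟩)
    (fun e => absurd ((ih.1.dec_inj inH_z2A.1).1 (congrArg Subtype.val e)) (by decide +kernel)) (io ih (by decide +kernel))
    (io ia (by decide +kernel)) h1 with e | e | e
  · exact absurd ((ia.1.dec_inj inH_z2A.1).1 (congrArg Subtype.val e)) (by decide +kernel)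
  · exact absurd ((ia.1.dec_inj ih.1).1 (congrArg Subtype.val e)) (by decide +kernel)
  · exact absurd ((ia.1.dec_inj (ih.1.mul inH_z2A.1)).1 ((congrArg Subtype.val e).trans (ih.1.dec_mul inH_z2A.1).symm))
      (by decide +kernel)

open Golay in
theorem HT.notM {φ : HH →* G} (hφ : HT φ) (hq : Q3 (φ z0)) (e : G ≃* Cfsg.M24) : False := by
  have ho : orderOf (e (φ z0) : Equiv.Perm GolayPt) = 2 := by
    rw [orderOf_coe, e.orderOf_eq]; exact hφ.oz (by decide +kernel) (by decide +kernel)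
  rcases M24_invol (e (φ z0)).2 ho with ⟨k, hk, h⟩ | ⟨k, hk, h⟩
  · have := (hq.map e).map (MulAut.conj (⟨k, hk⟩ : Cfsg.M24)⁻¹)
    rw [show MulAut.conj (⟨k, hk⟩ : Cfsg.M24)⁻¹ (e (φ z0)) = ⟨gc.dec z2A, inH_z2A.2⟩ from Subtype.ext (by
      show k⁻¹ * (e (φ z0) : Equiv.Perm GolayPt) * k⁻¹⁻¹ = gc.dec z2A
      rw [h]; group)] at this
    exact not_Q3_M24 this
  · have := Nat.card_le_card_of_injective (fun l : HH => (⟨k⁻¹ * (e (φ l) : Equiv.Perm GolayPt) * k,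
      Cfsg.M24.mul_mem (Cfsg.M24.mul_mem (Cfsg.M24.inv_mem hk) (e (φ l)).2) hk, mem_centralizer_singleton_iff.2 (by
        have h1 : (e (φ l) : Equiv.Perm GolayPt) * e (φ z0) = e (φ z0) * e (φ l) := by
          rw [← coe_mul, ← map_mul, ← map_mul, z0_comm, map_mul, map_mul, coe_mul]
        rw [h] at h1
        calc _ = k⁻¹ * ((e (φ l) : Equiv.Perm GolayPt) * (k * gc.dec z2B * k⁻¹)) * k := by group
          _ = _ := by rw [h1]; group)⟩ : C2B)) fun a b h => hφ.inj (e.injective (Subtype.ext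
        (mul_left_cancel (mul_right_cancel (congrArg Subtype.val h)))))
    rw [card_HH, card_C2B] at this
    omega

theorem HT.isoHe_of_Q3 [Finite G] {φ : HH →* G} (hφ : HT φ) (hq : Q3 (φ z0)) (hz : Z φ h0) : Spor.IsoHe G := by
  obtain ⟨y, _, _, hy, ⟨rfl, rfl⟩ | ⟨rfl, rfl⟩⟩ := hφ.exTy hz
  · exact (hφ.notL hq hy.toY0).elim
  · exact (hφ.prS hy).elim (fun h => let ⟨e⟩ := iso_M24 h; (hφ.notM hq e).elim) iso_He

theorem isoHe_of_setting [Finite G] {t : G} {Q : Subgroup (centralizer ({t} : Set G))} [Q.Normal]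
    (hS : IsExtraspecialCentralizerSetting t Q 3) (e : centralizer ({t} : Set G) ⧸ Q ≃* SpecialLinearGroup (Fin 3) (ZMod 2))
    (hc : Set.ncard {x : centralizer ({t} : Set G) | x ∈ Q ∧ IsConj t x} = 29) (hq : Q3 t) : Spor.IsoHe G := by
  obtain ⟨h1, h2, h3, h4, g, ⟨h5, -⟩, h6⟩ := hS
  obtain ⟨φ, hφ, rfl⟩ := ident_many t h1 Q h3 h4 (h2 ▸ Layer.centralizer_fstar_le) e
    (S := Subtype.val '' {x : centralizer ({t} : Set G) | x ∈ Q ∧ IsConj t x})
    (by rintro _ ⟨x, hx, rfl⟩; exact ⟨hx.2, mem_centralizer_singleton_iff.1 x.2⟩)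
    (by rw [Set.ncard_image_of_injective _ Subtype.val_injective, hc]; norm_num)
  obtain ⟨k, hk⟩ := hφ.mem (mem_centralizer_singleton_iff.1 h5)
  rcases hφ.hi (k := k) (Z_iff.2 (isConj_iff.2 ⟨g, hk.symm⟩)) (fun e => h6 (by rw [← hk, e])) with h | h
  · exact hφ.isoHe_of_Q3 hq h
  · exact hφ.tau.isoHe_of_Q3 (by rwa [MonoidHom.comp_apply, show τ z0 = z0 by decide +kernel]) (h.tau' (by decide +kernel))

end Cfsg.Lib.Held
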