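import Cfsg.Agent.Lib.Mon.Def
import Cfsg.Agent.Lib.Leech.Perm
import Cfsg.Agent.Lib.Golay.Blk

/-! Classes modulo `2Λ` fixed by an automorphism of odd order: labels and kernel checks. -/

namespace Cfsg.Lib.Leech

open Subgroup MulAction Golay

theorem ip_two (x w : leechLattice) : 16 ∣ ip x (2 • w) := by
  have := eight_dvd_dot x.2 w.2
  rw [two_nsmul, ip_add_right]; unfold ip; omega

theorem ip_smul_smul (k : Co0) (u v : leechLattice) : ip (k • u) (k • v) = ip u v := dot_smul k u v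

theorem two_of_ip {x : leechLattice} (h : ∀ u, 16 ∣ ip x u) : ∃ w, x = 2 • w := by
  by_contra hc
  let M : AddSubgroup leechLattice :=
    { carrier := {x | ∀ u, 16 ∣ ip x u}
      zero_mem' := fun u => by simp [ip, dotInt]
      add_mem' := fun {a b} ha hb u => by rw [ip_add_left]; exact dvd_add (ha u) (hb u)
      neg_mem' := fun {a} ha u => by rw [ip_neg_left]; exact (ha u).neg_right }
  have := eq_top_of_inv (M := M) (fun g v hv u => by rw [ip_smul_left]; exact hv _)
    (fun z u => by rw [ip_comm, ← two_nsmul]; exact ip_two u z)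
    ⟨x, h, fun z e => hc ⟨z, by rw [e, two_nsmul]⟩⟩
  have h2 : (⟨_, twoInd_mem Golay.O0_mem.1⟩ : leechLattice) ∈ M := this ▸ trivial
  exact absurd (h2 (v44 (some 1) (some 4) 1 1 (by norm_num))) (by decide +kernel)

/-- congruence modulo `2Λ`. -/
def Cg (v w : leechLattice) : Prop := ∃ u, v - w = 2 • u

theorem Cg.refl (v : leechLattice) : Cg v v := ⟨0, by simp⟩
theorem Cg.symm {v w : leechLattice} (h : Cg v w) : Cg w v :=
  let ⟨u, e⟩ := h; ⟨-u, by rw [smul_neg, ← e]; abel⟩
theorem Cg.trans {u v w : leechLattice} (h : Cg u v) (h' : Cg v w) : Cg u w :=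
  let ⟨a, e⟩ := h; let ⟨b, e'⟩ := h'; ⟨a + b, by rw [smul_add, ← e, ← e']; abel⟩
theorem Cg.smul {v w : leechLattice} (h : Cg v w) (k : Co0) : Cg (k • v) (k • w) :=
  let ⟨u, e⟩ := h; ⟨k • u, by rw [← co0_smul_sub, e, co0_smul_nsmul]⟩
theorem Cg.of_smul {v w : leechLattice} {k : Co0} (h : Cg (k • v) (k • w)) : Cg v w := by
  simpa using h.smul k⁻¹
theorem Cg.sub {u v w x : leechLattice} (h : Cg u v) (h' : Cg w x) : Cg (u - w) (v - x) :=
  let ⟨a, e⟩ := h; let ⟨b, e'⟩ := h'; ⟨a - b, by rw [smul_sub, ← e, ← e']; abel⟩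
theorem Cg.add {u v w x : leechLattice} (h : Cg u v) (h' : Cg w x) : Cg (u + w) (v + x) :=
  let ⟨a, e⟩ := h; let ⟨b, e'⟩ := h'; ⟨a + b, by rw [smul_add, ← e, ← e']; abel⟩
theorem Cg.neg (v : leechLattice) : Cg (-v) v := ⟨-v, by rw [two_nsmul]; abel⟩
theorem Cg.ip {v w : leechLattice} (h : Cg v w) (u : leechLattice) : 16 ∣ ip v u - ip w u := by
  obtain ⟨a, e⟩ := h
  rw [← ip_sub_left, e, ip_comm]; exact ip_two u a
theorem Cg.pow {b : Co0} {x : leechLattice} (h : Cg (b • x) x) (k : ℕ) : Cg (b ^ k • x) x := by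
  induction k with
  | zero => simpa using Cg.refl x
  | succ k ih => rw [pow_succ', mul_smul]; exact (ih.smul b).trans h
theorem Cg.cent {b k : Co0} {x : leechLattice} (h : Cg (b • x) x)
    (hk : k ∈ centralizer ({b} : Set Co0)) : Cg (b • k • x) (k • x) := by
  rw [← mul_smul, ← mem_centralizer_singleton_iff.1 hk, mul_smul]; exact h.smul k
theorem cg_e8 (σ : M24) : Cg (prm σ • e8 none) (e8 none) := prm_mem_Mono σ

/-- The norm of a short vector is determined by its class. -/
theorem Cg.norm_eq {x y : leechLattice} (h : Cg x y) (hx : sqNorm (x : GolayPt → ℤ) ≤ 64)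
    (hy : sqNorm (y : GolayPt → ℤ) ≤ 64) : sqNorm (x : GolayPt → ℤ) = sqNorm (y : GolayPt → ℤ) := by
  by_cases e : x = y
  · rw [e]
  obtain ⟨u, hu⟩ := h
  rcases short_congr e hx hy hu with rfl | ⟨h1, h2, -⟩
  · rw [NegMemClass.coe_neg, sqNorm_neg]
  · rw [h1, h2]

open Classical in
/-- the lattice vector with code `n`. -/
noncomputable def vec (n : ℕ) : leechLattice := if h : decV n ∈ leechLattice then ⟨_, h⟩ else 0

theorem Rep.vec_eq {n : ℕ} {v : leechLattice} (h : Rep n v) : vec n = v := by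
  rw [vec, dif_pos (h.2 ▸ v.2)]; exact Subtype.ext h.2

/-- `n` is the code of a short lattice vector. -/
noncomputable def shB (n : ℕ) : Bool :=
  band (Nat.ble n 0xffffffffffffffffffffffffffffffffffffffffffffffff)
    (band (inL n) (Nat.ble (Nat.add (dotN n n) 1472) (Nat.mul 16 (sumD n))))

theorem rep_of_shB {n : ℕ} (h : shB n = true) :
    Rep n (vec n) ∧ sqNorm (vec n : GolayPt → ℤ) ≤ 64 := by
  simp only [shB, band_eq, Bool.and_eq_true, ble_iff] at h
  have h1 : Rep n ⟨_, mem_of_inL h.2.1⟩ := ⟨by omega, rfl⟩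
  rw [h1.vec_eq]
  refine ⟨h1, ?_⟩
  have h2 : dotN n n + 1472 ≤ 16 * sumD n := h.2.2
  rw [← dotInt_self, dot_decV]; omega

/-- the label of a vector: parities of its inner products with the vectors `B j`. -/
noncomputable def lab (B : ℕ → ℕ) (d : ℕ) (v : leechLattice) : ℕ :=
  packN 1 (fun j => if 16 ∣ ip v (vec (B j)) then 0 else 1) d

theorem lab_lt (B : ℕ → ℕ) (d : ℕ) (v : leechLattice) : lab B d v < 2 ^ d := by
  have := packN_lt 1 (fun j => if 16 ∣ ip v (vec (B j)) then 0 else 1) d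
    fun j _ => by split_ifs <;> norm_num
  rwa [one_mul] at this

theorem lab_eq_iff {B : ℕ → ℕ} {d : ℕ} {v w : leechLattice} :
    lab B d v = lab B d w ↔ ∀ j < d, 16 ∣ ip (v - w) (vec (B j)) := by
  have key : ∀ j, ((if 16 ∣ ip v (vec (B j)) then 0 else 1 : ℕ) =
      if 16 ∣ ip w (vec (B j)) then 0 else 1) ↔ 16 ∣ ip (v - w) (vec (B j)) := fun j => by
    have h1 := eight_dvd_dot v.2 (vec (B j)).2
    have h2 := eight_dvd_dot w.2 (vec (B j)).2
    rw [ip_sub_left]; unfold ip
    split_ifs <;> simp <;> omega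
  refine ⟨fun h j hj => (key j).1 ?_, fun h => packN_congr _ fun j hj => (key j).2 (h j hj)⟩
  have h1 := ent_packN 1 (fun j => if 16 ∣ ip v (vec (B j)) then 0 else 1) d
    (fun j _ => by split_ifs <;> norm_num) j hj
  have h2 := ent_packN 1 (fun j => if 16 ∣ ip w (vec (B j)) then 0 else 1) d
    (fun j _ => by split_ifs <;> norm_num) j hj
  rw [← h1, ← h2]; exact congrArg (ent 1 _ · j) h

theorem Cg.lab_eq {v w : leechLattice} (h : Cg v w) (B : ℕ → ℕ) (d : ℕ) : lab B d v = lab B d w :=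
  lab_eq_iff.2 fun j _ => by rw [ip_sub_left]; exact h.ip _

/-- the label computed on codes. -/
noncomputable def sigN (B : ℕ → ℕ) (d n : ℕ) : ℕ :=
  packN 1 (fun j => Nat.div (Nat.mod (Nat.add (dotN n (B j))
    (Nat.mul 8 (Nat.add (sumD n) (sumD (B j))))) 16) 8) d

theorem Rep.lab {B : ℕ → ℕ} {d n : ℕ} {v : leechLattice} (h : Rep n v)
    (hB : ∀ j < d, shB (B j) = true) : lab B d v = sigN B d n := by
  refine packN_congr _ fun j hj => ?_
  have h1 := eight_dvd_dot v.2 (vec (B j)).2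
  have h2 := dot_decV n (B j)
  rw [h.2, (rep_of_shB (hB j hj)).1.2] at h2
  show _ = (dotN n (B j) + 8 * (sumD n + sumD (B j))) % 16 / 8
  unfold ip
  split_ifs <;> omega

/-- iterates of `f`. -/
noncomputable def itF (f : ℕ → ℕ) (k n : ℕ) : ℕ := Nat.rec n (fun _ a => forceN a f) k

theorem itF_eq (f : ℕ → ℕ) (k n : ℕ) : itF f k n = f^[k] n := by
  induction k with
  | zero => rfl
  | succ k ih => rw [Function.iterate_succ_apply', ← ih]; rfl

/-- `W ^ k` applied to `n`. -/
noncomputable def itW (W k n : ℕ) : ℕ := itF (apW W) k n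

theorem Impl.itW {g : Co0} {W : ℕ} (h : Impl g W) (k : ℕ) {n : ℕ} {v : leechLattice}
    (hn : Rep n v) (hv : sqNorm (v : GolayPt → ℤ) ≤ 64) : Rep (itW W k n) (g ^ k • v) := by
  rw [Leech.itW, itF_eq]
  induction k with
  | zero => rw [pow_zero, one_smul]; exact hn
  | succ k ih =>
    rw [pow_succ', mul_smul, Function.iterate_succ_apply']
    exact h _ _ ih (by rwa [sqNorm_smul])

theorem shB_genC : ∀ t < 37, shB (genC t) = true := by decide +kernel

theorem eq_top_of_genC {M : AddSubgroup leechLattice} (hg : ∀ t < 37, vec (genC t) ∈ M) :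
    M = ⊤ := by
  have hg' : ∀ t < 37, decV (genC t) ∈ M.map leechLattice.subtype := fun t ht =>
    ⟨_, hg t ht, (rep_of_shB (shB_genC t ht)).1.2.symm⟩
  have hM : leechLattice ≤ M.map leechLattice.subtype := by
    apply leech_le_of_gens
    · convert hg' 12 (by norm_num) using 1
      decide +kernel
    · intro t ht
      convert hg' t (by omega) using 1
      funext i
      simp only [twoInd, Coding.mem_ofMask]
      revert t i; decide +kernel
    · convert hg' 11 (by norm_num) using 1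
      funext i
      simp only [twoInd, Coding.mem_ofMask]
      revert i; decide +kernel
    · intro i
      convert hg' (gc.idx i + 13) (by have := gc.idx_lt i; rw [gc_n] at this; omega) using 1
      revert i; decide +kernel
  refine eq_top_iff.2 fun x _ => ?_
  obtain ⟨y, hy, e⟩ := hM x.2
  rwa [← Subtype.ext e]

/-- digit `i` of `∑_{k<p} W^k g + ∑_{j ∈ s} B j`. -/
noncomputable def dsum (W p : ℕ) (B : ℕ → ℕ) (d s g i : ℕ) : ℕ :=
  Nat.add (sumN p fun k => app (itW W k g) i) (sumN d fun j => Nat.mul (bitN s j) (app (B j) i))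

/-- the vectors `B j` span the fixed classes. -/
noncomputable def spanB (W p : ℕ) (B : ℕ → ℕ) (d : ℕ) (S : ℕ → ℕ) : Bool :=
  allN 37 fun t => forceN (genC t) fun g => forceN (S t) fun s =>
    forceN (packN 8 (fun i => Nat.div (dsum W p B d s g i) 2) 24) fun h =>
      band (inL h) (allN 24 fun i => Nat.beq (dsum W p B d s g i) (Nat.mul 2 (app h i)))

theorem sep_of_spanB {b : Co0} {W p d : ℕ} {B S : ℕ → ℕ} (hW : Impl b W) (hp : p % 2 = 1)
    (hB : ∀ j < d, shB (B j) = true) (hS : spanB W p B d S = true) {v w : leechLattice}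
    (hv : Cg (b • v) v) (hw : Cg (b • w) w) (e : lab B d v = lab B d w) : Cg v w := by
  have hx : Cg (b • (v - w)) (v - w) := by rw [co0_smul_sub]; exact hv.sub hw
  have hj := lab_eq_iff.1 e
  show ∃ u, v - w = 2 • u
  generalize v - w = x at hx hj
  let M : AddSubgroup leechLattice :=
    { carrier := {u | 16 ∣ ip x u}
      zero_mem' := by simp [ip, dotInt]
      add_mem' := fun {a b} ha hb => by
        show 16 ∣ ip x (a + b); rw [ip_add_right]; exact dvd_add ha hb
      neg_mem' := fun {a} ha => by show 16 ∣ ip x (-a); rw [ip_neg_right]; exact ha.neg_right }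
  refine two_of_ip fun u => (show u ∈ M from eq_top_of_genC (M := M) (fun t ht => ?_) ▸ trivial)
  have h1 := allN_iff.1 hS t ht
  simp only [forceN_eq, band_eq, Bool.and_eq_true, allN_iff, beq_iff] at h1
  generalize packN 8 _ 24 = h at h1
  obtain ⟨g1, g2⟩ := rep_of_shB (shB_genC t ht)
  show 16 ∣ ip x (vec (genC t))
  generalize vec (genC t) = u at g1 g2
  generalize genC t = g at g1 h1
  generalize S t = s at h1
  let four : leechLattice := ⟨fun _ => 4 * 1, four_mul_mem (by simp)⟩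
  have h2 : ∑ k ∈ Finset.range p, b ^ k • u + ∑ j ∈ Finset.range d, bitN s j • vec (B j) =
      2 • (⟨_, mem_of_inL h1.1⟩ + (2 - p - ∑ j ∈ Finset.range d, bitN s j : ℤ) • four) := by
    ext i
    have h3 := h1.2 _ (gc.idx_lt i)
    rw [dsum, sumN_eq, sumN_eq] at h3
    have h4 : (∑ k ∈ Finset.range p, (app (itW W k g) (gc.idx i) : ℤ)) +
        ∑ j ∈ Finset.range d, (bitN s j : ℤ) * app (B j) (gc.idx i) = 2 * app h (gc.idx i) := by
      exact_mod_cast h3
    have h5 : ∑ k ∈ Finset.range p, ((b ^ k • u : leechLattice) : GolayPt → ℤ) i =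
        ∑ k ∈ Finset.range p, (app (itW W k g) (gc.idx i) : ℤ) - 8 * p := by
      rw [Finset.sum_congr rfl fun k _ => (hW.itW k g1 g2).apply i, Finset.sum_sub_distrib]
      simp [mul_comm]
    have h6 : ∑ j ∈ Finset.range d, (bitN s j : ℤ) * (vec (B j) : GolayPt → ℤ) i =
        ∑ j ∈ Finset.range d, (bitN s j : ℤ) * app (B j) (gc.idx i) -
          8 * ∑ j ∈ Finset.range d, (bitN s j : ℤ) := by
      rw [Finset.mul_sum, ← Finset.sum_sub_distrib]
      refine Finset.sum_congr rfl fun j hj => ?_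
      rw [(rep_of_shB (hB j (Finset.mem_range.1 hj))).1.apply i]; ring
    simp only [AddSubgroup.coe_add, AddSubmonoidClass.coe_finsetSum, Pi.add_apply,
      Finset.sum_apply, AddSubmonoidClass.coe_nsmul, Pi.smul_apply,
      AddSubgroupClass.coe_zsmul, four, decV]
    simp only [nsmul_eq_mul, smul_eq_mul]
    rw [h5, h6]; push_cast; linear_combination h4
  have h3 := ip_two x (⟨_, mem_of_inL h1.1⟩ + (2 - p - ∑ j ∈ Finset.range d, bitN s j : ℤ) • four)
  rw [← h2] at h3
  have h4 : ∑ j ∈ Finset.range d, bitN s j • vec (B j) ∈ M :=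
    M.sum_mem fun j hj' => M.nsmul_mem (hj j (Finset.mem_range.1 hj')) _
  have h5 : ∑ k ∈ Finset.range p, (b ^ k • u - u) ∈ M := M.sum_mem fun k _ => by
    show 16 ∣ ip x (b ^ k • u - u)
    have := (hx.pow k).ip (b ^ k • u)
    rw [ip_smul_smul] at this
    rw [ip_sub_right]; omega
  have h6 := M.sub_mem ((M.add_mem_cancel_right h4).1 h3) h5
  rw [Finset.sum_sub_distrib, sub_sub_cancel, Finset.sum_const, Finset.card_range] at h6
  have h7 : p • u = u + 2 • ((p / 2) • u) := by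
    conv_lhs => rw [← Nat.mod_add_div p 2, hp, add_smul, one_smul, mul_smul]
  rw [h7] at h6
  exact (M.add_mem_cancel_right (ip_two x _)).1 h6

/-- the table `Tb` lists short fixed vectors with all labels. -/
noncomputable def tabB (W : ℕ) (B : ℕ → ℕ) (d : ℕ) (Tb : ℕ → ℕ) (e : ℕ) : Bool :=
  forceN (Tb e) fun n => band (shB n) (band (Nat.beq (apW W n) n) (Nat.beq (sigN B d n) e))

theorem of_tabB {b : Co0} {W d e : ℕ} {B Tb : ℕ → ℕ} (hW : Impl b W)
    (hB : ∀ j < d, shB (B j) = true) (h : tabB W B d Tb e = true) :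
    Rep (Tb e) (vec (Tb e)) ∧ sqNorm (vec (Tb e) : GolayPt → ℤ) ≤ 64 ∧
      b • vec (Tb e) = vec (Tb e) ∧ lab B d (vec (Tb e)) = e := by
  simp only [tabB, forceN_eq, band_eq, Bool.and_eq_true, beq_iff] at h
  obtain ⟨h1, h2⟩ := rep_of_shB h.1
  exact ⟨h1, h2, (hW.smul_eq h1 h2 h1).2 h.2.1, (h1.lab hB).trans h.2.2⟩

theorem reps_of_tab {b : Co0} {d : ℕ} {B : ℕ → ℕ} {f : ℕ → leechLattice}
    (sep : ∀ {v w}, Cg (b • v) v → Cg (b • w) w → lab B d v = lab B d w → Cg v w)
    (h : ∀ e < 2 ^ d, b • f e = f e ∧ lab B d (f e) = e) :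
    ∃ f : Fin (2 ^ d) → leechLattice, (∀ i, b • f i = f i) ∧
      (∀ i j, (∃ u, f i - f j = 2 • u) → i = j) ∧
      ∀ v : leechLattice, b • v = v → ∃ i u, v - f i = 2 • u :=
  ⟨fun i => f i, fun i => (h i i.2).1, fun i j e => Fin.ext
    ((h i i.2).2.symm.trans ((Cg.lab_eq e B d).trans (h j j.2).2)), fun v hv =>
    ⟨⟨_, lab_lt B d v⟩, sep (hv.symm ▸ Cg.refl v) ((h _ (lab_lt B d v)).1.symm ▸ Cg.refl _)
      (h _ (lab_lt B d v)).2.symm⟩⟩

end Cfsg.Lib.Leech
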