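import Cfsg.Agent.Lib.Mon.Lat

/-! Order bound for the centralizer of a coordinate permutation in `Co0`, and the passage to
`OddData`. -/

namespace Cfsg.Lib.Leech

open Subgroup MulAction Golay
open scoped Pointwise

theorem card_le_mul_of_lab {Γ : Type*} [Group Γ] [Finite Γ] (K L : Subgroup Γ) (S : Finset ℕ)
    (f : Γ → ℕ) (h1 : ∀ k ∈ K, f k ∈ S) (h2 : ∀ k ∈ K, ∀ l ∈ K, f k = f l → k⁻¹ * l ∈ L) :
    Nat.card K ≤ S.card * Nat.card ↥(K ⊓ L) := by
  rw [card_eq_card_quotient_mul_card_subgroup (L.subgroupOf K), ← inf_subgroupOf_left,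
    Core.card_subgroupOf_of_le inf_le_left]
  refine Nat.mul_le_mul_right _ ?_
  rw [← Nat.card_eq_finsetCard]
  refine Nat.card_le_card_of_injective
    (fun q => (⟨f q.out, h1 _ q.out.2⟩ : S)) fun q r e => ?_
  rw [← QuotientGroup.out_eq' q, ← QuotientGroup.out_eq' r, QuotientGroup.eq]
  exact mem_inf.2 ⟨(q.out⁻¹ * r.out).2, h2 _ q.out.2 _ r.out.2 (congrArg Subtype.val e)⟩

theorem comm_sgn_prm {σ τ : M24} {c : Finset GolayPt} {hc : Cw c} {i : ℤ}
    (h : sgn c hc * prm τ * prm σ = prm (σ ^ i) * (sgn c hc * prm τ)) :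
    (σ ^ i).1 • c = c ∧ τ * σ = σ ^ i * τ := by
  rw [← mul_assoc, prm_mul_sgn, mul_assoc, mul_assoc, ← prmHom_apply τ, ← prmHom_apply σ,
    ← prmHom_apply (σ ^ i), ← map_mul, ← map_mul] at h
  exact ⟨(sgn_prm_inj h).1.symm, (sgn_prm_inj h).2⟩

/-- number of codewords fixed by `g`. -/
noncomputable def fixCw (g : ℕ) : ℕ :=
  forceN g fun g => sumN 4096 fun i => forceN (cwN i) fun c => bif' (Nat.beq (imgT g c) c) 1 0

theorem card_cent_Mono {g : ℕ} (hg : gc.InH M24 g) :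
    Nat.card ↥(centralizer {prm ⟨_, hg.2⟩} ⊓ Mono) ≤
      fixCw g * Nat.card ↥(M24 ⊓ centralizer {gc.dec g}) := by
  classical
  let F := (Finset.range 4096).filter fun i => imgT g (cwN i) = cwN i
  have hF : fixCw g = Nat.card F := by
    rw [Nat.card_eq_finsetCard, Finset.card_filter, fixCw, forceN_eq, sumN_eq]
    refine Finset.sum_congr rfl fun i _ => ?_
    rw [forceN_eq]
    split_ifs with h
    · rw [beq_iff.2 h]; rfl
    · rw [Bool.eq_false_iff.2 fun e => h (beq_iff.1 e)]; rfl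
  have key : ∀ k : ↥(centralizer {prm ⟨_, hg.2⟩} ⊓ Mono), ∃ (i : F)
      (τ : ↥(M24 ⊓ centralizer {gc.dec g})), ∃ h, (k : Co0) = sgn (om (cwN i)) h * prm ⟨τ, τ.2.1⟩ := by
    rintro ⟨k, k1, k2⟩
    obtain ⟨c, hc, τ, rfl⟩ := exists_sgn_prm k2
    obtain ⟨m, hm, rfl⟩ := exists_isCw hc
    obtain ⟨h1, h2⟩ := comm_sgn_prm (i := 1)
      (by rw [zpow_one]; exact mem_centralizer_singleton_iff.1 k1)
    rw [zpow_one] at h1 h2
    have h3 : imgT g m = m := (om_inj (hg.1.imgT_lt m) (isCw_lt hm)).1 (hg.1.smul_om m ▸ h1)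
    refine ⟨⟨m % 4096, Finset.mem_filter.2 ⟨Finset.mem_range.2 (Nat.mod_lt _ (by norm_num)), ?_⟩⟩,
      ⟨τ, τ.2, mem_centralizer_singleton_iff.2 (congrArg Subtype.val h2)⟩, ?_⟩
    · rw [eq_cwN hm, h3]
    · simp only [eq_cwN hm]; exact ⟨hc, trivial⟩
  choose a t h e using key
  rw [hF, ← Nat.card_prod]
  refine Nat.card_le_card_of_injective (fun k => (a k, t k)) fun k l hkl => Subtype.ext ?_
  obtain ⟨h1, h2⟩ := Prod.ext_iff.1 hkl
  dsimp only at h1 h2
  rw [e k, e l]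
  simp only [h1, h2]

/-- The order bound. -/
theorem card_cent_le {g d : ℕ} (hg : gc.InH M24 g) {B : ℕ → ℕ}
    (sep : ∀ {v w}, Cg (prm ⟨_, hg.2⟩ • v) v → Cg (prm ⟨_, hg.2⟩ • w) w → lab B d v = lab B d w →
      Cg v w) (S : Finset ℕ)
    (hS : ∀ k ∈ centralizer ({prm ⟨_, hg.2⟩} : Set Co0), lab B d (k • e8 none) ∈ S) :
    Nat.card (centralizer ({prm ⟨_, hg.2⟩} : Set Co0)) ≤
      S.card * (fixCw g * Nat.card ↥(M24 ⊓ centralizer {gc.dec g})) :=
  (card_le_mul_of_lab _ Mono S (fun k => lab B d (k • e8 none)) hS fun k hk l hl e => by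
    have := (sep ((cg_e8 _).cent hk) ((cg_e8 _).cent hl) e).symm.smul k⁻¹
    rwa [inv_smul_smul, ← mul_smul] at this).trans (Nat.mul_le_mul_left _ (card_cent_Mono hg))

/-- the labels of the classes of type 4 in the table. -/
noncomputable def four (Tb : ℕ → ℕ) (d : ℕ) : Finset ℕ :=
  (Finset.range (2 ^ d)).filter fun e => dotB (Tb e) (Tb e) 64 0 = true

theorem lab_mem_four {b : Co0} {W d : ℕ} {B Tb : ℕ → ℕ} (hW : Impl b W)
    (hB : ∀ j < d, shB (B j) = true) (h : ∀ e < 2 ^ d, tabB W B d Tb e = true)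
    (sep : ∀ {v w}, Cg (b • v) v → Cg (b • w) w → lab B d v = lab B d w → Cg v w)
    {v : leechLattice} (hv : Cg (b • v) v) (h64 : sqNorm (v : GolayPt → ℤ) = 64) :
    lab B d v ∈ four Tb d := by
  obtain ⟨h1, h2, h3, h4⟩ := of_tabB hW hB (h _ (lab_lt B d v))
  refine Finset.mem_filter.2 ⟨Finset.mem_range.2 (lab_lt B d v), dotB_iff.2 ?_⟩
  rw [h1.2, dotInt_self, ← (sep hv (h3.symm ▸ Cg.refl _) h4.symm).norm_eq h64.le h2, h64]; rfl

theorem card_four (Tb : ℕ → ℕ) (d : ℕ) :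
    (four Tb d).card = sumN (2 ^ d) fun e => forceN (Tb e) fun n => bif' (dotB n n 64 0) 1 0 := by
  rw [four, Finset.card_filter, sumN_eq]
  refine Finset.sum_congr rfl fun i _ => ?_
  rw [forceN_eq]
  cases dotB (Tb i) (Tb i) 64 0 <;> rfl

/-- The subgroup `⟨b, -1⟩` of the centralizer of `b`. -/
def Nb (b : Co0) : Subgroup (centralizer ({b} : Set Co0)) where
  carrier := {k | (k : Co0) ∈ zpowers b ∨ negOne * (k : Co0) ∈ zpowers b}
  one_mem' := Or.inl (one_mem _)
  mul_mem' := by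
    rintro x y (hx | hx) (hy | hy)
    · exact Or.inl (mul_mem hx hy)
    · right; rw [coe_mul, ← mul_assoc, ← negOne_comm, mul_assoc]; exact mul_mem hx hy
    · right; rw [coe_mul, ← mul_assoc]; exact mul_mem hx hy
    · left
      have := mul_mem hx hy
      rwa [← negOne_comm, mul_assoc, ← mul_assoc negOne, negOne_mul_self, one_mul] at this
  inv_mem' := by
    rintro x (hx | hx)
    · exact Or.inl (inv_mem hx)
    · right
      have := inv_mem hx
      rwa [mul_inv_rev, inv_eq_of_mul_eq_one_right negOne_mul_self, negOne_comm] at this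

theorem mem_Nb {b : Co0} {k : centralizer ({b} : Set Co0)} :
    k ∈ Nb b ↔ (k : Co0) ∈ zpowers b ∨ negOne * (k : Co0) ∈ zpowers b := Iff.rfl

theorem Nb_comm {b : Co0} {n : centralizer ({b} : Set Co0)} (hn : n ∈ Nb b)
    (k : centralizer ({b} : Set Co0)) : k * n = n * k := by
  have h : ∀ x ∈ zpowers b, (k : Co0) * x = x * k := by
    rintro _ ⟨i, rfl⟩
    exact (Commute.zpow_right (mem_centralizer_singleton_iff.1 k.2) i).eq
  refine Subtype.ext (hn.elim (h _) fun e => mul_left_cancel (a := negOne) ?_)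
  rw [coe_mul, coe_mul, ← mul_assoc, ← negOne_comm, mul_assoc, h _ e, mul_assoc]

instance (b : Co0) : (Nb b).Normal := ⟨fun n hn k => by rwa [Nb_comm hn, mul_inv_cancel_right]⟩

theorem le_card_Nb {b : Co0} (hp : orderOf b % 2 = 1) : 2 * orderOf b ≤ Nat.card (Nb b) := by
  let c : centralizer ({b} : Set Co0) := ⟨negOne * b, mem_centralizer_singleton_iff.2 (by
    rw [← mul_assoc, negOne_comm])⟩
  have h1 : orderOf c = 2 * orderOf b := by
    have h2 : orderOf negOne = 2 := orderOf_eq_prime (by rw [sq, negOne_mul_self]) negOne_ne_one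
    rw [← orderOf_coe, ← h2]
    refine Commute.orderOf_mul_eq_mul_orderOf_of_coprime (negOne_comm b).symm ?_
    rw [h2]; exact (Nat.coprime_two_left).2 (Nat.odd_iff.2 hp)
  rw [← h1, ← Nat.card_zpowers]
  refine card_le_of_le (zpowers_le_of_mem (Or.inr ?_))
  show negOne * (negOne * b) ∈ _
  rw [← mul_assoc, negOne_mul_self, one_mul]; exact mem_zpowers b

/-- An injective homomorphism `T → C(b)/⟨b, -1⟩` is onto if the order bound holds. -/
theorem exists_tau_of_hom {b : Co0} (hp : orderOf b % 2 = 1) {T : Type*} [Group T] [Finite T]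
    (φ : T →* centralizer ({b} : Set Co0) ⧸ Nb b) (hφ : Function.Injective φ)
    (hc : Nat.card (centralizer ({b} : Set Co0)) ≤ 2 * orderOf b * Nat.card T) :
    ∃ τ : centralizer ({b} : Set Co0) →* T, Function.Surjective τ ∧ (∀ k, τ k = 1 ↔ k ∈ Nb b) ∧
      ∀ k t, τ k = t ↔ φ t = k := by
  have h1 := le_card_Nb hp
  rw [card_eq_card_quotient_mul_card_subgroup (Nb b), mul_comm] at hc
  have h2 : Nat.card (centralizer ({b} : Set Co0) ⧸ Nb b) ≤ Nat.card T :=
    Nat.le_of_mul_le_mul_left (hc.trans (Nat.mul_le_mul_right _ h1)) Nat.card_pos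
  let e := MulEquiv.ofBijective φ (hφ.bijective_of_nat_card_le h2)
  refine ⟨e.symm.toMonoidHom.comp (QuotientGroup.mk' _),
    e.symm.surjective.comp (QuotientGroup.mk'_surjective _), fun k =>
    (map_eq_one_iff _ e.symm.injective).trans (QuotientGroup.eq_one_iff k), fun k t => ?_⟩
  exact e.symm_apply_eq.trans eq_comm

/-- A surjection from a subgroup `H ∋ b, -1` killing `b, -1` extends to `C(b) = H`. -/
theorem exists_tau_of_surj {b : Co0} (hp : orderOf b % 2 = 1) {T : Type*} [Group T] [Finite T]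
    {H : Subgroup (centralizer ({b} : Set Co0))} (hN : Nb b ≤ H) (f : H →* T)
    (hf : Function.Surjective f) (hk : ∀ k : H, k.1 ∈ Nb b → f k = 1)
    (hc : Nat.card (centralizer ({b} : Set Co0)) ≤ 2 * orderOf b * Nat.card T) :
    ∃ τ : centralizer ({b} : Set Co0) →* T, Function.Surjective τ ∧ (∀ k, τ k = 1 ↔ k ∈ Nb b) ∧
      ∀ k : H, τ k = f k := by
  have h1 := le_card_Nb hp
  have h2 : (Nb b).subgroupOf H ≤ f.ker := fun k hk' => hk k hk'
  have h3 := card_le_of_le h2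
  rw [Core.card_subgroupOf_of_le hN] at h3
  have h4 : Nat.card H = Nat.card T * Nat.card f.ker := by
    rw [card_eq_card_quotient_mul_card_subgroup f.ker,
      Nat.card_congr (QuotientGroup.quotientKerEquivOfSurjective f hf).toEquiv]
  have h5 := card_le_of_le (le_top (a := H))
  rw [card_top] at h5
  have h6 : Nat.card f.ker ≤ 2 * orderOf b :=
    Nat.le_of_mul_le_mul_left (by rw [← h4, mul_comm]; exact h5.trans hc) (Nat.card_pos (α := T))
  have h7 : H = ⊤ := eq_top_of_le_card _ (hc.trans (by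
    rw [h4, mul_comm]; exact Nat.mul_le_mul_left _ (h1.trans h3)))
  have h8 := eq_of_le_of_card_ge h2 (by rw [Core.card_subgroupOf_of_le hN]; exact h6.trans h1)
  subst h7
  refine ⟨f.comp topEquiv.symm.toMonoidHom, fun t => ?_, fun k => ?_, fun k => rfl⟩
  · obtain ⟨k, hk⟩ := hf t; exact ⟨k, hk⟩
  · exact (SetLike.ext_iff.1 h8 ⟨k, trivial⟩).symm

/-- Faithfulness on the fixed classes. -/
theorem faith_of {b : Co0} {T : Type*} [Group T] {τ : centralizer ({b} : Set Co0) →* T}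
    (hs : Function.Surjective τ) (hk : ∀ k, τ k = 1 ↔ k ∈ Nb b)
    (h : ∀ P : Subgroup T, P.Normal → P = ⊥ ∨ ∃ k, τ k ∈ P ∧ ∃ v, b • v = v ∧ ¬ Cg ((k : Co0) • v) v)
    (k : centralizer ({b} : Set Co0))
    (hf : ∀ v : leechLattice, b • v = v → ∃ u, (k : Co0) • v - v = 2 • u) : τ k = 1 := by
  let N : Subgroup (centralizer ({b} : Set Co0)) :=
    { carrier := {k | ∀ v : leechLattice, b • v = v → Cg ((k : Co0) • v) v}
      one_mem' := fun v _ => by simpa using Cg.refl v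
      mul_mem' := fun {x y} hx hy v hv => by
        rw [coe_mul, mul_smul]; exact ((hy v hv).smul _).trans (hx v hv)
      inv_mem' := fun {x} hx v hv => by
        simpa using ((hx v hv).smul (x : Co0)⁻¹).symm }
  have hN : N.Normal := ⟨fun n hn a v hv => by
    have := (hn ((a : Co0)⁻¹ • v) (by
      rw [← mul_smul, ← mem_centralizer_singleton_iff.1 (inv_mem a.2), mul_smul, hv])).smul a
    simpa [mul_smul] using this⟩
  have hb : Nb b ≤ N := fun n hn v hv => by
    have h1 : ∀ x ∈ zpowers b, x • v = v := fun x hx =>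
      (zpowers_le_of_mem (H := stabilizer Co0 v) hv) hx
    rcases hn with e | e
    · rw [h1 _ e]; exact Cg.refl v
    · have := h1 _ e
      rw [mul_smul, negOne_smul, neg_eq_iff_eq_neg] at this
      rw [this]; exact Cg.neg v
  rcases h _ (hN.map τ hs) with e | ⟨l, ⟨n, hn, e⟩, v, hv, hc⟩
  · exact (Subgroup.eq_bot_iff_forall _).1 e _ ⟨k, hf, rfl⟩
  · refine absurd (show l ∈ N from ?_) fun h => hc (h v hv)
    have : n⁻¹ * l ∈ Nb b := (hk _).1 (by rw [map_mul, map_inv, e, inv_mul_cancel])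
    simpa using mul_mem hn (hb this)

theorem faith_of_simple {b : Co0} {T : Type*} [Group T] [IsSimpleGroup T]
    {τ : centralizer ({b} : Set Co0) →* T} (hs : Function.Surjective τ)
    (hk : ∀ k, τ k = 1 ↔ k ∈ Nb b) {l : Co0} (hl : l ∈ centralizer ({b} : Set Co0))
    {v : leechLattice} (hv : b • v = v) (hc : ¬ Cg (l • v) v) (k : centralizer ({b} : Set Co0))
    (hf : ∀ v : leechLattice, b • v = v → ∃ u, (k : Co0) • v - v = 2 • u) : τ k = 1 :=
  faith_of hs hk (fun P hP => hP.eq_bot_or_eq_top.imp_right fun e : P = ⊤ =>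
    ⟨⟨l, hl⟩, by rw [e]; trivial, v, hv, hc⟩) k hf

/-- `g^a = h` tested on the standard frame. -/
theorem Impl.ext {g h : Co0} {f f' : ℕ → ℕ}
    (h1 : ∀ n v, Rep n v → sqNorm (v : GolayPt → ℤ) ≤ 64 → Rep (f n) (g • v))
    (h2 : ∀ n v, Rep n v → sqNorm (v : GolayPt → ℤ) ≤ 64 → Rep (f' n) (h • v))
    (e : allN 24 (fun j => Nat.beq (f (e8C j)) (f' (e8C j))) = true) : g = h :=
  co0_ext_e8 fun i => (h1 _ _ (rep_e8 i) (sqNorm_e8 i).le).eq_right
    (beq_iff.1 (allN_iff.1 e _ (gc.idx_lt i)) ▸ h2 _ _ (rep_e8 i) (sqNorm_e8 i).le)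

/-- evaluation of a word. -/
noncomputable def evF (f : ℕ → ℕ → ℕ) (w : List ℕ) (n : ℕ) : ℕ :=
  List.rec n (fun x _ a => forceN a (f x)) w

theorem evF_cons (f : ℕ → ℕ → ℕ) (x : ℕ) (w : List ℕ) (n : ℕ) :
    evF f (x :: w) n = f x (evF f w n) := rfl

/-- evaluation of a word in the matrices `W`. -/
noncomputable def evW (W : ℕ → ℕ) (w : List ℕ) (n : ℕ) : ℕ := evF (fun x => apW (W x)) w n

theorem evW_cons (W : ℕ → ℕ) (x : ℕ) (w : List ℕ) (n : ℕ) :
    evW W (x :: w) n = apW (W x) (evW W w n) := by rw [evW, evF_cons, evW]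

theorem rep_evW {g : ℕ → Co0} {W : ℕ → ℕ} {m : ℕ} (h : ∀ x < m, Impl (g x) (W x)) {w : List ℕ}
    (hw : ∀ x ∈ w, x < m) (n : ℕ) (v : leechLattice) (hn : Rep n v)
    (hv : sqNorm (v : GolayPt → ℤ) ≤ 64) : Rep (evW W w n) ((w.map g).prod • v) := by
  induction w with
  | nil => rw [List.map_nil, List.prod_nil, one_smul]; exact hn
  | cons x w ih =>
    rw [evW_cons, List.map_cons, List.prod_cons, mul_smul]
    exact h x (hw x (by simp)) _ _ (ih fun y hy => hw y (by simp [hy])) (by rwa [sqNorm_smul])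

/-- test for the equality of two words. -/
noncomputable def eqW (W : ℕ → ℕ) (m : ℕ) (w w' : List ℕ) : Bool :=
  band (allL (w ++ w') fun x => Nat.ble (Nat.succ x) m)
    (allN 24 fun j => Nat.beq (evW W w (e8C j)) (evW W w' (e8C j)))

theorem eq_of_eqW {g : ℕ → Co0} {W : ℕ → ℕ} {m : ℕ} (h : ∀ x < m, Impl (g x) (W x))
    {w w' : List ℕ} (e : eqW W m w w' = true) : (w.map g).prod = (w'.map g).prod := by
  simp only [eqW, band_eq, Bool.and_eq_true, allL_iff, ble_iff] at e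
  exact Impl.ext (rep_evW h fun x hx => e.1 x (by simp [hx]))
    (rep_evW h fun x hx => e.1 x (by simp [hx])) e.2

/-- `W` implements the coordinate permutation with code `g`. -/
noncomputable def prmB (g W : ℕ) : Bool :=
  band (okW W) (allN 24 fun j => Nat.beq (apW W (e8C j)) (e8C (app g j)))

theorem impl_prm {g W : ℕ} (hg : gc.InH M24 g) (h : prmB g W = true) : Impl (prm ⟨_, hg.2⟩) W := by
  simp only [prmB, band_eq, Bool.and_eq_true, allN_iff, beq_iff] at h
  have h1 := impl_elt h.1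
  rwa [show elt W = prm ⟨_, hg.2⟩ from co0_ext_e8 fun i => by
    rw [prm_smul_e8]
    refine (h1.smul_eq (rep_e8 i) (sqNorm_e8 i).le (rep_e8 _)).2 ((h.2 _ (gc.idx_lt i)).trans ?_)
    have := hg.1.dec_pt (gc.idx_lt i)
    rw [gc.pt_idx] at this
    show _ = e8C (gc.idx (gc.dec g i))
    rw [this, gc.idx_pt _ (hg.1.app_lt (gc.idx_lt i))]] at h1

end Cfsg.Lib.Leech
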