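import Cfsg.Agent.Lib.Mon.Def
import Cfsg.Agent.Lib.Golay.Blk

/-! Subgroups of odd prime order centralizing two conjugate involutions in a group of Monster type:
reduction to a coordinate permutation. -/

set_option autoImplicit false
set_option maxRecDepth 100000

namespace Cfsg.Lib.Leech

open Subgroup MulAction Spor Cfsg.Lib.Known2 Cfsg.Lib.Core Cfsg.Lib.Amalg Golay

theorem exists_conj_coprime {G : Type*} [Group G] {N : Subgroup G} [Finite N] {p : ℕ}
    (hp : p.Prime) (hN : ¬ p ∣ Nat.card N) {a b : G} (ha : a ^ p = 1) (hb : b ^ p = 1)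
    (hn : ∀ x ∈ N, a * x * a⁻¹ ∈ N) (hab : b * a⁻¹ ∈ N) : ∃ n ∈ N, n * a * n⁻¹ = b := by
  classical
  have := Fact.mk hp
  have := Fintype.ofFinite N
  let f : N → N := fun n => ⟨b * n * a⁻¹, by
    have := mul_mem hab (hn n n.2)
    rwa [show b * a⁻¹ * (a * n * a⁻¹) = b * n * a⁻¹ by group] at this⟩
  have hf : Function.Injective f := fun m n e => Subtype.ext (mul_left_cancel (mul_right_cancel
    (congrArg Subtype.val e : b * m * a⁻¹ = b * n * a⁻¹)))
  let σ : Equiv.Perm N := Equiv.ofBijective f (Finite.injective_iff_bijective.1 hf)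
  have h : ∀ (k : ℕ) (n : N), ((σ ^ k) n : G) = b ^ k * n * (a ^ k)⁻¹ := fun k n => by
    induction k with
    | zero => simp
    | succ k ih =>
      rw [pow_succ', Equiv.Perm.mul_apply]
      show b * ((σ ^ k) n : G) * a⁻¹ = _
      rw [ih, pow_succ', pow_succ' a]; group
  obtain ⟨n, e⟩ := Equiv.Perm.exists_fixed_point_of_prime (p := p) (n := 1) (σ := σ)
    (by rwa [← Nat.card_eq_fintype_card]) (Equiv.ext fun n => Subtype.ext (by
      rw [pow_one, h, ha, hb]; simp))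
  have e' : b * n * a⁻¹ = n := congrArg Subtype.val e
  exact ⟨n, n.2, by rw [mul_inv_eq_iff_eq_mul, ← mul_inv_eq_iff_eq_mul.1 e']⟩

section
variable {L T : Type*} [Group L] [Finite L] [Group T] {f : L →* T} (hf : Function.Surjective f)
  (hk : IsPGroup 2 f.ker) {p : ℕ} (hp : p.Prime) (h2 : p ≠ 2)
include hk hp h2

theorem not_dvd_ker (H : Subgroup L) : ¬ p ∣ Nat.card ↥(f.ker ⊓ H) := fun h => by
  have := Fact.mk Nat.prime_two
  obtain ⟨n, hn⟩ := IsPGroup.iff_card.1 (hk.to_le (inf_le_left : f.ker ⊓ H ≤ f.ker))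
  rw [hn] at h
  exact h2 ((Nat.prime_dvd_prime_iff_eq hp Nat.prime_two).1 (hp.dvd_of_dvd_pow h))

include hf

theorem conj_of_img {y y' : L} (hy : y ^ p = 1) (hy' : y' ^ p = 1) {t : T}
    (h : t * f y * t⁻¹ = f y') : ∃ l, f l = t ∧ l * y * l⁻¹ = y' := by
  obtain ⟨l, rfl⟩ := hf t
  obtain ⟨n, hn, e⟩ := exists_conj_coprime (N := f.ker) hp
    (by simpa using not_dvd_ker hk hp h2 ⊤) (a := l * y * l⁻¹) (by rw [conj_pow, hy]; simp) hy'
    (fun x hx => (inferInstance : f.ker.Normal).conj_mem x hx _)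
    (by rw [MonoidHom.mem_ker, map_mul, map_inv, map_mul, map_mul, map_inv, h, mul_inv_cancel])
  exact ⟨n * l, by rw [map_mul, MonoidHom.mem_ker.1 hn, one_mul], by rw [← e]; group⟩

theorem dvd_cent_iff {y : L} (hy : y ^ p = 1) (k : ℕ) :
    p ^ k ∣ Nat.card (centralizer ({y} : Set L)) ↔ p ^ k ∣ Nat.card (centralizer ({f y} : Set T)) := by
  have h1 : (centralizer ({y} : Set L)).map f = centralizer {f y} := by
    ext t
    constructor
    · rintro ⟨l, hl, rfl⟩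
      rw [mem_centralizer_singleton_iff, ← map_mul, mem_centralizer_singleton_iff.1 hl, map_mul]
    · intro ht
      obtain ⟨l, e, e'⟩ := conj_of_img hf hk hp h2 hy hy
        (mul_inv_eq_iff_eq_mul.2 (mem_centralizer_singleton_iff.1 ht))
      exact ⟨l, mem_centralizer_singleton_iff.2 (mul_inv_eq_iff_eq_mul.1 e'), e⟩
  rw [← card_map_mul_card_inf_ker f, h1]
  exact (Nat.Coprime.pow_left k ((Nat.Prime.coprime_iff_not_dvd hp).2
    (not_dvd_ker hk hp h2 _))).dvd_mul_right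

theorem factorization_eq : (Nat.card L).factorization p = (Nat.card T).factorization p := by
  have h1 := card_map_mul_card_inf_ker f ⊤
  have := Finite.of_surjective f hf
  rw [map_top_of_surjective f hf, card_top, card_top] at h1
  rw [← h1, Nat.factorization_mul Nat.card_pos.ne' Nat.card_pos.ne', Finsupp.add_apply,
    Nat.factorization_eq_zero_of_not_dvd (not_dvd_ker hk hp h2 ⊤), add_zero]

end

theorem central_iff {L : Type*} [Group L] [Finite L] {p : ℕ} [Fact p.Prime] {y : L}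
    (hy : y ^ p = 1) : (∃ P : Sylow p L, zpowers y ≤ (center (P : Subgroup L)).map
      (P : Subgroup L).subtype) ↔
    p ^ (Nat.card L).factorization p ∣ Nat.card (centralizer ({y} : Set L)) := by
  constructor
  · rintro ⟨P, hP⟩
    obtain ⟨x, hx, e⟩ := hP (mem_zpowers y)
    rw [← P.card_eq_multiplicity]
    refine card_dvd_of_le fun a ha => mem_centralizer_singleton_iff.2 ?_
    rw [← e]
    exact congrArg Subtype.val (Subgroup.mem_center_iff.1 hx ⟨a, ha⟩)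
  · intro h
    let y' : centralizer ({y} : Set L) := ⟨y, mem_centralizer_singleton_iff.2 rfl⟩
    obtain ⟨Q, hQ⟩ := (show IsPGroup p (zpowers y') from fun ⟨_, i, rfl⟩ => ⟨1, Subtype.ext (by
      rw [pow_one, coe_pow, ← zpow_natCast, ← zpow_mul, mul_comm, zpow_mul, zpow_natCast,
        show y' ^ p = 1 from Subtype.ext hy, one_zpow]; rfl)⟩).exists_le_sylow
    obtain ⟨P, hP⟩ := (Q.isPGroup'.map (centralizer ({y} : Set L)).subtype).exists_le_sylow
    have h1 : (Q : Subgroup (centralizer ({y} : Set L))).map (centralizer ({y} : Set L)).subtype =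
        P := eq_of_le_of_card_ge hP (by
      rw [card_map_subtype, P.card_eq_multiplicity, Q.card_eq_multiplicity]
      exact Nat.pow_le_pow_right (Fact.out : p.Prime).pos
        (((Fact.out : p.Prime).pow_dvd_iff_le_factorization Nat.card_pos.ne').1 h))
    refine ⟨P, zpowers_le_of_mem ⟨⟨y, hP ⟨y', hQ (mem_zpowers _), rfl⟩⟩,
      Subgroup.mem_center_iff.2 fun a => Subtype.ext ?_, rfl⟩⟩
    obtain ⟨b, -, e⟩ : (a : L) ∈ (Q : Subgroup (centralizer ({y} : Set L))).map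
      (centralizer ({y} : Set L)).subtype := h1.ge a.2
    show (a : L) * y = y * a
    rw [← e]; exact mem_centralizer_singleton_iff.1 b.2

theorem card_cent_conj {L : Type*} [Group L] (e : L ≃* L) (y : L) :
    Nat.card (centralizer ({e y} : Set L)) = Nat.card (centralizer ({y} : Set L)) :=
  (Nat.card_congr (centralizerEquiv e y).toEquiv).symm

theorem M24_conj {σ : M24} {z : ℕ} (hz : gc.InH M24 z) (h : ∃ k ∈ M24, σ.1 = k * gc.dec z * k⁻¹) :
    IsConj ⟨_, hz.2⟩ σ :=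
  let ⟨k, hk, e⟩ := h; isConj_iff.2 ⟨⟨k, hk⟩, Subtype.ext e.symm⟩

theorem conj_3A {σ τ : M24} (h : orderOf σ = 3) (h' : orderOf τ = 3) (e : ∃ i, σ.1 i = i)
    (e' : ∃ i, τ.1 i = i) : IsConj σ τ :=
  (M24_conj inH_z3A (std_3A σ.2 ((orderOf_coe σ).trans h) fun a =>
    e.elim (card_fix_eq_zero.1 a))).symm.trans (M24_conj inH_z3A (std_3A τ.2
      ((orderOf_coe τ).trans h') fun a => e'.elim (card_fix_eq_zero.1 a)))

theorem conj_3B {σ τ : M24} (h : orderOf σ = 3) (h' : orderOf τ = 3) (e : ∀ i, σ.1 i ≠ i)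
    (e' : ∀ i, τ.1 i ≠ i) : IsConj σ τ :=
  (M24_conj inH_z3B (std_3B σ.2 ((orderOf_coe σ).trans h) e)).symm.trans
    (M24_conj inH_z3B (std_3B τ.2 ((orderOf_coe τ).trans h') e'))

theorem fix_iff_27 {σ : M24} (h : orderOf σ = 3) :
    (∃ i, σ.1 i = i) ↔ 3 ^ 3 ∣ Nat.card (centralizer ({σ} : Set M24)) := by
  have key : ∀ {τ : M24}, IsConj τ σ → Nat.card (centralizer ({σ} : Set M24)) =
      Nat.card ↥(M24 ⊓ centralizer {τ.1}) := fun {τ} e => by
    obtain ⟨c, rfl⟩ := isConj_iff.1 e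
    exact (card_cent_conj (MulAut.conj c) τ).trans (card_cent_coe M24 τ)
  constructor
  · intro e
    have hz : gc.InH M24 0x1161309070b0504140e100c080a0f121506030d11170200 :=
      inH_of_inM24 (by decide +kernel)
    rw [key (conj_3A (σ := ⟨_, hz.2⟩) ((orderOf_coe _).symm.trans
      (hz.1.orderOf_eq (by norm_num) (by decide +kernel))) h
      ⟨gc.pt 0, hz.1.dec_pt (i := 0) (by decide)⟩ e)]
    exact dvd_cent inH_gS3 hz.1 (by decide +kernel) (by decide +kernel)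
  · intro e
    by_contra hn
    push Not at hn
    rw [key (conj_3B (σ := ⟨_, inH_y3.2⟩) ((orderOf_coe _).symm.trans orderOf_y3) h
      (card_fix_eq_zero.mp (by rw [fix_y3, card_om]; rfl)) hn)] at e
    have h1 := card_C24_y3
    have h2 : 168 ∣ _ := dvd_cent (H := M24) (gs :=
      [0xe1411160c08150702170a13010d061210090300050f0b04,
        0x3130b140e0d0810040c1505110a00010f07170216091206])
      (inH_of_allL (by decide +kernel)) inH_y3.1 (by decide +kernel) (by decide +kernel)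
    have h3 : 0 < Nat.card ↥(M24 ⊓ centralizer {gc.dec y3}) := Nat.card_pos
    have h4 : 3 ^ 3 ∣ Nat.card ↥(M24 ⊓ centralizer {gc.dec y3}) := e
    omega

theorem conj_pow_of_sylow {T : Type*} [Group T] [Finite T] {p : ℕ} (hp : p.Prime)
    (h : (Nat.card T).factorization p = 1) {σ τ : T} (h1 : orderOf σ = p) (h2 : orderOf τ = p) :
    ∃ i : ℕ, IsConj (σ ^ i) τ := by
  have := Fact.mk hp
  obtain ⟨c, hc⟩ := exists_smul_eq T
    (Sylow.ofCard (p := p) (zpowers σ) (by rw [Nat.card_zpowers, h, h1, pow_one]))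
    (Sylow.ofCard (p := p) (zpowers τ) (by rw [Nat.card_zpowers, h, h2, pow_one]))
  have h3 : τ ∈ ((c • Sylow.ofCard (p := p) (zpowers σ) (by
    rw [Nat.card_zpowers, h, h1, pow_one]) : Sylow p T) : Subgroup T) := hc ▸ mem_zpowers τ
  obtain ⟨x, hx, e⟩ := h3
  obtain ⟨i, rfl⟩ := mem_powers_iff_mem_zpowers.2 hx
  exact ⟨i, isConj_iff.2 ⟨c, e⟩⟩

theorem mem_cent_pair {G : Type*} [Group G] {z s x : G} :
    x ∈ centralizer ({z, s} : Set G) ↔ x * z = z * x ∧ x * s = s * x := by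
  simp only [mem_centralizer_iff, Set.mem_insert_iff, Set.mem_singleton_iff, forall_eq_or_imp,
    forall_eq]
  exact and_congr eq_comm eq_comm

theorem fact_M24 : (Nat.card M24).factorization 3 = 3 ∧ (Nat.card M24).factorization 5 = 1 ∧
    (Nat.card M24).factorization 7 = 1 := by
  rw [card_M24]
  refine ⟨?_, ?_, ?_⟩ <;> exact Nat.le_antisymm
    (Nat.lt_succ_iff.1 (not_le.1 fun h => absurd ((Nat.Prime.pow_dvd_iff_le_factorization
      (by norm_num) (by norm_num)).2 h) (by norm_num)))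
    ((Nat.Prime.pow_dvd_iff_le_factorization (by norm_num) (by norm_num)).1 (by norm_num))

/-- The output of the reduction. -/
def Red {G : Type*} [Group G] (z s : G) (R Y : Subgroup G) (s0 : M24) : Prop :=
  ∃ (π : centralizer ({z} : Set G) →* Co1) (Ov : leechLattice → G → Prop), MT z R π Ov ∧
    Ov (e8 none) s ∧ ∃ y, zpowers y = Y ∧ Mt π y (prm s0) ∧
      ∃ h ∈ centralizer (Y : Set G), h * z * h⁻¹ = s

namespace MT

variable {G : Type*} [Group G] {z : G} {R : Subgroup G} {π : centralizer ({z} : Set G) →* Co1}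
  {Ov : leechLattice → G → Prop} (M : MT z R π Ov) {g : G} (hs : g * z * g⁻¹ ∈ R)
  (hne : g * z * g⁻¹ ≠ z)
include M hne

theorem lift_Mono (hv : Ov (e8 none) (g * z * g⁻¹)) {k : Co0} (hk : k ∈ Mono) :
    ∃ l ∈ centralizer ({z, g * z * g⁻¹} : Set G), Mt π l k := by
  obtain ⟨l, hl, e⟩ := mem_img.1 (M.img_X hne hv ▸ hk)
  exact ⟨l, mem_cent_pair.2 ⟨mem_centralizer_singleton_iff.1 hl.1,
    mem_centralizer_singleton_iff.1 hl.2⟩, e⟩

theorem exists_Mono (hv : Ov (e8 none) (g * z * g⁻¹)) :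
    ∀ l ∈ centralizer ({z, g * z * g⁻¹} : Set G), ∃ k ∈ Mono, Mt π l k := fun l hl => by
  have h1 := mem_centralizer_singleton_iff.2 (mem_cent_pair.1 hl).1
  obtain ⟨k, hk⟩ := exists_mt (π := π) h1
  exact ⟨k, M.img_X hne hv ▸ mem_img.2 ⟨l, ⟨h1, mem_centralizer_singleton_iff.2
    (mem_cent_pair.1 hl).2⟩, hk⟩, hk⟩

theorem exists_f (hv : Ov (e8 none) (g * z * g⁻¹)) :
    ∃ f : centralizer ({z, g * z * g⁻¹} : Set G) →* M24, Function.Surjective f ∧
      IsPGroup 2 f.ker ∧ (∀ (l : centralizer ({z, g * z * g⁻¹} : Set G)) (k : Mono),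
        Mt π (l : G) k → f l = monoPerm k) ∧
      ∀ (l : centralizer ({z, g * z * g⁻¹} : Set G)) σ, Mt π (l : G) (prm σ) → f l = σ := by
  obtain ⟨f, hf⟩ := exists_tau monoPerm (M.exists_Mono hne hv) fun h =>
    monoPerm_eq (c := Finset.univ) (hc := cw_univ) (by rw [prm_one, mul_one]; rfl)
  have h1 : ∀ (l : centralizer ({z, g * z * g⁻¹} : Set G)) σ, Mt π (l : G) (prm σ) → f l = σ :=
    fun l σ h =>
    (hf l ⟨_, prm_mem_Mono σ⟩ h).trans (monoPerm_eq (c := ∅) (hc := cw_empty)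
      (by rw [sgn_empty, one_mul]))
  refine ⟨f, fun σ => ?_, fun ⟨l, hl⟩ => ⟨3, Subtype.ext (Subtype.ext ?_)⟩, hf, h1⟩
  · obtain ⟨l, hl, e⟩ := M.lift_Mono hne hv (prm_mem_Mono σ)
    exact ⟨⟨l, hl⟩, h1 _ _ e⟩
  · obtain ⟨k, hk, e⟩ := M.exists_Mono hne hv l l.2
    obtain ⟨c, hc, e'⟩ := exists_sgn_monoPerm ⟨k, hk⟩
    rw [← hf l ⟨k, hk⟩ e, MonoidHom.mem_ker.1 hl, prm_one, mul_one] at e'
    have h2 : (l : G) * l ∈ R := (M.mt_mem (e.mul e)).2 (Or.inl (by
      rw [show k = sgn c hc from e', sgn_mul_self]))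
    show (l : G) ^ 2 ^ 3 = 1
    rw [show (l : G) ^ 2 ^ 3 = (l * l * (l * l)) * (l * l * (l * l)) by
      simp only [pow_succ, pow_zero, one_mul, mul_assoc, Nat.reduceMul]]
    rcases M.es.sq_mem _ h2 with a | a <;> rw [a]
    exacts [one_mul _, M.es.sq]

include hs

theorem exists_swap : ∃ a, a * z * a⁻¹ = g * z * g⁻¹ ∧ a * (g * z * g⁻¹) * a⁻¹ = z := by
  have h1 : g⁻¹ * z * g⁻¹⁻¹ ∈ R := by rw [inv_inv]; exact mem_cj.1 (M.z_mem hs hne)
  obtain ⟨v, hv, h⟩ := M.type_four h1 fun e => hne ((congrArg (g * · * g⁻¹) e).symm.trans (by group))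
  obtain ⟨c, hc, e⟩ := M.conj_of_64 hs hne hv h
  refine ⟨g * c, ?_, ?_⟩
  · rw [mul_assoc g, mem_centralizer_singleton_iff.1 hc]; group
  · rw [show g * c * (g * z * g⁻¹) * (g * c)⁻¹ = g * (c * (g * z * g⁻¹) * c⁻¹) * g⁻¹ by group, e]
    group

theorem red_core [Finite G] (hv : Ov (e8 none) (g * z * g⁻¹))
    {f : centralizer ({z, g * z * g⁻¹} : Set G) →* M24} (hf : Function.Surjective f)
    (hk : IsPGroup 2 f.ker) (f1 : ∀ (l : centralizer ({z, g * z * g⁻¹} : Set G)) (k : Mono),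
      Mt π (l : G) k → f l = monoPerm k)
    (f2 : ∀ (l : centralizer ({z, g * z * g⁻¹} : Set G)) σ, Mt π (l : G) (prm σ) → f l = σ)
    {p : ℕ} (hp : p.Prime) (h2 : p ≠ 2)
    {y : centralizer ({z, g * z * g⁻¹} : Set G)} (hy : y ^ p = 1) {s0 : M24}
    (h0 : IsConj (f y) s0) (h1 : ∀ α : MulAut (centralizer ({z, g * z * g⁻¹} : Set G)),
      ∃ i : ℕ, IsConj (f y ^ i) (f (α y))) :
    Red z (g * z * g⁻¹) R (zpowers (y : G)) s0 := by
  have E := M.es
  have s1 := (E.conj g).ne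
  obtain ⟨a, a1, a2⟩ := M.exists_swap hs hne
  have lift := fun k => M.lift_Mono hne hv (k := k)
  have exM := M.exists_Mono hne hv
  generalize g * z * g⁻¹ = s at *
  have cA : ∀ {x u : G}, x * u = u * x ↔ x * u * x⁻¹ = u := mul_inv_eq_iff_eq_mul.symm
  have cB : ∀ {c x u v : G}, c * u * c⁻¹ = v → x * u = u * x →
      c * x * c⁻¹ * v = v * (c * x * c⁻¹) := fun {c x u v} e h => by
    rw [← e, conj_mul, conj_mul, h]
  obtain ⟨y1, y2⟩ := mem_cent_pair.1 y.2
  have hy' : (y : G) ^ p = 1 := congrArg Subtype.val hy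
  -- the standard element
  obtain ⟨l0, hl0, e0⟩ := lift _ (prm_mem_Mono s0)
  obtain ⟨t, ht⟩ := isConj_iff.1 h0
  have s0p : s0 ^ p = 1 := by rw [← ht, conj_pow, ← map_pow, hy, map_one]; simp
  obtain ⟨m, hm⟩ : ∃ m, p + 1 = 2 * m := ⟨(p + 1) / 2, by
    have := hp.eq_two_or_odd.resolve_left h2; omega⟩
  have e1 : Mt π (l0 ^ ((p + 1) ^ 2)) (prm s0) := by
    have := e0.pow ((p + 1) ^ 2)
    rwa [← prmHom_apply, ← map_pow, show (p + 1) ^ 2 = p * (p + 2) + 1 by ring, pow_succ s0,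
      pow_mul, s0p, one_pow, one_mul, ← show (p + 1) ^ 2 = p * (p + 2) + 1 by ring] at this
  have e2 : (l0 ^ ((p + 1) ^ 2)) ^ p = 1 := by
    have h3 : l0 ^ p ∈ R := (M.mt_mem (e0.pow p)).2 (Or.inl (by
      rw [← prmHom_apply, ← map_pow, s0p, map_one]))
    rw [← pow_mul, hm, show (2 * m) ^ 2 * p = p * (2 * (2 * m ^ 2)) by ring, pow_mul, pow_mul,
      pow_mul, sq (l0 ^ p), sq]
    rcases E.sq_mem _ h3 with e | e <;> rw [e]
    · rw [one_mul, one_pow]
    · rw [E.sq, one_pow]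
  obtain ⟨l, -, e3⟩ := conj_of_img hf hk hp h2 hy (y' := ⟨_, pow_mem hl0 ((p + 1) ^ 2)⟩)
    (Subtype.ext e2) (ht.trans (f2 _ _ e1).symm)
  obtain ⟨k, -, e4⟩ := exM l l.2
  have e5 : Mt π (y : G) (k⁻¹ * prm s0 * k) := by
    have := (e4.inv.mul e1).mul e4
    rwa [← show (l : G) * y * (l : G)⁻¹ = l0 ^ (p + 1) ^ 2 from congrArg Subtype.val e3,
      show (l : G)⁻¹ * (l * y * (l : G)⁻¹) * l = y by group] at this
  -- the swap
  have ha : a ∈ normalizer (centralizer ({z, s} : Set G) : Set G) :=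
    mem_normalizer_fintype fun x hx => mem_cent_pair.2
      ⟨cB a2 (mem_cent_pair.1 hx).2, cB a1 (mem_cent_pair.1 hx).1⟩
  obtain ⟨i, hi⟩ := h1 (normalizerMonoidHom _ ⟨a, ha⟩)
  obtain ⟨u, hu⟩ := isConj_iff.1 hi
  obtain ⟨r, -, e6⟩ := conj_of_img hf hk hp h2 (y := y ^ i) (by rw [← pow_mul, mul_comm, pow_mul, hy,
    one_pow]) (by rw [← map_pow, hy, map_one]) ((map_pow f y i).symm ▸ hu)
  have e7 : (r : G) * (y : G) ^ i * (r : G)⁻¹ = a * y * a⁻¹ := congrArg Subtype.val e6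
  obtain ⟨r1, r2⟩ := mem_cent_pair.1 r.2
  -- an element centralizing `y` and moving `s` to `s z`
  obtain ⟨b, hb, e8'⟩ := es_exists_conj E hs s1 hne
  have b1 := E.cen b hb
  have sz := E.cen s hs
  have hb' : b * y * b⁻¹ ∈ centralizer ({z, s} : Set G) := mem_cent_pair.2
    ⟨cB (cA.1 b1) y1, cB (u := s * z) (by
      rw [← conj_mul, e8', cA.1 b1, mul_assoc, E.sq, mul_one]) (by
      rw [← mul_assoc, y2, mul_assoc, y1, mul_assoc])⟩
  obtain ⟨k0, hk0, e9⟩ := exM y y.2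
  obtain ⟨n, -, e10⟩ := conj_of_img hf hk hp h2 (y := ⟨_, hb'⟩) (Subtype.ext (by
    show (b * y * b⁻¹) ^ p = 1
    rw [conj_pow, hy']; simp)) hy (t := 1) (by
    rw [one_mul, inv_one, mul_one, f1 y ⟨k0, hk0⟩ e9]
    exact f1 _ ⟨k0, hk0⟩ (by simpa using ((M.mt_of_mem hb).mul e9).mul (M.mt_of_mem hb).inv))
  have e11 : (n : G) * (b * y * b⁻¹) * (n : G)⁻¹ = y := congrArg Subtype.val e10
  obtain ⟨n1, n2⟩ := mem_cent_pair.1 n.2
  have d1 : Commute ((n : G) * b) y := cA.2 (by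
    rw [show (n : G) * b * y * ((n : G) * b)⁻¹ = n * (b * y * b⁻¹) * (n : G)⁻¹ by group, e11])
  have d2 : (n : G) * b * z * ((n : G) * b)⁻¹ = z := by
    rw [mul_assoc _ b, b1, ← mul_assoc, n1]; group
  have d3 : (n : G) * b * s * ((n : G) * b)⁻¹ = s * z := by
    rw [show (n : G) * b * s * ((n : G) * b)⁻¹ = n * (b * s * b⁻¹) * (n : G)⁻¹ by group, e8',
      ← conj_mul, cA.1 n1, cA.1 n2]
  generalize (n : G) * b = d at d1 d2 d3
  have d4 : Commute (a⁻¹ * r * d * (a⁻¹ * r)⁻¹) y :=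
    cB (by rw [mul_assoc a⁻¹, mul_inv_rev, ← mul_assoc, mul_assoc a⁻¹, e7]; group) (d1.pow_right i).eq
  refine ⟨_, _, M.twist k⁻¹, ?_, y, rfl, ⟨e5.1, ?_⟩, d * (a⁻¹ * r * d * (a⁻¹ * r)⁻¹), ?_, ?_⟩
  · have := M.mt_conj e4.inv hv
    rwa [cA.1 (mem_cent_pair.1 (inv_mem l.2)).2] at this
  · show (mk1 k⁻¹)⁻¹ * π _ * (mk1 k⁻¹)⁻¹⁻¹ = _
    rw [e5.2, inv_inv, ← map_inv, ← map_mul, ← map_mul]
    congr 1; group
  · rintro _ ⟨j, rfl⟩
    exact ((d1.mul_left d4).zpow_right j).eq.symm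
  · generalize (r : G) = r at r1 r2 ⊢
    have c1 : (a⁻¹ * r)⁻¹ * z * (a⁻¹ * r) = s := by
      rw [show (a⁻¹ * r)⁻¹ * z * (a⁻¹ * r) = (r : G)⁻¹ * (a * z * a⁻¹) * r by group, a1,
        mul_assoc, ← r2]; group
    have c2 : (a⁻¹ * r) * s * (a⁻¹ * r)⁻¹ = z := by rw [← c1]; group
    have c3 : (a⁻¹ * r) * z * (a⁻¹ * r)⁻¹ = s := by
      rw [mul_assoc a⁻¹, r1, show a⁻¹ * (z * r) * (a⁻¹ * r)⁻¹ = a⁻¹ * z * a by group, ← a2]; group
    generalize a⁻¹ * (r : G) = w at c1 c2 c3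
    rw [show d * (w * d * w⁻¹) * z * (d * (w * d * w⁻¹))⁻¹ =
      d * (w * (d * (w⁻¹ * z * w) * d⁻¹) * w⁻¹) * d⁻¹ by group, c1, d3, ← conj_mul (b := w), c2, c3,
      ← conj_mul (b := d), d2, d3, sz, ← mul_assoc, E.sq, one_mul]

theorem red_gen [Finite G] {p : ℕ} (hp : p.Prime) (h2 : p ≠ 2) {Y : Subgroup G}
    (hY : Y ≤ centralizer ({z, g * z * g⁻¹} : Set G)) {s0 : M24} (h0 : orderOf s0 = p)
    (hc : (Nat.card (centralizer ({z, g * z * g⁻¹} : Set G))).factorization p =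
      (Nat.card M24).factorization p → Nat.card Y = p)
    (H : ∀ f : centralizer ({z, g * z * g⁻¹} : Set G) →* M24, Function.Surjective f →
      IsPGroup 2 f.ker → ∀ y, orderOf y = p → zpowers y = Y.subgroupOf _ →
      ∀ α : MulAut (centralizer ({z, g * z * g⁻¹} : Set G)), ∀ σ, orderOf σ = p →
      orderOf (f (α y)) = p → (σ = s0 ∨ σ = f y) →
      (∃ i : ℕ, IsConj (f (α y) ^ i) σ) ∧ ∃ i : ℕ, IsConj (σ ^ i) (f (α y))) :
    Red z (g * z * g⁻¹) R Y s0 := by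
  have := Fact.mk hp
  obtain ⟨k, hv⟩ := M.exists_e8 hs hne
  obtain ⟨f, hf, hk, f1, f2⟩ := (M.twist k).exists_f hne hv
  have h1 : Nat.card (Y.subgroupOf (centralizer ({z, g * z * g⁻¹} : Set G))) = p := by
    rw [card_subgroupOf_of_le hY, hc (factorization_eq hf hk hp h2)]
  have ho : ∀ y, orderOf y = p → orderOf (f y) = p := fun y hy =>
    orderOf_eq_prime (by rw [← map_pow, ← hy, pow_orderOf_eq_one, map_one]) fun e =>
      not_dvd_ker hk hp h2 ⊤ (hy ▸ orderOf_dvd_natCard _ ⟨e, mem_top y⟩)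
  have hz : ∀ y ∈ Y.subgroupOf (centralizer ({z, g * z * g⁻¹} : Set G)), orderOf y = p →
      zpowers y = Y.subgroupOf _ := fun y hy e =>
    eq_of_le_of_card_ge (zpowers_le_of_mem hy) (by rw [h1, Nat.card_zpowers, e])
  obtain ⟨⟨x, hx⟩, ex⟩ := exists_prime_orderOf_dvd_card' (G := Y.subgroupOf _) p h1.symm.dvd
  have ex' : orderOf x = p := (orderOf_coe (⟨x, hx⟩ : Y.subgroupOf _)).trans ex
  obtain ⟨⟨i, hi⟩, -⟩ := H f hf hk x ex' (hz x hx ex') 1 s0 h0 (ho x ex') (Or.inl rfl)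
  have hi' : IsConj (f (x ^ i)) s0 := by rwa [map_pow]
  have e1 : (x ^ i) ^ p = 1 := by
    rw [← pow_mul, mul_comm, pow_mul, ← ex', pow_orderOf_eq_one, one_pow]
  have e2 : orderOf (x ^ i) = p := orderOf_eq_prime e1 fun e => by
    rw [e, map_one, isConj_one_right] at hi'
    rw [hi', orderOf_one] at h0
    exact hp.one_lt.ne h0
  have e3 := hz _ (pow_mem hx i) e2
  have := (M.twist k).red_core hs hne hv hf hk f1 f2 hp h2 e1 hi' fun α =>
    (H f hf hk _ e2 e3 α _ (ho _ e2) (ho _ ((α.orderOf_eq _).trans e2)) (Or.inr rfl)).2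
  have e4 := MonoidHom.map_zpowers (Subgroup.subtype _) (x ^ i)
  rw [e3, map_subgroupOf_eq_of_le hY] at e4
  rw [e4]; exact this

theorem red_sylow [Finite G] {p : ℕ} (hp : p = 5 ∨ p = 7) {s0 : M24} (h0 : orderOf s0 = p)
    {B : Subgroup G} (hB : B ≤ centralizer ({z, g * z * g⁻¹} : Set G))
    (hBp : Nat.card B = p ^ (Nat.card (centralizer ({z, g * z * g⁻¹} : Set G))).factorization p) :
    Red z (g * z * g⁻¹) R B s0 := by
  have h1 : p.Prime := by rcases hp with rfl | rfl <;> norm_num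
  have h2 : (Nat.card M24).factorization p = 1 := by
    rcases hp with rfl | rfl
    exacts [fact_M24.2.1, fact_M24.2.2]
  exact M.red_gen hs hne h1 (by omega) hB h0 (fun e => by rw [hBp, e, h2, pow_one])
    fun f _ _ y _ _ α σ a b _ => ⟨conj_pow_of_sylow h1 h2 b a, conj_pow_of_sylow h1 h2 a b⟩

omit M hs hne in
theorem fix_iff_central {L : Type*} [Group L] [Finite L] {f : L →* M24}
    (hf : Function.Surjective f) (hk : IsPGroup 2 f.ker) {y : L} (hy : orderOf y = 3)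
    (α : MulAut L) (h : orderOf (f (α y)) = 3) : (∃ i, (f (α y)).1 i = i) ↔
      ∃ P : Sylow 3 L, zpowers y ≤ (center (P : Subgroup L)).map (P : Subgroup L).subtype := by
  have := Fact.mk Nat.prime_three
  have h1 : y ^ 3 = 1 := hy ▸ pow_orderOf_eq_one y
  rw [central_iff h1, factorization_eq hf hk Nat.prime_three (by norm_num), fact_M24.1,
    ← card_cent_conj α, dvd_cent_iff hf hk Nat.prime_three (by norm_num)
      (by rw [← map_pow, h1, map_one]), fix_iff_27 h]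

theorem red3A [Finite G] {s0 : M24} (h0 : orderOf s0 = 3) (hfix : ∃ i, s0.1 i = i)
    {Y : Subgroup G} (hY : Y ≤ centralizer ({z, g * z * g⁻¹} : Set G)) (hY3 : Nat.card Y = 3)
    (hc : ∃ P : Sylow 3 (centralizer ({z, g * z * g⁻¹} : Set G)),
      Y.subgroupOf (centralizer ({z, g * z * g⁻¹} : Set G)) ≤
        (center (P : Subgroup (centralizer ({z, g * z * g⁻¹} : Set G)))).map
          (P : Subgroup (centralizer ({z, g * z * g⁻¹} : Set G))).subtype) :
    Red z (g * z * g⁻¹) R Y s0 :=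
  M.red_gen hs hne Nat.prime_three (by norm_num) hY h0 (fun _ => hY3)
    fun f hf hk y hy e α σ a b c => by
      have h1 := (fix_iff_central hf hk hy α b).2 (e ▸ hc)
      have h2 : ∃ i, σ.1 i = i := by
        rcases c with rfl | rfl
        exacts [hfix, (fix_iff_central hf hk hy 1 a).2 (e ▸ hc)]
      exact ⟨⟨1, by rw [pow_one]; exact conj_3A b a h1 h2⟩, 1, by
        rw [pow_one]; exact conj_3A a b h2 h1⟩

theorem red3B [Finite G] {s0 : M24} (h0 : orderOf s0 = 3) (hfix : ∀ i, s0.1 i ≠ i)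
    {Y : Subgroup G} (hY : Y ≤ centralizer ({z, g * z * g⁻¹} : Set G)) (hY3 : Nat.card Y = 3)
    (hc : ∀ P : Sylow 3 (centralizer ({z, g * z * g⁻¹} : Set G)),
      ¬ Y.subgroupOf (centralizer ({z, g * z * g⁻¹} : Set G)) ≤
        (center (P : Subgroup (centralizer ({z, g * z * g⁻¹} : Set G)))).map
          (P : Subgroup (centralizer ({z, g * z * g⁻¹} : Set G))).subtype) :
    Red z (g * z * g⁻¹) R Y s0 :=
  M.red_gen hs hne Nat.prime_three (by norm_num) hY h0 (fun _ => hY3)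
    fun f hf hk y hy e α σ a b c => by
      have key : ∀ β : MulAut (centralizer ({z, g * z * g⁻¹} : Set G)), orderOf (f (β y)) = 3 →
          ∀ i, (f (β y)).1 i ≠ i := fun β h i hi =>
        let ⟨P, hP⟩ := (fix_iff_central hf hk hy β h).1 ⟨i, hi⟩; hc P (e ▸ hP)
      have h2 : ∀ i, σ.1 i ≠ i := by
        rcases c with rfl | rfl
        exacts [hfix, key 1 a]
      exact ⟨⟨1, by rw [pow_one]; exact conj_3B b a (key α b) h2⟩, 1, by
        rw [pow_one]; exact conj_3B a b h2 (key α b)⟩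

end MT

/-- The hypotheses of the statements, elementwise. -/
theorem exists_MT {G : Type*} [Group G] [Finite G] {z : G}
    {Q : Subgroup (centralizer ({z} : Set G))} [Q.Normal] (hM : IsOfMonsterType z Q) {s : G}
    (hsQ : ∃ hsc : s ∈ centralizer ({z} : Set G), (⟨s, hsc⟩ : centralizer ({z} : Set G)) ∈ Q)
    (hs : IsConj z s) : ∃ π Ov g, MT z (Q.map (Subgroup.subtype _)) π Ov ∧ g * z * g⁻¹ = s ∧
      s ∈ Q.map (Subgroup.subtype _) := by
  obtain ⟨hS, e, ψ, hψ⟩ := hM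
  obtain ⟨g, hg⟩ := isConj_iff.1 hs
  exact ⟨_, _, g, MT.of hS hψ, hg, _, hsQ.2, rfl⟩

end Cfsg.Lib.Leech
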