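import Cfsg.Agent.Lib.Mon.Red
import Cfsg.Agent.Lib.Mon.Grp2

/-! Odd centralizers in groups of Monster type: from the reduction to the setting. -/

set_option autoImplicit false

namespace Cfsg.Lib.Leech

open Subgroup Spor

theorem Red.setting {G : Type*} [Group G] [Finite G] {z s : G} {R Y : Subgroup G} {s0 : M24}
    (h : Red z s R Y s0) (hs : s ∈ R) (hne : s ≠ z) (hY : Y ≤ centralizer ({z, s} : Set G))
    {p : ℕ} (hp : Odd p) (hc : Nat.card Y = p) (h0 : orderOf s0 = p) {w : ℕ} {T : Type*} [Group T]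
    {τ : centralizer ({prm s0} : Set Co0) →* T} (D : OddData (prm s0) w τ)
    [(Y.subgroupOf (centralizer (Y : Set G))).Normal] :
    ∃ (z' : centralizer (Y : Set G) ⧸ Y.subgroupOf (centralizer (Y : Set G)))
      (Q : Subgroup (centralizer ({z'} : Set _))) (_ : Q.Normal),
      IsExtraspecialCentralizerSetting z' Q w ∧ Nonempty (centralizer ({z'} : Set _) ⧸ Q ≃* T) := by
  obtain ⟨π, Ov, M, -, y, rfl, hy, h, hh, e⟩ := h
  have hz : z ∈ centralizer (zpowers y : Set G) :=
    mem_cent_zp.2 (mem_cent_pair.1 (hY (mem_zpowers y))).1.symm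
  have hyp : y ^ p = 1 := by rw [← hc, Nat.card_zpowers, pow_orderOf_eq_one]
  have := M.odd_normal hp hyp hz
  obtain ⟨h1, e', -⟩ := M.odd_setting hp hyp hy (by
    rw [← prmHom_apply, ← map_pow, ← h0, pow_orderOf_eq_one, map_one]) D hz
    ⟨h, hh, e ▸ hs, fun a => hne (by rw [← e, a, mul_inv_cancel_right])⟩
  exact ⟨_, _, this, h1, ⟨e'⟩⟩

theorem fischer_of {D T : Type*} [Group D] [Group T] {Q : Subgroup D} [Q.Normal] (e : D ⧸ Q ≃* T)
    {N M : Subgroup T} [N.Normal] [M.Normal] (h1 : N ≤ M) (h2 : Nat.card N = 3) {U : Type*}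
    [Group U] (f : M ⧸ N.subgroupOf M ≃* U) (h3 : M.index = 2) :
    ∃ (N M : Subgroup D) (_ : N.Normal) (_ : M.Normal), Q ≤ N ∧ N ≤ M ∧
      Nat.card N = 3 * Nat.card Q ∧ Nonempty (M ⧸ N.subgroupOf M ≃* U) ∧ M.index = 2 := by
  let ρ : D →* T := e.toMonoidHom.comp (QuotientGroup.mk' Q)
  have hρ : Function.Surjective ρ := e.surjective.comp (QuotientGroup.mk'_surjective Q)
  have hk : ρ.ker = Q := Subgroup.ext fun x =>
    (map_eq_one_iff _ e.injective).trans (QuotientGroup.eq_one_iff x)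
  have hQ : Q ≤ N.comap ρ := hk ▸ ker_le_comap ρ N
  refine ⟨N.comap ρ, M.comap ρ, inferInstance, inferInstance, hQ, comap_mono h1, ?_, ?_,
    (index_comap_of_surjective M hρ).trans h3⟩
  · rw [← Core.card_map_mul_card_inf_ker ρ, map_comap_eq_self_of_surjective hρ, h2, hk,
      inf_eq_left.2 hQ]
  · obtain ⟨e', -⟩ := exists_quot_equiv (θ := MonoidHom.id (M.comap ρ)) Function.surjective_id
      (Q := (N.comap ρ).subgroupOf (M.comap ρ))
      (τ := (QuotientGroup.mk' (N.subgroupOf M)).comp (ρ.subgroupComap M))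
      ((QuotientGroup.mk'_surjective _).comp (ρ.subgroupComap_surjective_of_surjective M hρ))
      fun l => QuotientGroup.eq_one_iff _
    exact ⟨e'.trans f⟩

end Cfsg.Lib.Leech
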