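import Cfsg.Agent.Lib.Mon.Lat2
import Cfsg.Agent.Lib.Linear.SmallIso

/-! The centralizer in `Co0` of an element of order 7 of `M24`. -/

namespace Cfsg.Lib.Leech.S7

open Subgroup MulAction Golay

set_option exponentiation.threshold 20000
set_option maxRecDepth 100000

/-- an element of order 7 of `M21`. -/
def g7 : ℕ := 0x1703121114020f0d090b0a07150c041316050e0810060100
/-- its inverse. -/
def gi : ℕ := 0x17070b13081514031105100a0e0d0f040c02060916120100
/-- centralizes `g7`. -/
def c3 : ℕ := 0x0014100e050d0b0f1516090803041206130c0702110a1701
/-- centralizes `g7`. -/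
def c2 : ℕ := 0x17160f0e05090b1015140d0c110a12060708130203040001
/-- basis of the fixed classes. -/
def Bc (j : ℕ) : ℕ := ent 192 (2 ^ 192 - 1) 0xc080808080808080808080808080808080808080808080c0909070909070909090709090709090909070709090707050707070909070907090707070707090907070709070707050c080808080808080808080808080808080808080808040807070707070707070707070707070707070707070707070b08080808080808080808080808080808080808080808040c j
/-- table of the fixed classes. -/
def Tb (e : ℕ) : ℕ := ent 192 (2 ^ 192 - 1) 0x9090709090709090907090907090909090707090907070d08080a0a0a0a0a080a0a08080a080a0a080a0a0a080a0a0a0909070909070909090709090709090909070709090703090a0a08080808080a08080a0a080a08080a0808080a08040c08080806060806080608080808080606080808060808080609090909090909090909090909090909090909090909090d080808060608060806080808080806060808080608080c0a070707070707070707070707070707070707070707070b07030709070709070707090707090707070709090707090907060a08080808080a08080a0a080a08080a0808080a0808040b070907070907070709070709070707070909070709050b060a08080808080a08080a0a080a08080a0808080a080c080c08080a0a080a0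80a08080808080a0a0808080a080808060307070707070707070707070707070707070707070707070c08080a0a080a080a08080808080a0a0808080a08080c0a05090909090909090909090909090909090909090909050d050907090907090909070909070909090907070909070b0d0a0608080808080608080606080608080608080806080c080509070909070909090709090709090909070709090707090a06080808080806080806060806080806080808060808040408080a0a080a080a08080808080a0a0808080a08080c0a0b0707070707070707070707070707070707070707070b0b0c080806060806080608080808080606080808060808080a0509090909090909090909090909090909090909090909090707090707090707070907070907070707090907070905070a0a08080808080a08080a0a080a08080a0808080a080c0c09090709090709090907090907090909090707090907070506060808080808060808060608060808060808080608080808080806060806080608080808080606080808060808040a090909090909090909090909090909090909090909090d0908080806060806080608080808080606080808060808080e07070707070707070707070707070707070707070707070b0606080a0a080a060a08060608060a0a0608080a0608080a07070909090909070909070709070909070909090709090d080806080806080808060808060808080806060808060a040909070707070709070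70909070907070907070709070b0707070709090709070907070707070909070707090707070d08080808080808080808080808080808080808080808081007070709090709070907070707070909070707090707030908080808080808080808080808080808080808080808040c060a08060608060a06080a0a080a06060a0808060a08080a0b0709090909090709090707090709090709090907090909040806080806080808060808060808080806060808060a08050907070707070907070909070907070907070709070b0b0509090707090709070909090909070709090907090909070c080808080808080808080808080808080808080808080c0b0707090907090709070707070709090707070907070b0d0c08080808080808080808080808080808080808080804080c0806080806080808060808060808080806060808060a080b070909090909070909070709070909070909090709050d04080a08080a0808080a08080a080808080a0a08080a0a0c0d090707070707090707090907090707090707070907070705090907070907090709090909090707090909070909050b0408080808080808080808080808080808080808080804080d090907070907090709090909090707090909070909090704080808080808080808080808080808080808080808080c08080a08080a0808080a08080a080808080a0a08080a0604070709090909090709090707090709090709090907090d0908080a08080a0808080a08080a080808080a0a08080a0a08070709090909090709090707090709090709090907090905090909070709070907090909090907070909090709090507080808080808080808080808080808080808080808080404070707090907090709070707070709090707070907070705080808080808080808080808080808080808080808080808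 e
/-- coordinates of the norms of the generators. -/
def Sp (t : ℕ) : ℕ := app 0x252521202021202520212525212520202521212025212120073d0f25370b370e2125213718 t
/-- matrix of `g7`. -/
def Wb : ℕ := 0x0000000000000000000000000000000000000000000000000000000000000000000000000000000000000000000000000000000000000008000000000000000000000000000000000000000000000000000000000000080000000000000000000000000000000000000000000000000000080000000000000000000000000000000000000000000800000000000000000000000000000000000000000000000000000000000000000000000000000008000000000000000000000000000000000000000000000000000800000000000000000000000000000000000000000000000000000000000000000000000000000000080000000000000000000000000000080000000000000000000000000000000000000000000000000000000000000000000008000000000000000000000000000000000000000000000000000000000000000000000000000000000000000000000800000000000000000000000000000000000000000000000800000000000000000000000000000000000000000000080000000000000000000000000000000000000000000000000000000000000000000000000000000000000000000800000000000000000000000000000000000000000000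00000000000008000000000000000000000000000000000000000000000000000000000000080000000000000000000000000000000000000000000000000000000000000000000800000000000000000000000000000000000000000000000000000008000000000000000000000000000000000000000000000000000000000008000000000000000000000000000000000000000000000000000000000000000000000000000000000000000008000000000000000000000000000800000000000000000000000000000000000000000000000000000000000000000000080000000000000000000000000000000000000000000000000000000000000800000000000000000000000000000000000000000000000000000000000000000000000000000000000000000000080000000000000000000000080000000000000000000000000000000000000000000000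
/-- matrix of `x`. -/
def Wx : ℕ := 0x0000808080808000808000008000808000808080008080800000000000000000fffffffffffffffffffffffffffffffffffffffffffffff80000000000000000fffffffffffffffffffffffffffffffffffffffffffff8000000000000000000fffffffffffffffffffffffffffffffffffffffffff8000000000000000000000000000000000000000000000000000000000000080000000000000000000000fffffffffffffffffffffffffffffffffffffff8000000000000000000000000fffffffffffffffffffffffffffffffffffff800000000000000000000000000fffffffffffffffffffffffffffffffffff800000000000000000000000000000000000000000000000000000000000008000000000000000000000000000000fffffffffffffffffffffffffffffff800000000000000000000000000000000fffffffffffffffffffffffffffff800000000000000000000000000000000000000000000000000000000000008000000000000000000000000000000000000fffffffffffffffffffffffff80000000000000000000000000000000000000000000000000000000000000800000000000000000000000000000000000000000000000000000000000008000000000000000000000000000000000000000000fffffffffffffffffff800000000000000000000000000000000000000000000fffffffffffffffff800000000000000000000000000000000000000000000000000000000000008000000000000000000000000000000000000000000000000fffffffffffff800000000000000000000000000000000000000000000000000fffffffffff80000000000000000000000000000000000000000000000000000fffffffff8000000000000000000000000000000000000000000000000000000fffffff800000000000000000000000000000000000000000000000000000000fffff800000000000000000000000000000000000000000000000000000000000008000000000000000000000000000000000000000000000000000000000000080000000000000000000000000000000000000000000000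
/-- matrix of `y`. -/
def Wy : ℕ := 0x80804040404040804040808040804040804040408040bfc00000000000000000fdfdfffffffffffdfffffdfdfffdfffffdfffffffe0004040000000000000000000001fdfe01fdfffe02000001fffdfe000201fe0001fe020000000000000000fffffe01fdfdfe0001fe0000020001fe00020201fffdfe0200000000000000000201fffffffffbfdfffffdfdfc02000001fffffffe00000000000000000000000202000000000002000001fdfffdfffffe000003fe0400000000000000000000fffffdfe0201fe000202000001fffe01fffdfe01fffdfe020000000000000000000001fdfdfe01fffe01fffffe000201fffe0201fffdfe02000000000000000001fdfffffc000001fffffe020001fffffdfffbfffe000000000000000000000001fdfffffffffffe000001fe00020003fe04000002000000000000000000000001fe000000040001fffffdfdfffe0400020000000200000000000000000000000202000000000002000001fdfffdfffffdfffffbfdfc0000000000000000000000000202020201fffdfdfffffdfffdfe0001fe01fffdfe02000000000000000001fdfffffffffffe000001fe0001fffbfdfc000002000000000000000000000001fdfffffffc0001fffffdfdfffdfc00020000000200000000000000000000000000020201fdfdfffdfe000002000201fffdfdfe0001fe020000000000000000020203fffffffffe03fffe01fffdfffffe0000000200000000000000000000000201fbfffffffffdfbfffe01fffdfffffe00000002000000000000000000000002020000000003fdfffffdfe0402000001fffffffe0000000000000000000000fffffdfe01fe02000201fffffe0001fe0001fdfe0001fe02000000000000000001fe000004000001fffffe020001fffffe0003fffe000000000000000000000001fe0003fffffffe00040201fffe000001fffffffe0000000000000000000000fffffe01fe02020001fdfffffdfffe01fffe01fe0001fe02000000000000000001fdfffbfffffffdfffc0201fffe000001fffffffe0000000000000000000000fdfdfffffffffffdfffffdfdfffdfffffdfffffffdfffbfc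
/-- matrix of an involution inverting `g7`. -/
def Wn : ℕ := 0x0000404040404000404000004000404000404040004041400000000000000000fffffdfdfdfdfdfffdfdfffffdfffdfdfffdfdfdfffdfdfe0000000000000000000001fdfe01fdfffe02000001fffdfe000201fe000201fe000000000000000000000202020201fffdfdfffffdfffdfe0001fe01fffe01fe0000000000000000020200000000000200000201fffa000002000000020000000000000000000000fffffe0201fe01fffe02000001fffdfdfffe02020001fdfe0000000000000000fffffdfe0201fe000202000001fffe01fffdfe01fffe01fe00000000000000000000020201fdfdfffdfe000002000201fffdfdfe000201fe00000000000000000202000000000002000002020001fffffa000000020000000000000000000000fffffe020201fdfffe01fffffe000202000201fdfffdfdfe000000000000000000000201fdfe02000202000001fffe020001fdfdfffdfdfe00000000000000000202000000000002000002020002000001fffffffa0000000000000000000000fffffe01fdfdfe0001fe0000020001fe00020201fffe01fe000000000000000001fa0000000000020000020200020000020000000200000000000000000000000201fffffffffffa000002020002000002000000020000000000000000000000000001fdfdfe01fffe01fffffe000201fffe0201fffe01fe0000000000000000000001fe0202020001fe0000020001fdfffe01fdfffdfdfe00000000000000000202000000000001fffffa02000200000200000002000000000000000000000000000201fe01fe000201fffffe0001fdfffdfe020001fdfe0000000000000000fffffe01fe02020001fdfffffdfffe01fffe01fe000201fe0000000000000000000001fe01fdfe0001fdfffffdfffe02000202020001fdfe0000000000000000fffffdfdfe0201fffdfe0000020002020001fe020001fdfe0000000000000000fffffdfe01fe02000201fffffe0001fe0001fdfe000201fe00000000000000000202000000000002000001fa0002000002000000020000000000000000000000fa0200000000000200000202000200000200000002000000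
/-- the letters. -/
noncomputable def WW (x : ℕ) : ℕ :=
  bif' (Nat.beq x 0) Wb (bif' (Nat.beq x 1) Wx (bif' (Nat.beq x 2) Wy Wn))

theorem in7 : gc.InH M24 g7 := inH_of_inM24 (by decide +kernel)
theorem ini : gc.InH M24 gi := inH_of_inM24 (by decide +kernel)
theorem in3 : gc.InH M24 c3 := inH_of_inM24 (by decide +kernel)
theorem in2 : gc.InH M24 c2 := inH_of_inM24 (by decide +kernel)

/-- the element of order 7 of `M24`. -/
noncomputable def s7 : M24 := ⟨_, in7.2⟩

theorem fix7 {p : GolayPt} (h : gc.dec g7 p = p) : p = none ∨ p = some 0 ∨ p = some 1 := by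
  have h1 := in7.1.dec_pt (gc.idx_lt p)
  rw [gc.pt_idx, h] at h1
  clear h; revert h1; revert p; decide +kernel

theorem ev {g : ℕ} (hg : gc.Valid g) (p : GolayPt) : gc.dec g p = gc.pt (app g (gc.idx p)) := by
  rw [← hg.dec_pt (gc.idx_lt p), gc.pt_idx]

theorem f7 : gc.dec g7 none = none ∧ gc.dec g7 (some 0) = some 0 ∧ gc.dec g7 (some 1) = some 1 := by
  simp only [ev in7.1]; decide +kernel

theorem card_C7 : Nat.card ↥(M24 ⊓ centralizer {gc.dec g7}) ≤ 42 := by
  have h1 : Nat.card ↥(M21 ⊓ centralizer {gc.dec g7}) = 7 :=
    Coding.card_centralizer gen_gM21 (fun g hg => (inH_gM21 g hg).1) in7.1 (n := 2880) card_M21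
      (M := 4093) (d := 12) (a := 46) (by decide +kernel)
  have key : ∀ g ∈ centralizer {gc.dec g7}, ∀ p, gc.dec g7 p = p →
      g p = none ∨ g p = some 0 ∨ g p = some 1 := fun g hg p hp =>
    fix7 (fix_of_comm (mem_centralizer_singleton_iff.1 hg) hp)
  have h2 := card_le_orbit_mul (K := M24 ⊓ centralizer {gc.dec g7})
    (L := (M24 ⊓ centralizer {gc.dec g7}) ⊓ stabilizer _ (none : GolayPt)) none {none, some 0, some 1}
    (fun g hg => by simpa using key g hg.2 _ f7.1) fun g hg e => ⟨hg, e⟩
  have h3 := card_le_orbit_mul (K := (M24 ⊓ centralizer {gc.dec g7}) ⊓ stabilizer _ (none : GolayPt))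
    (L := M21 ⊓ centralizer {gc.dec g7}) (some 0) {some 0, some 1}
    (fun g hg => by
      have e : g none = none := hg.2
      simpa using (key g hg.1.2 _ f7.2.1).resolve_left fun e' => by
        simpa using g.injective (e'.trans e.symm))
    fun g hg e => ⟨mem_M21.2 ⟨hg.1.1, hg.2, e, by
      have e0 : g none = none := hg.2
      rcases key g hg.1.2 _ f7.2.2 with a | a | a
      · simpa using g.injective (a.trans e0.symm)
      · exact absurd (g.injective (a.trans e.symm)) (by decide)
      · exact a⟩, hg.1.2⟩
  rw [h1] at h3
  rw [show ({none, some 0, some 1} : Finset GolayPt).card = 3 by decide] at h2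
  rw [show ({some 0, some 1} : Finset GolayPt).card = 2 by decide] at h3
  omega

theorem inv7 : (gc.dec g7)⁻¹ = gc.dec gi :=
  inv_eq_of_mul_eq_one_right (by
    rw [← in7.1.dec_mul ini.1, ← Coding.dec_one]; exact congrArg _ (by decide +kernel))

theorem not_real21 {t : Equiv.Perm GolayPt} (ht : t ∈ M21) : t * gc.dec g7 * t⁻¹ ≠ (gc.dec g7)⁻¹ := by
  intro e
  obtain ⟨mem, _, L, h1, -, h2⟩ := Coding.bfsH_gen gc.conjCode (gs := gM21) (conjN gc.n)
    (fun g hg => (inH_gM21 g hg).1.impl_conj) (M := 4093) (d := 12) (a := 46) (x0 := g7) in7.1
    (k := fun mem _ => bif' (mem gi) false true) (by decide +kernel)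
  rw [(h2 gi ini.1).2 (mem_orbit_toCj.2 ⟨t, gen_gM21 ▸ ht, e.trans inv7⟩)] at h1
  exact absurd h1 (by decide)

theorem comm7 {g : ℕ} (hg : gc.Valid g) (h : mulN 24 g g7 = mulN 24 g7 g) :
    gc.dec g * gc.dec g7 = gc.dec g7 * gc.dec g := by
  rw [← hg.dec_mul in7.1, ← in7.1.dec_mul hg]; exact congrArg _ h

theorem not_real {t : Equiv.Perm GolayPt} (ht : t ∈ M24) : t * gc.dec g7 * t⁻¹ ≠ (gc.dec g7)⁻¹ := by
  have key : ∀ t, t * gc.dec g7 * t⁻¹ = (gc.dec g7)⁻¹ → ∀ p, gc.dec g7 p = p →
      t p = none ∨ t p = some 0 ∨ t p = some 1 := fun t e p hp => fix7 (by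
    rw [eq_comm, ← Equiv.Perm.inv_eq_iff_eq, ← e]; simp [hp])
  have mul : ∀ c t, c * gc.dec g7 = gc.dec g7 * c → t * gc.dec g7 * t⁻¹ = (gc.dec g7)⁻¹ →
      c * t * gc.dec g7 * (c * t)⁻¹ = (gc.dec g7)⁻¹ := fun c t h e => by
    rw [show c * t * gc.dec g7 * (c * t)⁻¹ = c * (t * gc.dec g7 * t⁻¹) * c⁻¹ by group, e,
      (Commute.inv_right h).eq, mul_inv_cancel_right]
  have k2 : ∀ t ∈ M24, t none = none → t (some 0) = some 0 →
      t * gc.dec g7 * t⁻¹ ≠ (gc.dec g7)⁻¹ := fun t ht e0 e1 e =>
    not_real21 (mem_M21.2 ⟨ht, e0, e1, by
      rcases key t e _ f7.2.2 with a | a | a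
      · simpa using t.injective (a.trans e0.symm)
      · exact absurd (t.injective (a.trans e1.symm)) (by decide)
      · exact a⟩) e
  have k1 : ∀ t ∈ M24, t none = none → t * gc.dec g7 * t⁻¹ ≠ (gc.dec g7)⁻¹ := fun t ht e0 e => by
    rcases key t e _ f7.2.1 with a | a | a
    · simpa using t.injective (a.trans e0.symm)
    · exact k2 t ht e0 a e
    · refine k2 _ (mul_mem in2.2 ht) ?_ ?_ (mul _ _ (comm7 in2.1 (by decide +kernel)) e)
      · rw [Equiv.Perm.mul_apply, e0, ev in2.1]; decide +kernel
      · rw [Equiv.Perm.mul_apply, a, ev in2.1]; decide +kernel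
  intro e
  have h3 := comm7 in3.1 (by decide +kernel)
  rcases key t e _ f7.1 with a | a | a
  · exact k1 t ht a e
  · refine k1 _ (mul_mem in3.2 (mul_mem in3.2 ht)) ?_ (mul _ _ h3 (mul _ _ h3 e))
    rw [Equiv.Perm.mul_apply, Equiv.Perm.mul_apply, a, ev in3.1, ev in3.1]; decide +kernel
  · refine k1 _ (mul_mem in3.2 ht) ?_ (mul _ _ h3 e)
    rw [Equiv.Perm.mul_apply, a, ev in3.1]; decide +kernel

theorem not_real_Mono {k : Co0} (hk : k ∈ Mono) : k * prm s7 * k⁻¹ ≠ (prm s7)⁻¹ := by
  intro e
  obtain ⟨c, hc, τ, rfl⟩ := exists_sgn_prm hk
  have := (comm_sgn_prm (σ := s7) (τ := τ) (hc := hc) (i := -1) (by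
    rw [zpow_neg_one, ← prmHom_apply s7⁻¹, map_inv, prmHom_apply, ← e, inv_mul_cancel_right])).2
  rw [zpow_neg_one] at this
  exact not_real τ.2 (mul_inv_eq_iff_eq_mul.2 (congrArg Subtype.val this))

theorem ib : Impl (prm s7) Wb := impl_prm in7 (by decide +kernel)

/-- the letters. -/
noncomputable def gg (x : ℕ) : Co0 := if x = 0 then prm s7 else elt (WW x)

theorem ig : ∀ x < 4, Impl (gg x) (WW x) := by
  intro x hx
  interval_cases x
  · exact ib
  all_goals exact impl_elt (by decide +kernel)

theorem hB : ∀ j < 6, shB (Bc j) = true := by decide +kernel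

theorem sep {v w : leechLattice} : Cg (prm s7 • v) v → Cg (prm s7 • w) w →
    lab Bc 6 v = lab Bc 6 w → Cg v w :=
  sep_of_spanB (p := 7) (S := Sp) ib rfl hB (by decide +kernel)

theorem hT : ∀ e < 2 ^ 6, tabB Wb Bc 6 Tb e = true := by decide +kernel

theorem b7 : prm s7 ^ 7 = 1 := by
  simpa [gg, pow_succ, mul_assoc] using eq_of_eqW ig (w := [0, 0, 0, 0, 0, 0, 0]) (w' := [])
    (by decide +kernel)

theorem ord7 : orderOf s7 = 7 := by
  have := Fact.mk (by norm_num : Nat.Prime 7)
  refine orderOf_eq_prime (prm_injective (by rw [← prmHom_apply, map_pow, prmHom_apply, b7, prm_one]))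
    fun e => ?_
  have h1 := congrArg (fun s : M24 => s.1 (some 2)) e
  simp only [s7, ev in7.1] at h1
  revert h1; decide +kernel

theorem cx : gg 1 ∈ centralizer ({prm s7} : Set Co0) := mem_centralizer_singleton_iff.2 (by
  simpa [gg] using eq_of_eqW ig (w := [1, 0]) (w' := [0, 1]) (by decide +kernel))
theorem cy : gg 2 ∈ centralizer ({prm s7} : Set Co0) := mem_centralizer_singleton_iff.2 (by
  simpa [gg] using eq_of_eqW ig (w := [2, 0]) (w' := [0, 2]) (by decide +kernel))
theorem nb : gg 3 * prm s7 * (gg 3)⁻¹ = (prm s7)⁻¹ := by
  rw [mul_inv_eq_iff_eq_mul, eq_inv_mul_iff_mul_eq]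
  simpa [gg] using eq_of_eqW ig (w := [0, 3, 0]) (w' := [3]) (by decide +kernel)

theorem re : Rep (e8C 23) (e8 none) := rep_e8 none

theorem four_eq : four Tb 6 = {26, 38, 23, 60, 49, 43, 13, 62, 48, 47, 17, 33, 14, 31} := by
  decide +kernel

theorem lab_w {w : List ℕ} {e : ℕ} (hw : ∀ x ∈ w, x < 4) (h : sigN Bc 6 (evW WW w (e8C 23)) = e) :
    lab Bc 6 ((w.map gg).prod • e8 none) = e :=
  ((rep_evW ig hw _ _ re (sqNorm_e8 _).le).lab hB).trans h

theorem U1 : ∀ e ∈ ({26, 38, 23, 60, 49, 43, 13} : Finset ℕ),
    ∃ k ∈ centralizer ({prm s7} : Set Co0), lab Bc 6 (k • e8 none) = e := by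
  have key : ∀ e ∈ ({26, 38, 23, 60, 49, 43, 13} : Finset ℕ), ∃ j < 7,
      sigN Bc 6 (evW WW (List.replicate j [1, 2]).flatten (e8C 23)) = e := by decide +kernel
  intro e he
  obtain ⟨j, hj, h⟩ := key e he
  refine ⟨_, ?_, lab_w (by clear h; revert j; decide) h⟩
  refine list_prod_mem fun x hx => ?_
  simp only [List.mem_map, List.mem_flatten, List.mem_replicate] at hx
  obtain ⟨a, ⟨_, ⟨-, rfl⟩, ha⟩, rfl⟩ := hx
  simp only [List.mem_cons, List.not_mem_nil, or_false] at ha
  rcases ha with rfl | rfl
  exacts [cx, cy]

theorem U2 : ∀ e ∈ ({62, 48, 47, 17, 33, 14, 31} : Finset ℕ),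
    ∃ k ∈ centralizer ({prm s7} : Set Co0), lab Bc 6 ((k * gg 3) • e8 none) = e := by
  have key : ∀ e ∈ ({62, 48, 47, 17, 33, 14, 31} : Finset ℕ), ∃ j < 7,
      sigN Bc 6 (evW WW ((List.replicate j [1, 2]).flatten ++ [3]) (e8C 23)) = e := by decide +kernel
  intro e he
  obtain ⟨j, hj, h⟩ := key e he
  have := lab_w (by clear h; revert j; decide) h
  rw [List.map_append, List.prod_append, List.map_singleton, List.prod_singleton] at this
  refine ⟨_, ?_, this⟩
  refine list_prod_mem fun x hx => ?_
  simp only [List.mem_map, List.mem_flatten, List.mem_replicate] at hx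
  obtain ⟨a, ⟨_, ⟨-, rfl⟩, ha⟩, rfl⟩ := hx
  simp only [List.mem_cons, List.not_mem_nil, or_false] at ha
  rcases ha with rfl | rfl
  exacts [cx, cy]

theorem cg_inv {k : Co0} (hk : k * prm s7 * k⁻¹ = (prm s7)⁻¹) :
    Cg (prm s7 • k • e8 none) (k • e8 none) := by
  have h1 := ((cg_e8 s7).smul k).smul (prm s7)
  rw [← mul_smul k, mul_inv_eq_iff_eq_mul.1 hk, mul_smul, smul_inv_smul] at h1
  exact h1.symm

theorem inv_mul {k : Co0} (hk : k ∈ centralizer ({prm s7} : Set Co0)) :
    k * gg 3 * prm s7 * (k * gg 3)⁻¹ = (prm s7)⁻¹ := by
  rw [show k * gg 3 * prm s7 * (k * gg 3)⁻¹ = k * (gg 3 * prm s7 * (gg 3)⁻¹) * k⁻¹ by group, nb,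
    (Commute.inv_right (mem_centralizer_singleton_iff.1 hk)).eq, mul_inv_cancel_right]

theorem lab_four {v : leechLattice} (hv : Cg (prm s7 • v) v) (h : sqNorm (v : GolayPt → ℤ) = 64) :
    lab Bc 6 v ∈ ({26, 38, 23, 60, 49, 43, 13} : Finset ℕ) ∨
      lab Bc 6 v ∈ ({62, 48, 47, 17, 33, 14, 31} : Finset ℕ) := by
  have := lab_mem_four ib hB hT sep hv h
  rw [four_eq] at this
  generalize lab Bc 6 v = e at this
  revert e; simp

/-- every fixed class of type 4 is the image of the standard one under the normalizer. -/
theorem four_conj {v : leechLattice} (hv : Cg (prm s7 • v) v) (h : sqNorm (v : GolayPt → ℤ) = 64) :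
    ∃ k : Co0, (k * prm s7 * k⁻¹ = prm s7 ∨ k * prm s7 * k⁻¹ = (prm s7)⁻¹) ∧ Cg (k • e8 none) v := by
  rcases lab_four hv h with a | a
  · obtain ⟨k, hk, e⟩ := U1 _ a
    exact ⟨k, Or.inl (mul_inv_eq_iff_eq_mul.2 (mem_centralizer_singleton_iff.1 hk)),
      sep ((cg_e8 _).cent hk) hv e⟩
  · obtain ⟨k, hk, e⟩ := U2 _ a
    exact ⟨_, Or.inr (inv_mul hk), sep (cg_inv (inv_mul hk)) hv e⟩

theorem lab_cent {k : Co0} (hk : k ∈ centralizer ({prm s7} : Set Co0)) :
    lab Bc 6 (k • e8 none) ∈ ({26, 38, 23, 60, 49, 43, 13} : Finset ℕ) := by
  refine (lab_four ((cg_e8 _).cent hk) (by rw [sqNorm_smul, sqNorm_e8])).resolve_right fun a => ?_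
  obtain ⟨l, hl, e⟩ := U2 _ a
  have := (sep (cg_inv (inv_mul hl)) ((cg_e8 _).cent hk) e).smul k⁻¹
  rw [inv_smul_smul, ← mul_smul, ← mul_assoc] at this
  exact not_real_Mono this (inv_mul (mul_mem (inv_mem hk) hl))

theorem ordb : orderOf (prm s7) = 7 := (orderOf_injective prmHom prm_injective s7).trans ord7

theorem odd7 : ∃ τ : centralizer ({prm s7} : Set Co0) →* Matrix.SpecialLinearGroup (Fin 3) (ZMod 2),
    OddData (prm s7) 3 τ := by
  have hs : IsSimpleGroup (Matrix.SpecialLinearGroup (Fin 3) (ZMod 2)) :=
    Linear.sl_isSimpleGroup_of_card_two (by simp) (by simp)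
  have hc : Nat.card (Matrix.SpecialLinearGroup (Fin 3) (ZMod 2)) = 168 := Linear.card_SL_three_two
  obtain ⟨φ, hx, -⟩ := Linear.exists_hom_SL32 (G := centralizer ({prm s7} : Set Co0))
    (x := ⟨_, cx⟩) (y := ⟨_, cy⟩)
    (Subtype.ext (by simpa using eq_of_eqW ig (w := [1, 1]) (w' := []) (by decide +kernel)))
    (Subtype.ext (by
      simpa [pow_succ, mul_assoc] using eq_of_eqW ig (w := [2, 2, 2]) (w' := []) (by decide +kernel)))
    (Subtype.ext (by
      simpa [pow_succ, mul_assoc] using eq_of_eqW ig (w := [1, 2, 1, 2, 1, 2, 1, 2, 1, 2, 1, 2, 1, 2])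
        (w' := []) (by decide +kernel)))
    (Subtype.ext (by
      have h3 : (gg 2)⁻¹ = gg 2 * gg 2 := inv_eq_of_mul_eq_one_right (by
        simpa using eq_of_eqW ig (w := [2, 2, 2]) (w' := []) (by decide +kernel))
      simpa [pow_succ, mul_assoc, h3] using eq_of_eqW ig
        (w := [1, 2, 1, 2, 2, 1, 2, 1, 2, 2, 1, 2, 1, 2, 2, 1, 2, 1, 2, 2]) (w' := []) (by decide +kernel)))
  obtain ⟨t1, t2, t3, t4⟩ := of_tabB ib hB (hT 1 (by norm_num))
  have mv : ¬ Cg (gg 1 • vec (Tb 1)) (vec (Tb 1)) := fun h => by
    have := h.lab_eq Bc 6
    rw [t4, (ig 1 (by norm_num) _ _ t1 t2).lab hB] at this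
    revert this; decide +kernel
  have hinj : Function.Injective ((QuotientGroup.mk' (Nb (prm s7))).comp φ) := by
    refine (MonoidHom.ker_eq_bot_iff _).1 ((MonoidHom.normal_ker _).eq_bot_or_eq_top.resolve_right
      fun e => mv ?_)
    have h1 : Linear.l32x ∈ ((QuotientGroup.mk' (Nb (prm s7))).comp φ).ker := e ▸ trivial
    rw [MonoidHom.mem_ker, MonoidHom.comp_apply, hx] at h1
    have h2 : ∀ x ∈ zpowers (prm s7), x • vec (Tb 1) = vec (Tb 1) := fun x hx =>
      (zpowers_le_of_mem (H := stabilizer Co0 _) t3) hx
    rcases (QuotientGroup.eq_one_iff _).1 h1 with a | a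
    · rw [h2 _ a]; exact Cg.refl _
    · have := h2 _ a
      rw [mul_smul, negOne_smul, neg_eq_iff_eq_neg] at this
      rw [this]; exact Cg.neg _
  obtain ⟨τ, h1, h2, -⟩ := exists_tau_of_hom (by rw [ordb]) _ hinj (by
    refine (card_cent_le in7 sep _ fun k => lab_cent).trans ?_
    have := card_C7
    rw [ordb, hc, show fixCw g7 = 8 by decide +kernel,
      show ({26, 38, 23, 60, 49, 43, 13} : Finset ℕ).card = 7 by decide]
    omega)
  exact ⟨τ, h1, h2, faith_of_simple h1 h2 cx t3 mv,
    reps_of_tab (d := 6) (f := fun e => vec (Tb e)) sep fun e he => (of_tabB ib hB (hT e he)).2.2,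
    pCore_eq_bot_of_simple (by rw [hc]; norm_num)⟩

end Cfsg.Lib.Leech.S7
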