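import Cfsg.Agent.Lib.Mon.S7
import Cfsg.Agent.Lib.Mon.Grp2
import Cfsg.Agent.Lib.Mon.Red
import Cfsg.Agent.Lib.Mon.Q3

/-! The centralizer of an element of order 7 in a group of Monster type. -/

namespace Cfsg.Lib.Leech

open Subgroup MulAction Spor Golay S7 Cfsg.Lib.Mon Cfsg.Lib.Known2 Cfsg.Lib.Core Cfsg.Lib.Amalg

theorem S7.sgn_move {v : leechLattice} (hv : Cg (prm s7 • v) v) (h : sqNorm (v : GolayPt → ℤ) = 64)
    (h1 : Cg (sgn (om (qrM 0)) (om_qrM_mem (by norm_num)) • v) v ∨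
      Cg (sgn (om (qrM 0)) (om_qrM_mem (by norm_num)) • v) (v + e8 none)) : Cg v (e8 none) := by
  have h2 := lab_mem_four ib hB hT sep hv h
  obtain ⟨t1, -, t3, t4⟩ := of_tabB ib hB (hT _ (lab_lt Bc 6 v))
  have h3 : Cg v (vec (Tb (lab Bc 6 v))) := sep hv (t3.symm ▸ Cg.refl _) t4.symm
  refine sep hv (cg_e8 _) ((?_ : _ = 26).trans ((re.lab hB).trans (by decide +kernel)).symm)
  by_contra hc
  rw [four_eq] at h2
  generalize lab Bc 6 v = e at *
  have key : ∀ e ∈ ({26, 38, 23, 60, 49, 43, 13, 62, 48, 47, 17, 33, 14, 31} : Finset ℕ), e ≠ 26 →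
      ∃ u ∈ [1, 2, 5], 2 ∣ decV (genC u) none ∧ ¬ 16 ∣ dotInt (fun i =>
        if (qrM 0).testBit (gc.idx i) = true then -decV (Tb e) i else decV (Tb e) i) (decV (genC u)) -
        dotInt (decV (Tb e)) (decV (genC u)) := by decide +kernel
  obtain ⟨u, hu, k1, k2⟩ := key e h2 hc
  obtain ⟨g1, -⟩ := rep_of_shB (shB_genC u (by clear k1 k2; revert u; decide))
  apply k2
  have h4 : 16 ∣ ip (sgn (om (qrM 0)) (om_qrM_mem (by norm_num)) • vec (Tb e)) (vec (genC u)) -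
      ip (vec (Tb e)) (vec (genC u)) := by
    rcases h1 with a | a
    · exact (((h3.symm.smul _).trans a).trans h3).ip _
    · have := (((h3.symm.smul _).trans a).trans (h3.add (Cg.refl _))).ip (vec (genC u))
      have h5 : ip (e8 none) (vec (genC u)) = 8 * decV (genC u) none := by
        rw [ip_comm, ip, dot_e8, g1.2]
      rw [ip_add_left, h5] at this
      omega
  rw [g1.2, t1.2]
  convert h4 using 3
  funext i
  rw [sgn_smul]
  simp only [Coding.mem_ofMask]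

namespace MT

variable {G : Type*} [Group G] [Finite G] {z : G} {R : Subgroup G}
  {π : centralizer ({z} : Set G) →* Co1} {Ov : leechLattice → G → Prop} (M : MT z R π Ov)
  {y : G} (hy : y ^ 7 = 1) (hb : Mt π y (prm s7))
include M hb

omit [Finite G] in
theorem cg7 {x v} (hv : Ov v x) (e : x * y = y * x) : Cg (prm s7 • v) v := by
  have := M.mt_conj hb hv
  rw [← e, mul_inv_cancel_right] at this
  exact M.congr this hv

omit [Finite G] in
theorem core7 {g a : G} (hs : g * z * g⁻¹ ∈ R) (hne : g * z * g⁻¹ ≠ z)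
    (hv : Ov (e8 none) (g * z * g⁻¹)) (ha : a ∈ R) (ha' : a ∈ cj g R) (e : a * y = y * a)
    (hc : IsConj z a) : a = z ∨ a = g * z * g⁻¹ ∨ a = g * z * g⁻¹ * z := by
  refine or_iff_not_imp_left.2 fun h1 => ?_
  obtain ⟨g', rfl⟩ := isConj_iff.1 hc
  obtain ⟨v, h2, h3⟩ := M.type_four ha h1
  obtain ⟨u, hu, b⟩ := mem_img.1 (M.img_B hs hne hv ▸
    sgn_mem_Sgn (om (qrM 0)) (om_qrM_mem (by norm_num)))
  have h4 := M.mt_conj b h2
  have h5 : Cg v (e8 none) := sgn_move (M.cg7 hb h2 e) h3 (by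
    rcases (M.es.conj g).comm u hu.2 _ ha' with c | c <;> rw [c] at h4
    · rw [mul_inv_cancel_right] at h4; exact Or.inl (M.congr h4 h2)
    · rw [mul_assoc _ _ u⁻¹, ← (M.es.conj g).cen _ (inv_mem hu.2), ← mul_assoc,
        mul_inv_cancel_right] at h4
      exact Or.inr (M.congr h4 (M.mul h2 hv)))
  obtain ⟨w, hw⟩ := h5.symm
  exact M.eq_or hv (M.of_congr h2 hw)

include hy

theorem lift7 {x v} (hv : Ov v x) (e : x * y = y * x) (h : sqNorm (v : GolayPt → ℤ) = 64) :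
    ∃ l ∈ centralizer ({z} : Set G), (l * y * l⁻¹ = y ∨ l * y * l⁻¹ = y⁻¹) ∧
      Ov (e8 none) (l⁻¹ * x * l⁻¹⁻¹) := by
  obtain ⟨k, hk, ⟨w, hw⟩⟩ := four_conj (M.cg7 hb hv e) h
  obtain ⟨l, h1, h2⟩ : ∃ l, Mt π l k ∧ (l * y * l⁻¹ = y ∨ l * y * l⁻¹ = y⁻¹) := by
    rcases hk with a | a
    · obtain ⟨l, h1, h2⟩ := M.odd_lift (p := 7) (by decide) hy hy hb hb a
      exact ⟨l, h1, Or.inl h2⟩
    · obtain ⟨l, h1, h2⟩ := M.odd_lift (p := 7) (by decide) hy (by rw [inv_pow, hy, inv_one]) hb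
        hb.inv a
      exact ⟨l, h1, Or.inr h2⟩
  have := M.mt_conj h1.inv (M.of_congr hv hw)
  rw [inv_smul_smul] at this
  exact ⟨l, h1.1, h2, this⟩

omit M hy hb [Finite G] in
theorem comm_conj {l x : G} (hl : l * y * l⁻¹ = y ∨ l * y * l⁻¹ = y⁻¹) (e : x * y = y * x) :
    (l * x * l⁻¹ * y = y * (l * x * l⁻¹)) ∧ l⁻¹ * x * l⁻¹⁻¹ * y = y * (l⁻¹ * x * l⁻¹⁻¹) := by
  have h1 : Commute x (l * y * l⁻¹) := by
    rcases hl with a | a <;> rw [a]
    exacts [e, Commute.inv_right e]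
  have h2 : Commute (l * x * l⁻¹) (l * y * l⁻¹) := by
    rw [Commute, SemiconjBy, conj_mul, conj_mul, e]
  constructor
  · rcases hl with a | a <;> rw [a] at h2
    exacts [h2, Commute.inv_right_iff.1 h2]
  · calc _ = l⁻¹ * (x * (l * y * l⁻¹)) * l := by group
      _ = _ := by rw [h1]; group

theorem q3G {g a : G} (hs : g * z * g⁻¹ ∈ R) (hne : g * z * g⁻¹ ≠ z)
    (e0 : g * z * g⁻¹ * y = y * (g * z * g⁻¹)) (ha : a ∈ R) (ha' : g⁻¹ * a * g ∈ R)
    (e : a * y = y * a) (hc : IsConj z a) : a = z ∨ a = g * z * g⁻¹ ∨ a = g * z * g⁻¹ * z := by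
  obtain ⟨v, h2, h3⟩ := M.type_four hs hne
  obtain ⟨l, hl, h4, h5⟩ := M.lift7 hy hb h2 e0 h3
  have h6 : l⁻¹ * z * l⁻¹⁻¹ = z := by
    rw [mem_centralizer_singleton_iff.1 (inv_mem hl), mul_inv_cancel_right]
  have h7 : l⁻¹ * (g * z * g⁻¹) * l⁻¹⁻¹ = l⁻¹ * g * z * (l⁻¹ * g)⁻¹ := by group
  have inj : ∀ a b : G, l⁻¹ * a * l⁻¹⁻¹ = l⁻¹ * b * l⁻¹⁻¹ → a = b := fun a b h =>
    mul_left_cancel (mul_right_cancel h)
  rw [h7] at h5
  have := M.core7 hb (a := l⁻¹ * a * l⁻¹⁻¹) (M.mem h5) (fun c => hne (inj _ _ (by rw [h7, c, h6]))) h5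
    (M.conj_mem (inv_mem hl) ha) (mem_cj.2 (by convert ha' using 1; group)) (comm_conj h4 e).2
    (hc.trans (isConj_iff.2 ⟨_, rfl⟩))
  refine this.imp (fun c => inj _ _ (c.trans h6.symm)) (Or.imp (fun c => inj _ _ (c.trans h7.symm))
    fun c => inj _ _ (c.trans ?_))
  rw [← h7]; nth_rw 2 [← h6]; rw [conj_mul]

theorem conj7 {h : G} (hh : h * y = y * h) (hv : Ov (e8 none) (h * z * h⁻¹)) {x v} (hx : Ov v x)
    (e : x * y = y * x) (h64 : sqNorm (v : GolayPt → ℤ) = 64) :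
    ∃ c, c * y = y * c ∧ c * z * c⁻¹ = x := by
  have hz : z * y = y * z := (mem_centralizer_singleton_iff.1 hb.1).symm
  have hsy : h * z * h⁻¹ * y = y * (h * z * h⁻¹) :=
    ((Commute.mul_left (Commute.mul_left hh hz) (Commute.inv_left hh))).eq
  obtain ⟨s1, sz⟩ := M.ne_of_short hv (Or.inr (Or.inr (sqNorm_e8 _)))
  obtain ⟨l, hl, h4, h5⟩ := M.lift7 hy hb hx e h64
  obtain ⟨c, c1, c2⟩ : ∃ c, c * y = y * c ∧ c * z * c⁻¹ = l⁻¹ * x * l⁻¹⁻¹ := by
    rcases M.eq_or hv h5 with a | a <;> rw [a]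
    · exact ⟨h, hh, rfl⟩
    · obtain ⟨r, hr, r1, r2⟩ : ∃ r ∈ R, r * y = y * r ∧ h * z * h⁻¹ * r ≠ r * (h * z * h⁻¹) := by
        by_contra hn
        push Not at hn
        exact (M.odd_cen (p := 7) (by decide) hy hb b7 (M.mem hv) hsy hn).elim s1 sz
      exact ⟨r * h, (Commute.mul_left r1 hh).eq, by
        rw [← M.es.conj_anti hr (M.mem hv) (Ne.symm r2)]; group⟩
  refine ⟨l * c * l⁻¹, (comm_conj h4 c1).1, ?_⟩
  rw [mul_assoc _ l⁻¹ z, mem_centralizer_singleton_iff.1 (inv_mem hl)]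
  calc _ = l * (c * z * c⁻¹) * l⁻¹ := by group
    _ = _ := by rw [c2]; group

theorem count7 {h : G} (hh : h * y = y * h) (hv : Ov (e8 none) (h * z * h⁻¹)) :
    {x : G | x ∈ R ∧ ∃ c, c * y = y * c ∧ c * z * c⁻¹ = x}.ncard = 29 := by
  choose L hL using M.ex_x
  have hz : z * y = y * z := (mem_centralizer_singleton_iff.1 hb.1).symm
  have tab : ∀ e : four Tb 6, prm s7 • vec (Tb e) = vec (Tb e) ∧ lab Bc 6 (vec (Tb e)) = e ∧
      sqNorm (vec (Tb e) : GolayPt → ℤ) = 64 := fun e => by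
    obtain ⟨a, b⟩ := Finset.mem_filter.1 e.2
    obtain ⟨t1, -, t3, t4⟩ := of_tabB ib hB (hT _ (Finset.mem_range.1 a))
    rw [dotB_iff, dotInt_self, t1.2] at b
    exact ⟨t3, t4, b⟩
  let F : four Tb 6 × Bool → G := fun p => L (vec (Tb p.1)) * if p.2 then z else 1
  have hF : ∀ p, Ov (vec (Tb p.1)) (F p) := by
    rintro ⟨e, _ | _⟩
    · simpa [F] using hL _
    · simpa [F] using M.mul_z (hL _)
  have hn : ∀ p, F p ≠ z := fun p => (M.ne_of_short (hF p) (Or.inr (Or.inr (tab _).2.2))).2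
  have hinj : Function.Injective F := by
    rintro ⟨e, a⟩ ⟨e', a'⟩ h
    obtain rfl : e = e' := Subtype.ext ((tab e).2.1.symm.trans
      ((Cg.lab_eq (M.congr (hF (e, a)) (h ▸ hF (e', a'))) Bc 6).trans (tab e').2.1))
    have := mul_left_cancel h
    have := M.es.ne
    cases a <;> cases a' <;> simp_all
  have : {x : G | x ∈ R ∧ ∃ c, c * y = y * c ∧ c * z * c⁻¹ = x} = insert z (Set.range F) := by
    ext x
    constructor
    · rintro ⟨hx, c, c1, rfl⟩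
      refine or_iff_not_imp_left.2 fun h1 => ?_
      obtain ⟨v, h2, h3⟩ := M.type_four hx h1
      have h4 := M.cg7 hb h2 (Commute.mul_left (Commute.mul_left c1 hz) (Commute.inv_left c1)).eq
      let e : four Tb 6 := ⟨_, lab_mem_four ib hB hT sep h4 h3⟩
      obtain ⟨w, hw⟩ : Cg (vec (Tb e)) v := sep ((tab e).1.symm ▸ Cg.refl _) h4 (tab e).2.1
      rcases M.eq_or (hL _) (M.of_congr h2 hw) with a | a
      · exact ⟨(e, false), by simp [F, a]⟩
      · exact ⟨(e, true), by simp [F, a]⟩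
    · rintro (rfl | ⟨p, rfl⟩)
      · exact ⟨M.es.mem, 1, by simp, by simp⟩
      · exact ⟨M.mem (hF p), M.conj7 hy hb hh hv (hF p) ((M.odd_fix (p := 7) (by decide) hy hb b7
          (M.mem (hF p))).2 ⟨_, hF p, (tab _).1⟩) (tab _).2.2⟩
  rw [this, Set.ncard_insert_of_notMem (by rintro ⟨p, e⟩; exact hn p e),
    Set.ncard_range_of_injective hinj, Nat.card_prod, Nat.card_eq_finsetCard, four_eq]
  simp

omit hb [Finite G] in
theorem lift_eq [((zpowers y).subgroupOf (centralizer (zpowers y : Set G))).Normal]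
    {a r : centralizer (zpowers y : Set G)} (ha : (a : G) * a = 1) (hr : (r : G) ∈ R)
    (e : (QuotientGroup.mk a : _ ⧸ (zpowers y).subgroupOf _) = QuotientGroup.mk r) : a = r := by
  have h1 : (a : G)⁻¹ * r ∈ zpowers y := mem_subgroupOf.1 (QuotientGroup.eq.1 e)
  have h2 : Commute (a : G) ((a : G)⁻¹ * r) := (a.2 _ h1).symm
  have h3 := h2.mul_pow 8
  rw [mul_inv_cancel_left, show 8 = 4 * 2 from rfl, pow_mul, M.pow_four hr, mul_comm 4 2, pow_mul,
    sq, sq, ha, one_mul, one_pow, one_mul] at h3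
  exact Subtype.ext (inv_mul_eq_one.1
    (odd_eq_one (p := 7) (by decide) (odd_pow_of_mem hy h1) h3.symm))

theorem held7 [((zpowers y).subgroupOf (centralizer (zpowers y : Set G))).Normal] {h : G}
    (hh : h ∈ centralizer (zpowers y : Set G)) (hv : Ov (e8 none) (h * z * h⁻¹)) :
    ∃ (z' : centralizer (zpowers y : Set G) ⧸ (zpowers y).subgroupOf _)
      (Q : Subgroup (centralizer {z'})) (_ : Q.Normal), IsExtraspecialCentralizerSetting z' Q 3 ∧
      Nonempty (_ ⧸ Q ≃* Matrix.SpecialLinearGroup (Fin 3) (ZMod 2)) ∧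
      Set.ncard {x : centralizer {z'} | x ∈ Q ∧ IsConj z' x} = 29 ∧ Q3 z' := by
  have hz : z ∈ centralizer (zpowers y : Set G) :=
    mem_cent_zp.2 (mem_centralizer_singleton_iff.1 hb.1).symm
  have hN := M.odd_normal (p := 7) (by decide) hy hz
  obtain ⟨τ, D⟩ := odd7
  obtain ⟨-, sz⟩ := M.ne_of_short hv (Or.inr (Or.inr (sqNorm_e8 _)))
  obtain ⟨hS, e, -⟩ := M.odd_setting (p := 7) (by decide) hy hb b7 D hz
    ⟨h, hh, M.mem hv, fun e => sz (mul_inv_eq_iff_eq_mul.2 e)⟩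
  have sq : ∀ c : centralizer (zpowers y : Set G),
      ((c * ⟨z, hz⟩ * c⁻¹ : centralizer (zpowers y : Set G)) : G) *
        (c * ⟨z, hz⟩ * c⁻¹ : centralizer (zpowers y : Set G)) = 1 := fun c => by
    show (c * z * (c : G)⁻¹) * (c * z * (c : G)⁻¹) = 1
    rw [conj_mul, M.es.sq]; simp
  have cjq : ∀ x, IsConj (qbar _ (zpowers y) hz) x → ∃ c : centralizer (zpowers y : Set G),
      x = QuotientGroup.mk (c * ⟨z, hz⟩ * c⁻¹) := fun x hx => by
    obtain ⟨c, rfl⟩ := isConj_iff.1 hx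
    obtain ⟨c, rfl⟩ := QuotientGroup.mk_surjective c
    exact ⟨c, rfl⟩
  refine ⟨_, _, hN, hS, ⟨e⟩, ?_, ?_⟩
  · rw [← M.count7 hy hb (mem_cent_zp.1 hh) hv]
    have mH : ∀ x, (∃ c, c * y = y * c ∧ c * z * c⁻¹ = x) → x ∈ centralizer (zpowers y : Set G) := by
      rintro _ ⟨c, hc, rfl⟩
      exact mul_mem (mul_mem (mem_cent_zp.2 hc) hz) (inv_mem (mem_cent_zp.2 hc))
    refine (Set.ncard_congr (fun x hx => qth _ (zpowers y) hz ⟨x, mH x hx.2, M.es.le_cent hx.1⟩)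
      ?_ ?_ ?_).symm
    · rintro _ ⟨hx, c, hc, rfl⟩
      exact ⟨⟨_, hx, rfl⟩, isConj_iff.2 ⟨QuotientGroup.mk ⟨c, mem_cent_zp.2 hc⟩, rfl⟩⟩
    · intro a b ha hb' e
      exact mul_inv_eq_one.1 (M.odd_inf (p := 7) (by decide) hy ((qth_eq_iff hz).1 e)
        (mul_mem ha.1 (inv_mem hb'.1)))
    · rintro _ ⟨⟨l, hl, rfl⟩, hx⟩
      obtain ⟨c, hc⟩ := cjq _ hx
      exact ⟨l, ⟨hl, c, mem_cent_zp.1 c.2,
        congrArg Subtype.val (M.lift_eq hy (sq c) (r := ⟨l, l.2.1⟩) hl hc.symm)⟩, rfl⟩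
  · have := Fact.mk Nat.prime_two
    have hO : pCore 2 _ = qQ R _ (zpowers y) hz := by
      rw [← comap_pCore_quotient _ hS.2.2.1.1.1, (pCore_eq_bot_iff_of_equiv e).2 D.two,
        MonoidHom.comap_bot, QuotientGroup.ker_mk']
    have ino : ∀ c : centralizer (zpowers y : Set G), InO (qbar _ (zpowers y) hz)
        (QuotientGroup.mk (c * ⟨z, hz⟩ * c⁻¹)) → (c : G) * z * (c : G)⁻¹ ∈ R := by
      rintro c ⟨N, n1, n2, n3, n4⟩
      have hn : (N.subgroupOf (centralizer {qbar _ (zpowers y) hz})).Normal :=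
        ⟨fun n hn d => n4 d (mem_centralizer_singleton_iff.1 d.2) n hn⟩
      obtain ⟨l, hl, e'⟩ := hO.le (le_pCore (hN := hn) n1.comap_subtype
        (show ⟨_, mem_centralizer_singleton_iff.2 (n3 _ n2)⟩ ∈ N.subgroupOf _ from n2))
      have := M.lift_eq hy (sq c) (r := ⟨l, l.2.1⟩) hl (congrArg Subtype.val e').symm
      rw [show (c : G) * z * (c : G)⁻¹ = l from congrArg Subtype.val this]; exact hl
    intro s a h1 h2 h3 h4 h5 h6
    obtain ⟨c, rfl⟩ := cjq s h1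
    obtain ⟨d, rfl⟩ := cjq a h2
    have h7 := h6.conj (QuotientGroup.mk c⁻¹)
    rw [← QuotientGroup.mk_inv, ← QuotientGroup.mk_mul, ← QuotientGroup.mk_mul,
      ← QuotientGroup.mk_mul, ← QuotientGroup.mk_mul,
      show c⁻¹ * (c * ⟨z, hz⟩ * c⁻¹) * c⁻¹⁻¹ = ⟨z, hz⟩ by group,
      show c⁻¹ * (d * ⟨z, hz⟩ * d⁻¹) * c⁻¹⁻¹ = c⁻¹ * d * ⟨z, hz⟩ * (c⁻¹ * d)⁻¹ by group] at h7
    have := M.q3G hy hb (ino c h4) (fun e => h3 (congrArg _ (Subtype.ext e)))
      (mem_cent_zp.1 (c * ⟨z, hz⟩ * c⁻¹).2) (ino d h5) (by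
        have := ino _ h7
        rw [coe_mul, coe_inv] at this
        convert this using 1; group)
      (mem_cent_zp.1 (d * ⟨z, hz⟩ * d⁻¹).2) (isConj_iff.2 ⟨_, rfl⟩)
    rw [← QuotientGroup.mk_mul]
    exact this.imp (fun e => congrArg _ (Subtype.ext e)) (Or.imp (fun e => congrArg _ (Subtype.ext e))
      fun e => congrArg _ (Subtype.ext e))

end MT

theorem held_of_monster {G : Type*} [Group G] [Finite G] {z : G}
    {Q : Subgroup (centralizer ({z} : Set G))} [Q.Normal] (hM : IsOfMonsterType z Q) {s : G}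
    (hsQ : ∃ hsc : s ∈ centralizer ({z} : Set G), (⟨s, hsc⟩ : centralizer ({z} : Set G)) ∈ Q)
    (hs : IsConj z s) (hs1 : s ≠ z) {B : Subgroup G} (hB : B ≤ centralizer ({z, s} : Set G))
    (hBp : Nat.card B = 7 ^ (Nat.card ↥(centralizer ({z, s} : Set G))).factorization 7)
    [(B.subgroupOf (centralizer (B : Set G))).Normal] :
    ∃ (z' : centralizer (B : Set G) ⧸ B.subgroupOf _)
      (Q : Subgroup (centralizer {z'})) (_ : Q.Normal), IsExtraspecialCentralizerSetting z' Q 3 ∧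
      Nonempty (_ ⧸ Q ≃* Matrix.SpecialLinearGroup (Fin 3) (ZMod 2)) ∧
      Set.ncard {x : centralizer {z'} | x ∈ Q ∧ IsConj z' x} = 29 ∧ Q3 z' := by
  obtain ⟨π, Ov, g, M, rfl, hR⟩ := exists_MT hM hsQ hs
  obtain ⟨π', Ov', M', hv, y, rfl, hb, h, hh, e⟩ := M.red_sylow hR hs1 (Or.inr rfl) ord7 hB hBp
  have h1 : y ^ 7 = 1 := by
    have h2 := hb.pow 7
    rw [b7] at h2
    have h3 := M'.pow_four ((M'.mt_mem h2).2 (Or.inl rfl))
    have h4 := pow_card_eq_one' (x := (⟨y ^ 7, pow_mem (mem_zpowers y) 7⟩ : zpowers y))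
    rw [hBp] at h4
    exact odd_eq_one (Odd.pow (by decide)) (congrArg Subtype.val h4)
      (by rw [show 8 = 4 * 2 from rfl, pow_mul, h3, one_pow])
  exact M'.held7 h1 hb hh (e ▸ hv)

end Cfsg.Lib.Leech
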