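import Cfsg.Agent.Lib.Mon.Grp2
import Cfsg.Agent.Lib.Golay.Cls
import Cfsg.Agent.Lib.Fi24r.Cor
import Cfsg.Agent.S1698
import Cfsg.Agent.Lib.Layer.Quasisimple

/-! The normalizer of a 3-central subgroup in a group of Monster type. -/

namespace Cfsg.Lib.Leech

open Subgroup Spor Cfsg.Lib.Golay Cfsg.Lib.Core Cfsg.Lib.Amalg Cfsg.Lib.Layer
open scoped commutatorElement

theorem tri_real (σ : M24) (h : orderOf σ = 3) : ∃ m : M24, m * σ * m⁻¹ = σ⁻¹ := by
  have k : ∀ z m, gc.InH M24 z → gc.InH M24 m → mulN 24 z (mulN 24 m z) = m → ∀ k ∈ M24, σ.1 = k * gc.dec z * k⁻¹ → ∃ m : M24, m * σ * m⁻¹ = σ⁻¹ :=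
    fun z m hz hm e k hk a => ⟨⟨k * gc.dec m * k⁻¹, mul_mem (mul_mem hk hm.2) (inv_mem hk)⟩, Subtype.ext (by
      have := congrArg gc.dec e
      rw [show (24 : ℕ) = gc.n from rfl, hz.1.dec_mul (hm.1.mul hz.1), hm.1.dec_mul hz.1] at this
      simp only [coe_mul, coe_inv, a]
      calc _ = k * (gc.dec z)⁻¹ * (gc.dec z * (gc.dec m * gc.dec z)) * (gc.dec m)⁻¹ * k⁻¹ := by group
        _ = _ := by rw [this]; group)⟩
  rcases M24_three σ.2 ((orderOf_coe σ).trans h) with ⟨g, a, b⟩ | ⟨g, a, b⟩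
  · exact k _ 0x110f13041508170916010a0b0c0d10120607021400050e03 inH_z3A (inH_of_inM24 (by decide +kernel)) (by decide +kernel) g a b
  · exact k _ 0xe0f08100b07021416170a06130d0415120c000901110305 inH_z3B (inH_of_inM24 (by decide +kernel)) (by decide +kernel) g a b

theorem tri_syl (P : Sylow 3 M24) : 27 ∣ Nat.card P ∧ ∃ a ∈ P.1, ∃ b ∈ P.1, a * b ≠ b * a := by
  have : Fact (Nat.Prime 3) := ⟨Nat.prime_three⟩
  have l : gc.gen gS3 ≤ M24 := (closure_le _).2 fun _ ⟨g, a, b⟩ => b ▸ (inH_gS3 g a).2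
  have c : Nat.card ((gc.gen gS3).subgroupOf M24) = 3 ^ 3 := (card_subgroupOf_of_le l).trans card_S3
  obtain ⟨g, -, k⟩ := (syl_top P).exists_conj_le (IsPGroup.of_card c) le_top
  have m : ∀ x (hx : x ∈ gS3), g * ⟨_, (inH_gS3 x hx).2⟩ * g⁻¹ ∈ P.1 := fun x hx => k (conj_mem_cj g (subset_closure ⟨x, hx, rfl⟩))
  have h1 := inH_gS3 _ (List.getElem_mem (n := 0) (by decide))
  have h2 := inH_gS3 _ (List.getElem_mem (n := 2) (by decide))
  refine ⟨by have := card_dvd_of_le k; rwa [card_cj, c] at this, _, m _ (List.getElem_mem (n := 0) (by decide)), _, m _ (List.getElem_mem (n := 2) (by decide)), fun e => ?_⟩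
  have := congrArg Subtype.val (Known2.commute_conj_conj_iff.1 e)
  simp only [coe_mul] at this
  rw [← h1.1.dec_mul h2.1, ← h2.1.dec_mul h1.1] at this
  exact ((h1.1.mul h2.1).dec_inj (h2.1.mul h1.1)).1 this |> fun e => absurd e (by decide +kernel)

theorem tri_comm {P : Type*} [Group P] [Finite P] (h : Nat.card P = 27) {Y : Subgroup P} (hY : Nat.card Y = 3) (hc : Y ≤ center P) (a b : P) :
    ⁅a, b⁆ ∈ Y := by
  have : Fact (Nat.Prime 3) := ⟨Nat.prime_three⟩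
  have : Y.Normal := ⟨fun n hn g => by rwa [Subgroup.mem_center_iff.1 (hc hn) g, mul_inv_cancel_right]⟩
  have c : Nat.card (P ⧸ Y) = 3 ^ 2 := by have := card_eq_card_quotient_mul_card_subgroup Y; rw [h, hY] at this; omega
  have := (IsPGroup.isMulCommutative_of_card_eq_prime_sq c).is_comm.comm (QuotientGroup.mk' Y a) (QuotientGroup.mk' Y b)
  rw [← QuotientGroup.eq_one_iff, ← QuotientGroup.mk'_apply, map_commutatorElement, commutatorElement_eq_one_iff_mul_comm, this]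

theorem tri_loc {G : Type*} [Group G] [Finite G] {L Y : Subgroup G} {φ : L →* M24} (φ1 : Function.Surjective φ) (φ2 : IsPGroup 2 φ.ker)
    (φ3 : ∀ a b : L, a ^ 3 = 1 → b ^ 3 = 1 → ∀ t, t * φ a * t⁻¹ = φ b → ∃ l, l * a * l⁻¹ = b) (hY : Y ≤ L) (hY3 : Nat.card Y = 3)
    (hc : ∃ P : Sylow 3 L, Y.subgroupOf L ≤ (center P.1).map P.1.subtype) :
    ∃ y, Y = zpowers y ∧ orderOf y = 3 ∧ (∃ a ∈ centralizer (Y : Set G), ∃ b ∈ centralizer (Y : Set G), ⁅a, b⁆ = y) ∧ ∃ n, n * y * n⁻¹ = y⁻¹ := by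
  have : Fact (Nat.Prime 3) := ⟨Nat.prime_three⟩
  have : Fact (Nat.Prime 2) := ⟨Nat.prime_two⟩
  obtain ⟨P, hP⟩ := hc
  obtain ⟨d, ⟨_, ⟨a, a1, rfl⟩, _, ⟨b, b1, rfl⟩, n⟩⟩ := tri_syl (P.mapSurjective φ1)
  have c : Nat.card P = 27 := by
    obtain ⟨j, hj⟩ := P.isPGroup'.exists_card_eq
    have d1 := d.trans (card_map_dvd P.1 φ)
    have d2 := card_subgroup_dvd_card (P.1.map φ)
    rw [← mul_one (Nat.card (P.1.map φ)), ← card_bot (G := L), ← (IsPGroup.disjoint_of_ne 2 3 (by norm_num) _ _ φ2 P.isPGroup').eq_bot,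
      card_map_mul_card_inf_ker, card_M24] at d2
    rw [hj] at d1 d2 ⊢
    have := (Nat.pow_dvd_pow_iff_le_right (by norm_num)).1 (show 3 ^ 3 ∣ 3 ^ j from d1)
    rcases this.eq_or_lt with rfl | l
    · rfl
    · exact absurd ((pow_dvd_pow 3 l).trans d2) (by norm_num)
  have l : Y.subgroupOf L ≤ P.1 := hP.trans (map_subtype_le _)
  have m := tri_comm c (Y := (Y.subgroupOf L).subgroupOf P.1) (by rw [card_subgroupOf_of_le l, card_subgroupOf_of_le hY, hY3])
    (fun u hu => by obtain ⟨v, v1, v2⟩ := hP hu; exact Subtype.ext v2 ▸ v1) ⟨a, a1⟩ ⟨b, b1⟩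
  have cY : ∀ a ∈ P.1, a.1 ∈ centralizer (Y : Set G) := fun a ha u hu => by
    obtain ⟨v, v1, v2⟩ := hP (show (⟨u, hY hu⟩ : L) ∈ Y.subgroupOf L from hu)
    simpa [show (v.1 : L) = _ from v2] using (congrArg (fun w : P.1 => w.1.1) (Subgroup.mem_center_iff.1 v1 ⟨a, ha⟩)).symm
  have n1 : φ ⁅a, b⁆ ≠ 1 := by rwa [map_commutatorElement, Ne, commutatorElement_eq_one_iff_mul_comm]
  have m' : (⁅a, b⁆ : L).1 ∈ Y := m
  have n2 : (⁅a, b⁆ : L).1 ≠ 1 := fun e => n1 (by rw [show ⁅a, b⁆ = 1 from Subtype.ext e, map_one])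
  have p3 : (⁅a, b⁆ : L) ^ 3 = 1 := Subtype.ext (congrArg Subtype.val (hY3 ▸ pow_card_eq_one' (x := (⟨_, m'⟩ : Y)) :) :)
  obtain ⟨u, hu⟩ := tri_real (φ ⁅a, b⁆) (orderOf_eq_prime (by rw [← map_pow, p3, map_one]) n1)
  obtain ⟨w, hw⟩ := φ3 _ ⁅a, b⁆⁻¹ p3 (by rw [inv_pow, p3, inv_one]) u (hu.trans (map_inv _ _).symm)
  have o := orderOf_eq_prime (congrArg Subtype.val p3) n2
  exact ⟨_, (eq_of_le_of_card_ge (zpowers_le.2 m') (by rw [hY3, Nat.card_zpowers]; exact o.ge)).symm, o, ⟨a, cY a a1, b, cY b b1, rfl⟩, w, congrArg Subtype.val hw⟩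

theorem tri_main {G : Type*} [Group G] [Finite G] {y : G} (h3 : orderOf y = 3)
    (h1 : ∃ a ∈ centralizer (zpowers y : Set G), ∃ b ∈ centralizer (zpowers y : Set G), ⁅a, b⁆ = y) (h2 : ∃ n, n * y * n⁻¹ = y⁻¹)
    [((zpowers y).subgroupOf (centralizer (zpowers y : Set G))).Normal] [((zpowers y).subgroupOf (normalizer (zpowers y : Set G))).Normal]
    (e : centralizer (zpowers y : Set G) ⧸ (zpowers y).subgroupOf (centralizer (zpowers y : Set G)) ≃* Fi24') :
    IsQuasisimple (centralizer (zpowers y : Set G)) ∧ Nonempty (normalizer (zpowers y : Set G) ⧸ (zpowers y).subgroupOf (normalizer (zpowers y : Set G)) ≃* Fi24) := by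
  classical
  have hs := Cfsg.Agent.S1698.result
  have := hs.1
  have qs : IsQuasisimple Fi24' := isQuasisimple_of_isSimpleGroup fun c => by
    have := (Group.is_simple_iff_prime_card (α := Fi24')).1 hs.1
    rw [hs.2] at this; norm_num at this
  have yC : y ∈ centralizer (zpowers y : Set G) := mem_cent_zp.2 rfl
  have pf : commutator (centralizer (zpowers y : Set G)) = ⊤ := eq_top_iff.2 fun x _ => by
    obtain ⟨a, a1, b, b1, k⟩ := h1
    obtain ⟨c, c1, c2⟩ : e.toMonoidHom.comp (QuotientGroup.mk' _) x ∈ (commutator _).map (e.toMonoidHom.comp (QuotientGroup.mk' _)) := by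
      rw [map_commutator_eq, MonoidHom.range_eq_top.2 (e.surjective.comp (QuotientGroup.mk'_surjective _))]; exact qs.1.commutator_eq_top.ge (mem_top _)
    obtain ⟨j, hj⟩ := mem_subgroupOf.1 (QuotientGroup.eq.1 (e.injective c2))
    refine (mul_mem_cancel_left (inv_mem c1)).1 ?_
    rw [show c⁻¹ * x = ⁅(⟨a, a1⟩ : centralizer (zpowers y : Set G)), ⟨b, b1⟩⁆ ^ j from Subtype.ext (hj.symm.trans (congrArg (· ^ j) k.symm))]
    exact zpow_mem (commutator_mem_commutator (mem_top _) (mem_top _)) j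
  refine ⟨isQuasisimple_of_ker_le_center ⟨pf⟩ (e.toMonoidHom.comp (QuotientGroup.mk' _)) (e.surjective.comp (QuotientGroup.mk'_surjective _))
    (fun x hx => Subgroup.mem_center_iff.2 fun g => Subtype.ext (g.2 _ (mem_subgroupOf.1 ((QuotientGroup.eq_one_iff _).1 ((MulEquiv.map_eq_one_iff e).1 hx)))).symm) qs, ?_⟩
  have l := centralizer_le_normalizer (zpowers y : Set G)
  let ι := (QuotientGroup.mk' ((zpowers y).subgroupOf (normalizer (zpowers y : Set G)))).comp (inclusion l)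
  have r : ι.range = ((centralizer (zpowers y : Set G)).subgroupOf _).map (QuotientGroup.mk' _) := by
    rw [← MonoidHom.map_range, inclusion_range]
  have kr : ι.ker = (zpowers y).subgroupOf _ := Subgroup.ext fun x => QuotientGroup.eq_one_iff _
  refine (Fi24r.iso24 (G₀ := ι.range) ?_ ((QuotientGroup.quotientKerEquivRange ι).symm.trans ((QuotientGroup.quotientMulEquivOfEq kr).trans e)) fun n hn => ?_).1
  · rw [r, index_map_eq _ (QuotientGroup.mk'_surjective _) (by rw [QuotientGroup.ker_mk']; exact subgroupOf_mono _ (zpowers_le.2 yC)), index_eq_two_iff]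
    obtain ⟨n, hn⟩ := h2
    have y1 : y⁻¹ ≠ y := fun e => absurd (orderOf_dvd_of_pow_eq_one (x := y) (n := 2) (by rw [pow_two]; exact inv_eq_iff_mul_eq_one.1 e)) (by rw [h3]; decide)
    refine ⟨⟨n, mem_normalizer_fintype (S := zpowers y) fun u (hu : u ∈ zpowers y) => (by
      obtain ⟨j, rfl⟩ := hu; exact Set.mem_of_eq_of_mem conj_zpow.symm (zpow_mem (hn ▸ inv_mem (mem_zpowers y)) j))⟩, fun b => ?_⟩
    simp only [mem_subgroupOf, mem_cent_zp, coe_mul, ← mul_inv_eq_iff_eq_mul]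
    rw [mul_assoc b.1 n, mul_inv_rev, show b.1 * (n * y) * (n⁻¹ * b.1⁻¹) = b.1 * (n * y * n⁻¹) * b.1⁻¹ by group, hn, ← conj_inv]
    have := (mem_normalizer_iff.1 b.2 y).1 (mem_zpowers y)
    have n1 : b.1 * y * b.1⁻¹ ≠ 1 := fun e => by simp at e; simp [e] at h3
    generalize b.1 * y * b.1⁻¹ = u at *
    rw [mem_zpowers_iff_mem_range_orderOf, h3] at this
    simp only [Finset.range_add_one, Finset.range_zero, insert_empty_eq, Finset.image_insert, Finset.image_singleton, Finset.mem_insert, Finset.mem_singleton] at this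
    have y2 : y ^ 2 = y⁻¹ := eq_inv_of_mul_eq_one_left (by rw [← pow_succ]; exact orderOf_dvd_iff_pow_eq_one.1 h3.dvd)
    rcases this with rfl | rfl | rfl
    · exact .inl ⟨by rw [y2, inv_inv], by rwa [y2]⟩
    · exact .inr ⟨pow_one y, by rwa [pow_one]⟩
    · simp at n1
  · obtain ⟨n, rfl⟩ := QuotientGroup.mk'_surjective _ n
    have k : ∀ c ∈ centralizer (zpowers y : Set G), ⁅c, n.1⁆ ∈ zpowers y := fun c hc => by
      have := hn (ι ⟨c, hc⟩) ⟨_, rfl⟩
      rw [← commutatorElement_eq_one_iff_mul_comm] at this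
      exact mem_subgroupOf.1 ((QuotientGroup.eq_one_iff ⁅(⟨c, l hc⟩ : normalizer (zpowers y : Set G)), n⁆).1 this)
    let _ : CommGroup (zpowers y) := IsCyclic.commGroup
    let f : centralizer (zpowers y : Set G) →* zpowers y := MonoidHom.mk' (fun c => ⟨_, k c c.2⟩) fun c d => Subtype.ext (by
      show ⁅c.1 * d.1, n.1⁆ = ⁅c.1, n.1⁆ * ⁅d.1, n.1⁆
      rw [show ⁅c.1 * d.1, n.1⁆ = c * ⁅d.1, n.1⁆ * c.1⁻¹ * ⁅c.1, n.1⁆ by group, ← c.2 _ (k d d.2), mul_inv_cancel_right]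
      exact congrArg Subtype.val (mul_comm (⟨_, k d d.2⟩ : zpowers y) ⟨_, k c c.2⟩))
    have := Abelianization.commutator_subset_ker f (pf.ge (mem_top ⟨y, yC⟩))
    rw [r]
    exact ⟨n, mem_cent_zp.2 (commutatorElement_eq_one_iff_mul_comm.1 (congrArg Subtype.val this)).symm, rfl⟩

end Cfsg.Lib.Leech
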