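import Cfsg.Agent.Lib.Mon.Tri

/-! A 3-central subgroup of `C(z, s)` in a group of Monster type is a real commutator. -/

namespace Cfsg.Lib.Leech

open Subgroup Spor Cfsg.Lib.Golay
open scoped commutatorElement

theorem tri_phi {G : Type*} [Group G] {z : G} {R : Subgroup G} {π : centralizer ({z} : Set G) →* Co1} {Ov : leechLattice → G → Prop} (M : MT z R π Ov)
    {g : G} (hne : g * z * g⁻¹ ≠ z) (hv : Ov (e8 none) (g * z * g⁻¹)) :
    ∃ φ : ↥(centralizer {z} ⊓ centralizer {g * z * g⁻¹}) →* M24, Function.Surjective φ ∧ ∀ x, φ x = 1 → x ^ 8 = 1 := by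
  have h1 : ∀ l ∈ centralizer {z} ⊓ centralizer {g * z * g⁻¹}, ∃ k ∈ Mono, Mt π l k := fun l hl => by
    obtain ⟨k, hk⟩ := exists_mt (π := π) hl.1
    exact ⟨k, M.img_X hne hv ▸ mem_img.2 ⟨l, hl, hk⟩, hk⟩
  obtain ⟨φ, hφ⟩ := exists_tau monoPerm h1 fun _ => monoPerm_eq (c := Finset.univ) (hc := cw_univ) (by rw [prm_one, mul_one]; rfl)
  refine ⟨φ, fun σ => ?_, fun x hx => ?_⟩
  · obtain ⟨l, hl, a⟩ := mem_img.1 (M.img_X hne hv ▸ prm_mem_Mono σ)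
    exact ⟨⟨l, hl⟩, (hφ _ ⟨_, prm_mem_Mono σ⟩ a).trans (monoPerm_eq (c := ∅) (hc := cw_empty) (by rw [sgn_empty, one_mul]))⟩
  · obtain ⟨k, hk, a⟩ := h1 x x.2
    obtain ⟨c, hc, e⟩ := exists_sgn_monoPerm ⟨k, hk⟩
    rw [(hφ x ⟨k, hk⟩ a).symm.trans hx, prm_one, mul_one] at e
    have h2 := (M.mt_mem (a.mul a)).2 (Or.inl (by rw [show k = _ from e]; exact sgn_mul_self _))
    exact Subtype.ext (show (x : G) ^ (2 * 4) = 1 by rw [pow_mul, pow_two, M.pow_four h2])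

theorem tri_mon {G : Type*} [Group G] [Finite G] {z : G} {Q : Subgroup (centralizer ({z} : Set G))} [Q.Normal] (hM : IsOfMonsterType z Q) {s : G}
    (hsQ : ∃ hsc : s ∈ centralizer ({z} : Set G), (⟨s, hsc⟩ : centralizer ({z} : Set G)) ∈ Q) (hs : IsConj z s) (hs1 : s ≠ z) {Y : Subgroup G}
    (hY : Y ≤ centralizer ({z, s} : Set G)) (hY3 : Nat.card Y = 3)
    (hc : ∃ P : Sylow 3 (centralizer ({z, s} : Set G)), Y.subgroupOf (centralizer ({z, s} : Set G)) ≤ (center P.1).map P.1.subtype) :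
    ∃ y, Y = zpowers y ∧ orderOf y = 3 ∧ (∃ a ∈ centralizer (Y : Set G), ∃ b ∈ centralizer (Y : Set G), ⁅a, b⁆ = y) ∧ ∃ n, n * y * n⁻¹ = y⁻¹ := by
  obtain ⟨hS, e, ψ, hψ⟩ := hM
  obtain ⟨g, rfl⟩ := isConj_iff.1 hs
  have M := MT.of hS hψ
  obtain ⟨k, hk⟩ := M.exists_e8 ⟨_, hsQ.2, rfl⟩ hs1
  obtain ⟨φ, φ1, φ2⟩ := tri_phi (M.twist k) hs1 hk
  have : centralizer ({z, g * z * g⁻¹} : Set G) = centralizer {z} ⊓ centralizer {g * z * g⁻¹} := by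
    ext x; simp only [mem_inf, mem_centralizer_iff, Set.mem_insert_iff, Set.mem_singleton_iff, forall_eq_or_imp, forall_eq]
  rw [this] at hY hc
  refine tri_loc φ1 (fun x => ⟨3, Subtype.ext (φ2 x x.2)⟩) (fun a b ha hb t h => ?_) hY hY3 hc
  obtain ⟨c, rfl⟩ := φ1 t
  exact (odd_conj_lift φ φ2 (by decide) ha hb h).imp fun _ h => h.2

end Cfsg.Lib.Leech
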